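import Mathlib
import Cfsg.Agent.AutPSL.Struct
import Cfsg.Agent.S2475
import Cfsg.Agent.S2540

set_option autoImplicit false

/-!
# Subgroups of `Aut(PSL₂(q))` containing `PSL₂(q)` without elements of order 4 and without primes dividing three
element orders
-/

namespace Cfsg.Agent.CIT.Alm

open Cfsg.Agent.AutPSL Matrix

variable {F : Type*} [Field F] [Fintype F]

/-- abbreviation -/
abbrev PSL2 (F : Type*) [Field F] : Type _ := Matrix.ProjectiveSpecialLinearGroup (Fin 2) F

theorem hc2 : 2 ≤ Fintype.card (Fin 2) := by simp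

theorem cAut_eq_one_iff' (g : GL (Fin 2) F) :
    cAut g (RingEquiv.refl F) = 1 ↔ ∃ c : Fˣ, g = Matrix.GeneralLinearGroup.scalar (Fin 2) c := by
  rw [cAut_eq_one_iff hc2]
  simp

theorem mul_refl (g h : GL (Fin 2) F) : cAut g (RingEquiv.refl F) * cAut h (RingEquiv.refl F) =
    cAut (g * h) (RingEquiv.refl F) := by
  rw [← diagHom_apply, ← diagHom_apply, ← map_mul, diagHom_apply]

/-- the matrix of order 4 in `PGL₂` -/
def MM (h2 : (2 : F) ≠ 0) : GL (Fin 2) F :=
  Matrix.GeneralLinearGroup.mkOfDetNeZero !![1, -1; 1, 1] (by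
    rw [Matrix.det_fin_two_of]; norm_num; exact h2)

theorem coe_MM (h2 : (2 : F) ≠ 0) : (MM h2 : Matrix (Fin 2) (Fin 2) F) = !![1, -1; 1, 1] := rfl

theorem det_MM (h2 : (2 : F) ≠ 0) : ((Matrix.GeneralLinearGroup.det (MM h2) : Fˣ) : F) = 2 := by
  change (MM h2 : Matrix (Fin 2) (Fin 2) F).det = 2
  rw [coe_MM, Matrix.det_fin_two_of]; norm_num

theorem orderOf_MM (h2 : (2 : F) ≠ 0) : orderOf (cAut (MM h2) (RingEquiv.refl F)) = 4 := by
  haveI := Fact.mk Nat.prime_two
  have h4 : (4 : ℕ) = 2 ^ (1 + 1) := by norm_num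
  rw [h4]
  have e2 : (cAut (MM h2) (RingEquiv.refl F)) ^ 2 = cAut (MM h2 * MM h2) (RingEquiv.refl F) := by
    rw [pow_two, mul_refl]
  apply orderOf_eq_prime_pow
  · rw [pow_one, e2, cAut_eq_one_iff']
    rintro ⟨c, hc⟩
    have h1 := congrArg (fun A : GL (Fin 2) F => (A : Matrix (Fin 2) (Fin 2) F) 1 0) hc
    simp [coe_MM, Matrix.mul_apply, Fin.sum_univ_two, Matrix.scalar_apply] at h1
    apply h2
    rw [← h1]; norm_num
  · have : (2 : ℕ) ^ (1 + 1) = 2 * 2 := by norm_num
    rw [this, pow_mul, e2, pow_two, mul_refl, cAut_eq_one_iff']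
    refine ⟨Units.mk0 (-4) ?_, ?_⟩
    · have : (-4 : F) = -(2 * 2) := by norm_num
      rw [this]
      exact neg_ne_zero.2 (mul_ne_zero h2 h2)
    · apply Units.ext
      ext i j
      fin_cases i <;> fin_cases j <;>
        simp [coe_MM, Matrix.mul_apply, Fin.sum_univ_two, Matrix.scalar_apply] <;> norm_num

/-- elements of `SL₂` -/
theorem conj_mem {H : Subgroup (MulAut (PSL2 F))} (hInn : ∀ x : PSL2 F, MulAut.conj x ∈ H)
    (s : Matrix.SpecialLinearGroup (Fin 2) F) : cAut (Matrix.SpecialLinearGroup.toGL s) (RingEquiv.refl F) ∈ H := by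
  rw [← conj_toPSL]; exact hInn _

theorem inn_of_sq (g : GL (Fin 2) F) (h : IsSquare ((Matrix.GeneralLinearGroup.det g : Fˣ) : F)) :
    ∃ x : PSL2 F, cAut g (RingEquiv.refl F) = MulAut.conj x := by
  have h1 := (diagHom_mem_inn (F := F) (n := 2) le_rfl g).2 (by
    obtain ⟨c, hc⟩ := h
    have hc0 : c ≠ 0 := by
      rintro rfl
      rw [mul_zero] at hc
      exact (Matrix.GeneralLinearGroup.det g).ne_zero hc
    refine ⟨Units.mk0 c hc0, Units.ext ?_⟩
    rw [hc, pow_two]; rfl)
  obtain ⟨x, hx⟩ := h1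
  exact ⟨x, hx.symm⟩

theorem sq_of_even (h2 : (2 : F) = 0) (a : F) : IsSquare a := by
  haveI : CharP F 2 := CharTwo.of_one_ne_zero_of_two_eq_zero one_ne_zero h2
  exact FiniteField.isSquare_of_char_two (ringChar.eq_iff.mpr inferInstance) a

/-- elements of `H ∩ PGL₂` have square determinant -/
theorem sq_of_mem {H : Subgroup (MulAut (PSL2 F))} (hInn : ∀ x : PSL2 F, MulAut.conj x ∈ H)
    (e4 : ∀ x ∈ H, orderOf x ≠ 4) {g : GL (Fin 2) F} (hg : cAut g (RingEquiv.refl F) ∈ H) :
    IsSquare ((Matrix.GeneralLinearGroup.det g : Fˣ) : F) := by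
  classical
  by_cases h2 : (2 : F) = 0
  · exact sq_of_even h2 _
  by_contra hns
  have hF : ringChar F ≠ 2 := by
    intro h
    apply h2
    have := ringChar.Nat.cast_ringChar (R := F)
    rw [h] at this
    exact_mod_cast this
  have hM : cAut (MM h2) (RingEquiv.refl F) ∉ H := fun h => e4 _ h (orderOf_MM h2)
  have hM2 : ¬ IsSquare (2 : F) := by
    intro h
    rw [← det_MM h2] at h
    obtain ⟨x, hx⟩ := inn_of_sq _ h
    exact hM (hx ▸ hInn x)
  have hsq : IsSquare ((Matrix.GeneralLinearGroup.det (g⁻¹ * MM h2) : Fˣ) : F) := by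
    have h1 : quadraticChar F ((Matrix.GeneralLinearGroup.det g : Fˣ) : F) = -1 :=
      quadraticChar_neg_one_iff_not_isSquare.2 hns
    have h3 : quadraticChar F (2 : F) = -1 := quadraticChar_neg_one_iff_not_isSquare.2 hM2
    have h4 : ((Matrix.GeneralLinearGroup.det g : Fˣ) : F) * ((Matrix.GeneralLinearGroup.det (g⁻¹ * MM h2) : Fˣ) : F) = 2 := by
      rw [← Units.val_mul, ← map_mul, mul_inv_cancel_left, det_MM]
    have h5 := congrArg (quadraticChar F) h4
    rw [map_mul, h1, h3] at h5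
    have h6 : quadraticChar F ((Matrix.GeneralLinearGroup.det (g⁻¹ * MM h2) : Fˣ) : F) = 1 := by linarith
    exact (quadraticChar_one_iff_isSquare (Units.ne_zero _)).1 h6
  obtain ⟨x, hx⟩ := inn_of_sq _ hsq
  apply hM
  have h7 : cAut (MM h2) (RingEquiv.refl F) = cAut g (RingEquiv.refl F) * cAut (g⁻¹ * MM h2) (RingEquiv.refl F) := by
    rw [mul_refl, mul_inv_cancel_left]
  rw [h7, hx]
  exact mul_mem hg (hInn x)

omit [Fintype F] in
theorem isSquare_map (σ : F ≃+* F) (a : F) : IsSquare (σ a) ↔ IsSquare a := by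
  constructor
  · rintro ⟨b, hb⟩
    refine ⟨σ.symm b, ?_⟩
    rw [← map_mul, ← hb, RingEquiv.symm_apply_apply]
  · rintro ⟨b, hb⟩
    exact ⟨σ b, by rw [hb, map_mul]⟩

theorem quad_map [DecidableEq F] (σ : F ≃+* F) (a : F) : quadraticChar F (σ a) = quadraticChar F a := by
  rw [quadraticChar_apply, quadraticChar_apply]
  unfold quadraticCharFun
  simp only [map_eq_zero_iff σ σ.injective, isSquare_map]

omit [Fintype F] in
theorem det_mapGL (σ : F ≃+* F) (g : GL (Fin 2) F) :
    ((Matrix.GeneralLinearGroup.det (mapGL σ g) : Fˣ) : F) = σ ((Matrix.GeneralLinearGroup.det g : Fˣ) : F) := by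
  change (mapGL σ g : Matrix (Fin 2) (Fin 2) F).det = σ (g : Matrix (Fin 2) (Fin 2) F).det
  rw [coe_mapGL]
  exact (σ.map_det (g : Matrix (Fin 2) (Fin 2) F)).symm

theorem pow_cAut [DecidableEq F] (g : GL (Fin 2) F) (σ : RingAut F) (k : ℕ) :
    ∃ gk : GL (Fin 2) F, (cAut g σ) ^ k = cAut gk (σ ^ k : RingAut F) ∧
      quadraticChar F ((Matrix.GeneralLinearGroup.det gk : Fˣ) : F) =
        (quadraticChar F ((Matrix.GeneralLinearGroup.det g : Fˣ) : F)) ^ k := by
  induction k with
  | zero =>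
    refine ⟨1, ?_, by simp⟩
    rw [pow_zero, pow_zero]
    exact cAut_one.symm
  | succ k ih =>
    obtain ⟨gk, h1, h2⟩ := ih
    refine ⟨gk * mapGL (σ ^ k : RingAut F) g, ?_, ?_⟩
    · rw [pow_succ, h1, cAut_mul, pow_succ]
      rfl
    · rw [map_mul, Units.val_mul, map_mul, det_mapGL, quad_map, h2, pow_succ]

/-- the field automorphisms -/
def fld (F : Type*) [Field F] : RingAut F →* MulAut (Matrix.ProjectiveSpecialLinearGroup (Fin 2) F) :=
  MonoidHom.mk' (fun σ => cAut 1 σ) (by
    intro σ τ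
    rw [cAut_mul, map_one, mul_one]
    rfl)

omit [Fintype F] in
theorem fld_apply (σ : RingAut F) : fld F σ = cAut 1 σ := rfl

theorem fld_inj : Function.Injective (fld F) := by
  intro σ τ h
  exact ((cAut_eq_iff hc2 _ _ _ _).1 h).1

theorem fld_comm (σ : RingAut F) (s : Matrix.SpecialLinearGroup (Fin 2) F) (hs : (s : Matrix (Fin 2) (Fin 2) F).map σ = s) :
    fld F σ * cAut (Matrix.SpecialLinearGroup.toGL s) (RingEquiv.refl F) =
      cAut (Matrix.SpecialLinearGroup.toGL s) (RingEquiv.refl F) * fld F σ := by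
  rw [fld_apply, cAut_mul, cAut_mul, one_mul, map_one, mul_one]
  congr 1
  apply Units.ext
  rw [coe_mapGL]
  exact hs

omit [Fintype F] in
theorem mapGL_toGL (σ : F ≃+* F) (s : Matrix.SpecialLinearGroup (Fin 2) F) :
    mapGL σ (Matrix.SpecialLinearGroup.toGL s) =
      Matrix.SpecialLinearGroup.toGL (Matrix.SpecialLinearGroup.map (σ : F →+* F) s) := by
  apply Units.ext
  rfl

theorem conj_injective : Function.Injective (MulAut.conj : PSL2 F →* MulAut (PSL2 F)) := by
  rw [injective_iff_map_eq_one]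
  intro x hx
  obtain ⟨s, rfl⟩ := toPSL_surjective x
  rw [conj_toPSL, cAut_eq_one_iff'] at hx
  obtain ⟨c, hc⟩ := hx
  have h1 : (s : Matrix (Fin 2) (Fin 2) F) = Matrix.scalar (Fin 2) (c : F) :=
    congrArg (fun A : GL (Fin 2) F => (A : Matrix (Fin 2) (Fin 2) F)) hc
  have h2 : s ∈ Subgroup.center (Matrix.SpecialLinearGroup (Fin 2) F) := by
    rw [Matrix.SpecialLinearGroup.mem_center_iff]
    refine ⟨c, ?_, h1.symm⟩
    have h3 := s.2
    rw [h1, Matrix.scalar_apply, Matrix.det_diagonal] at h3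
    simpa using h3
  exact (QuotientGroup.eq_one_iff s).2 h2

theorem orderOf_conj (x : PSL2 F) : orderOf (MulAut.conj x) = orderOf x :=
  orderOf_injective (MulAut.conj : PSL2 F →* MulAut (PSL2 F)) conj_injective x

/-- an element of order 2 with integral entries -/
def ww (F : Type*) [Field F] : Matrix.SpecialLinearGroup (Fin 2) F := ⟨!![0, 1; -1, 0], by rw [Matrix.det_fin_two_of]; ring⟩

/-- an element of order 3 with integral entries -/
def vv (F : Type*) [Field F] : Matrix.SpecialLinearGroup (Fin 2) F := ⟨!![0, 1; -1, -1], by rw [Matrix.det_fin_two_of]; ring⟩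

/-- a transvection -/
def uu (x : F) : Matrix.SpecialLinearGroup (Fin 2) F := ⟨!![1, x; 0, 1], by rw [Matrix.det_fin_two_of]; ring⟩

omit [Fintype F] in
theorem uu_mul (x y : F) : uu x * uu y = uu (x + y) := by
  apply Subtype.ext
  change !![1, x; 0, 1] * !![1, y; 0, 1] = !![1, x + y; 0, 1]
  ext i j
  fin_cases i <;> fin_cases j <;> simp [Matrix.mul_apply, Fin.sum_univ_two]
  ring

omit [Fintype F] in
theorem map_uu (σ : F ≃+* F) (x : F) : Matrix.SpecialLinearGroup.map (σ : F →+* F) (uu x) = uu (σ x) := by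
  apply Subtype.ext
  change (!![1, x; 0, 1] : Matrix (Fin 2) (Fin 2) F).map σ = !![1, σ x; 0, 1]
  ext i j
  fin_cases i <;> fin_cases j <;> simp

theorem toGL_ne {s : Matrix.SpecialLinearGroup (Fin 2) F} (h : (s : Matrix (Fin 2) (Fin 2) F) 0 1 ≠ 0) :
    cAut (Matrix.SpecialLinearGroup.toGL s) (RingEquiv.refl F) ≠ 1 := by
  intro h1
  rw [cAut_eq_one_iff'] at h1
  obtain ⟨c, hc⟩ := h1
  have h2 := congrArg (fun A : GL (Fin 2) F => (A : Matrix (Fin 2) (Fin 2) F) 0 1) hc
  apply h
  change (s : Matrix (Fin 2) (Fin 2) F) 0 1 = _ at h2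
  rw [h2]
  simp [Matrix.scalar_apply]

theorem toGL_pow (s : Matrix.SpecialLinearGroup (Fin 2) F) (k : ℕ) :
    (cAut (Matrix.SpecialLinearGroup.toGL s) (RingEquiv.refl F)) ^ k =
      cAut (Matrix.SpecialLinearGroup.toGL (s ^ k)) (RingEquiv.refl F) := by
  rw [← diagHom_apply, ← map_pow, ← map_pow, diagHom_apply]

theorem orderOf_ww : orderOf (cAut (Matrix.SpecialLinearGroup.toGL (ww F)) (RingEquiv.refl F)) = 2 := by
  haveI := Fact.mk Nat.prime_two
  apply orderOf_eq_prime
  · rw [toGL_pow, cAut_eq_one_iff']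
    refine ⟨-1, ?_⟩
    apply Units.ext
    rw [pow_two]
    change (!![0, 1; -1, 0] * !![0, 1; -1, 0] : Matrix (Fin 2) (Fin 2) F) = Matrix.scalar (Fin 2) ((-1 : Fˣ) : F)
    ext i j
    fin_cases i <;> fin_cases j <;>
      simp [Matrix.mul_apply, Fin.sum_univ_two, Matrix.scalar_apply]
  · apply toGL_ne
    simp [ww]

theorem orderOf_vv : orderOf (cAut (Matrix.SpecialLinearGroup.toGL (vv F)) (RingEquiv.refl F)) = 3 := by
  haveI := Fact.mk Nat.prime_three
  apply orderOf_eq_prime
  · have h1 : vv F ^ 3 = 1 := by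
      apply Subtype.ext
      rw [pow_succ, pow_two]
      change (!![0, 1; -1, -1] * !![0, 1; -1, -1] * !![0, 1; -1, -1] : Matrix (Fin 2) (Fin 2) F) = 1
      ext i j
      fin_cases i <;> fin_cases j <;>
        simp [Matrix.mul_apply, Fin.sum_univ_two]
    rw [toGL_pow, h1, map_one]
    exact cAut_one
  · apply toGL_ne
    simp [vv]

theorem map_int (σ : RingAut F) : ((ww F : Matrix (Fin 2) (Fin 2) F).map σ = ww F) ∧
    ((vv F : Matrix (Fin 2) (Fin 2) F).map σ = vv F) := by
  constructor <;> ext i j <;> fin_cases i <;> fin_cases j <;> simp [ww, vv]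

theorem no_field {H : Subgroup (MulAut (PSL2 F))} (hInn : ∀ x : PSL2 F, MulAut.conj x ∈ H)
    (e4 : ∀ x ∈ H, orderOf x ≠ 4)
    (h3 : ∀ r : ℕ, r.Prime → ∀ a ∈ H, ∀ b ∈ H, ∀ c ∈ H, orderOf a ≠ orderOf b → orderOf b ≠ orderOf c →
      orderOf a ≠ orderOf c → ¬ (r ∣ orderOf a ∧ r ∣ orderOf b ∧ r ∣ orderOf c))
    (hq : 4 ≤ Fintype.card F) {g : GL (Fin 2) F} {σ : RingAut F} {r : ℕ} (hr : r.Prime) (hσ : orderOf σ = r)
    (hg : cAut g σ ∈ H) : False := by
  classical
  obtain ⟨p, hpF⟩ := CharP.exists F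
  have hp : p.Prime := (CharP.char_is_prime_or_zero F p).resolve_right (CharP.char_ne_zero_of_finite F p)
  haveI := Fact.mk hp
  haveI := Fact.mk hr
  obtain ⟨f, -, hf⟩ := FiniteField.card F p
  obtain ⟨-, hcard⟩ := ringAut_cyclic_card F hf
  have hrf : r ∣ (f : ℕ) := by rw [← hcard, ← hσ]; exact orderOf_dvd_natCard σ
  obtain ⟨k, hk⟩ := hrf
  have hspec := S2475.result (F := F) p hq
  have hord : ∀ m : ℕ, m ∣ p ∨ m ∣ (Fintype.card F - 1) / Nat.gcd 2 (Fintype.card F - 1) ∨
      m ∣ (Fintype.card F + 1) / Nat.gcd 2 (Fintype.card F - 1) → ∃ x ∈ H, orderOf x = m := by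
    intro m hm
    have h1 : m ∈ Set.range (orderOf : PSL2 F → ℕ) := by rw [hspec]; exact hm
    obtain ⟨x, hx⟩ := h1
    exact ⟨_, hInn x, by rw [orderOf_conj, hx]⟩
  have hodd2 : ∀ h2 : (2 : F) ≠ 0, Fintype.card F % 2 = 1 := by
    intro h2
    have : p ≠ 2 := by
      rintro rfl
      exact h2 (by exact_mod_cast CharP.cast_eq_zero F 2)
    rw [hf]
    exact Nat.odd_iff.1 ((hp.odd_of_ne_two this).pow)
  -- `r = 2` only in characteristic 2
  have hr2 : (2 : F) ≠ 0 → r ≠ 2 := by
    rintro h2 rfl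
    have h1 := hodd2 h2
    have h8 : Fintype.card F % 8 = 1 := by
      rw [hf, hk, mul_comm, pow_mul] at h1 ⊢
      generalize p ^ k = m at h1 ⊢
      have h5 : m % 2 = 1 := by
        rcases Nat.mod_two_eq_zero_or_one m with h6 | h6
        · rw [Nat.pow_mod, h6] at h1; norm_num at h1
        · exact h6
      have h6 : m % 8 = 1 ∨ m % 8 = 3 ∨ m % 8 = 5 ∨ m % 8 = 7 := by omega
      rcases h6 with h6 | h6 | h6 | h6 <;> rw [Nat.pow_mod, h6]
    have hgcd : Nat.gcd 2 (Fintype.card F - 1) = 2 := Nat.gcd_eq_left (by omega)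
    obtain ⟨x, hx, hx4⟩ := hord 4 (Or.inr (Or.inl (by rw [hgcd]; omega)))
    exact e4 x hx hx4
  -- `cAut 1 σ` is in `H`
  have hφ : fld F σ ∈ H := by
    have hsq : IsSquare ((Matrix.GeneralLinearGroup.det g : Fˣ) : F) := by
      by_cases h2 : (2 : F) = 0
      · exact sq_of_even h2 _
      · by_contra hns
        obtain ⟨gr, h5, h6⟩ := pow_cAut g σ r
        have h7 : cAut gr (RingEquiv.refl F) ∈ H := by
          have h8 : (σ ^ r : RingAut F) = RingEquiv.refl F := by rw [← hσ, pow_orderOf_eq_one]; rfl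
          rw [← h8, ← h5]
          exact pow_mem hg r
        have h8 := (quadraticChar_one_iff_isSquare (Units.ne_zero _)).2 (sq_of_mem hInn e4 h7)
        rw [h6, quadraticChar_neg_one_iff_not_isSquare.2 hns, (hr.odd_of_ne_two (hr2 h2)).neg_one_pow] at h8
        norm_num at h8
    obtain ⟨x, hx⟩ := inn_of_sq _ hsq
    have h5 : fld F σ = (cAut g (RingEquiv.refl F))⁻¹ * cAut g σ := by
      rw [eq_inv_mul_iff_mul_eq, fld_apply, cAut_mul, map_one, mul_one]
      rfl
    rw [h5, hx]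
    exact mul_mem (inv_mem (hInn x)) hg
  have hφr : orderOf (fld F σ) = r := by rw [orderOf_injective _ fld_inj, hσ]
  have hW : cAut (Matrix.SpecialLinearGroup.toGL (ww F)) (RingEquiv.refl F) ∈ H := conj_mem hInn _
  have hV : cAut (Matrix.SpecialLinearGroup.toGL (vv F)) (RingEquiv.refl F) ∈ H := conj_mem hInn _
  have hcW := fld_comm σ (ww F) (map_int σ).1
  have hcV := fld_comm σ (vv F) (map_int σ).2
  -- a moved element
  obtain ⟨x, hx⟩ : ∃ x, σ x ≠ x := by
    by_contra hcon
    push Not at hcon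
    have : σ = 1 := RingEquiv.ext hcon
    rw [this, orderOf_one] at hσ
    exact hr.one_lt.ne hσ
  have huσ : ∀ y : F, cAut (Matrix.SpecialLinearGroup.toGL (uu y)) σ ∈ H := by
    intro y
    have : cAut (Matrix.SpecialLinearGroup.toGL (uu y)) σ =
        cAut (Matrix.SpecialLinearGroup.toGL (uu y)) (RingEquiv.refl F) * fld F σ := by
      rw [fld_apply, cAut_mul, map_one, mul_one]
      rfl
    rw [this]
    exact mul_mem (conj_mem hInn _) hφ
  have hsq : ∀ (y : F) (τ : RingAut F) (z : F), cAut (Matrix.SpecialLinearGroup.toGL (uu z)) τ *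
      cAut (Matrix.SpecialLinearGroup.toGL (uu y)) σ = cAut (Matrix.SpecialLinearGroup.toGL (uu (z + τ y))) (τ * σ) := by
    intro y τ z
    rw [cAut_mul, mapGL_toGL, map_uu, ← map_mul, uu_mul]
    rfl
  have h01 : ∀ y : F, y ≠ 0 → cAut (Matrix.SpecialLinearGroup.toGL (uu y)) (RingEquiv.refl F) ≠ 1 := by
    intro y hy
    apply toGL_ne
    simpa [uu] using hy
  have huu : ∀ (y : F) (n : ℕ), uu y ^ n = uu (n * y) := by
    intro y n
    induction n with
    | zero =>
      rw [pow_zero]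
      apply Subtype.ext
      change (1 : Matrix (Fin 2) (Fin 2) F) = !![1, ((0 : ℕ) : F) * y; 0, 1]
      ext i j
      fin_cases i <;> fin_cases j <;> simp
    | succ n ih =>
      rw [pow_succ, ih, uu_mul]
      congr 1
      push_cast
      ring
  have huu0 : uu (0 : F) = 1 := by
    apply Subtype.ext
    ext i j
    fin_cases i <;> fin_cases j <;> simp [uu]
  rcases eq_or_ne r 2 with rfl | hrn2
  · -- field automorphism of order 2
    have h2 : (2 : F) = 0 := by
      by_contra h2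
      exact hr2 h2 rfl
    apply e4 _ (huσ x)
    have h22 : (4 : ℕ) = 2 ^ (1 + 1) := by norm_num
    rw [h22]
    have hσ2 : σ * σ = 1 := by rw [← pow_two, ← hσ, pow_orderOf_eq_one]
    have hs2 : (cAut (Matrix.SpecialLinearGroup.toGL (uu x)) σ) ^ 2 =
        cAut (Matrix.SpecialLinearGroup.toGL (uu (x + σ x))) (RingEquiv.refl F) := by
      rw [pow_two, hsq, hσ2]
      rfl
    apply orderOf_eq_prime_pow
    · rw [pow_one, hs2]
      apply h01
      intro h5
      apply hx
      have h6 : σ x = -x := by linear_combination h5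
      have h7 : -x = x := by linear_combination (-x) * h2
      rw [h6, h7]
    · have : (2 : ℕ) ^ (1 + 1) = 2 * 2 := by norm_num
      rw [this, pow_mul, hs2, toGL_pow, huu]
      have : ((2 : ℕ) : F) * (x + σ x) = 0 := by push_cast; rw [h2, zero_mul]
      rw [this, huu0, map_one]
      exact cAut_one
  · -- odd order
    have ho2 : orderOf (fld F σ * cAut (Matrix.SpecialLinearGroup.toGL (ww F)) (RingEquiv.refl F)) = r * 2 := by
      have h5 : Commute (fld F σ) (cAut (Matrix.SpecialLinearGroup.toGL (ww F)) (RingEquiv.refl F)) := hcW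
      rw [h5.orderOf_mul_eq_mul_orderOf_of_coprime, hφr, orderOf_ww]
      rw [hφr, orderOf_ww]
      exact (Nat.coprime_primes hr Nat.prime_two).2 hrn2
    rcases eq_or_ne r 3 with rfl | hrn3
    · -- an element of order 9
      obtain ⟨y, hy, hy9⟩ : ∃ y ∈ H, orderOf y = 9 := by
        by_cases hp3 : p = 3
        · subst hp3
          have h30 : (3 : F) = 0 := by exact_mod_cast CharP.cast_eq_zero F 3
          have hσ3 : σ * σ * σ = 1 := by
            have : σ ^ 3 = 1 := by rw [← hσ, pow_orderOf_eq_one]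
            rw [← this]; rfl
          have hσ3' : ∀ z, σ (σ (σ z)) = z := by
            intro z
            have := congrArg (fun τ : RingAut F => τ z) hσ3
            exact this
          obtain ⟨z, hz⟩ : ∃ z, z + σ z + σ (σ z) ≠ 0 := by
            by_contra hcon
            push Not at hcon
            have h5 := hcon x
            have h6 := hcon (x * x)
            rw [map_mul, map_mul] at h6
            have h7 : σ (σ x) = -x - σ x := by linear_combination h5
            rw [h7] at h6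
            have h8 : (x - σ x) * (x - σ x) = 0 := by linear_combination (x * x + σ x * σ x) * h30 - h6
            have h9 : x - σ x = 0 := mul_self_eq_zero.1 h8
            exact hx (sub_eq_zero.1 h9).symm
          refine ⟨_, huσ z, ?_⟩
          have h33 : (9 : ℕ) = 3 ^ (1 + 1) := by norm_num
          rw [h33]
          have hs3 : (cAut (Matrix.SpecialLinearGroup.toGL (uu z)) σ) ^ 3 =
              cAut (Matrix.SpecialLinearGroup.toGL (uu (z + σ z + σ (σ z)))) (RingEquiv.refl F) := by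
            rw [pow_succ, pow_two, hsq, hsq, hσ3]
            rfl
          haveI := Fact.mk Nat.prime_three
          apply orderOf_eq_prime_pow
          · rw [pow_one, hs3]
            exact h01 _ hz
          · have : (3 : ℕ) ^ (1 + 1) = 3 * 3 := by norm_num
            rw [this, pow_mul, hs3, toGL_pow, huu]
            have : ((3 : ℕ) : F) * (z + σ z + σ (σ z)) = 0 := by push_cast; rw [h30, zero_mul]
            rw [this, huu0, map_one]
            exact cAut_one
        · apply hord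
          right
          have h9 : Fintype.card F % 9 = 1 ∨ Fintype.card F % 9 = 8 := by
            rw [hf, hk, mul_comm, pow_mul]
            have h5 : ¬ 3 ∣ p ^ k := fun h5 =>
              hp3 ((Nat.prime_dvd_prime_iff_eq Nat.prime_three hp).1 (Nat.prime_three.dvd_of_dvd_pow h5)).symm
            generalize p ^ k = m at h5
            have h6 : m % 9 = 1 ∨ m % 9 = 2 ∨ m % 9 = 4 ∨ m % 9 = 5 ∨ m % 9 = 7 ∨ m % 9 = 8 := by omega
            rcases h6 with h6 | h6 | h6 | h6 | h6 | h6 <;> rw [Nat.pow_mod, h6] <;> norm_num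
          rcases Nat.mod_two_eq_zero_or_one (Fintype.card F) with h5 | h5
          · have hgcd : Nat.gcd 2 (Fintype.card F - 1) = 1 :=
              (Nat.Prime.coprime_iff_not_dvd Nat.prime_two).2 (by omega)
            rw [hgcd]
            omega
          · have hgcd : Nat.gcd 2 (Fintype.card F - 1) = 2 := Nat.gcd_eq_left (by omega)
            rw [hgcd]
            omega
      refine h3 3 Nat.prime_three _ hφ _ (mul_mem hφ hW) _ hy ?_ ?_ ?_ ?_
      · rw [hφr, ho2]; norm_num
      · rw [ho2, hy9]; norm_num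
      · rw [hφr, hy9]; norm_num
      · rw [hφr, ho2, hy9]; norm_num
    · have ho3 : orderOf (fld F σ * cAut (Matrix.SpecialLinearGroup.toGL (vv F)) (RingEquiv.refl F)) = r * 3 := by
        have h5 : Commute (fld F σ) (cAut (Matrix.SpecialLinearGroup.toGL (vv F)) (RingEquiv.refl F)) := hcV
        rw [h5.orderOf_mul_eq_mul_orderOf_of_coprime, hφr, orderOf_vv]
        rw [hφr, orderOf_vv]
        exact (Nat.coprime_primes hr Nat.prime_three).2 hrn3
      have hrp := hr.pos
      refine h3 r hr _ hφ _ (mul_mem hφ hW) _ (mul_mem hφ hV) ?_ ?_ ?_ ?_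
      · rw [hφr, ho2]; omega
      · rw [ho2, ho3]; omega
      · rw [hφr, ho3]; omega
      · rw [hφr, ho2, ho3]
        exact ⟨dvd_rfl, dvd_mul_right _ _, dvd_mul_right _ _⟩

theorem eq_inn {H : Subgroup (MulAut (PSL2 F))} (hInn : ∀ x : PSL2 F, MulAut.conj x ∈ H)
    (e4 : ∀ x ∈ H, orderOf x ≠ 4)
    (h3 : ∀ r : ℕ, r.Prime → ∀ a ∈ H, ∀ b ∈ H, ∀ c ∈ H, orderOf a ≠ orderOf b → orderOf b ≠ orderOf c →
      orderOf a ≠ orderOf c → ¬ (r ∣ orderOf a ∧ r ∣ orderOf b ∧ r ∣ orderOf c))
    (hq : 4 ≤ Fintype.card F) : ∀ α ∈ H, ∃ x : PSL2 F, α = MulAut.conj x := by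
  classical
  intro α hα
  obtain ⟨g, σ, rfl⟩ := aut_classify_two α
  haveI : Finite (RingAut F) := Finite.of_injective (fun σ : RingAut F => (σ : F → F)) (fun a b h => RingEquiv.ext (congrFun h))
  have hσ : (σ : RingAut F) = 1 := by
    by_contra hne
    have h1 : orderOf (σ : RingAut F) ≠ 1 := fun h => hne (orderOf_eq_one_iff.1 h)
    obtain ⟨r, hr, hrd⟩ := Nat.exists_prime_and_dvd h1
    obtain ⟨gk, h5, -⟩ := pow_cAut g σ (orderOf (σ : RingAut F) / r)
    have h6 : orderOf ((σ : RingAut F) ^ (orderOf (σ : RingAut F) / r)) = r := by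
      rw [orderOf_pow_of_dvd (Nat.div_pos (Nat.le_of_dvd (orderOf_pos _) hrd) hr.pos).ne' (Nat.div_dvd_of_dvd hrd),
        Nat.div_div_self hrd (orderOf_pos _).ne']
    exact no_field hInn e4 h3 hq hr h6 (by rw [← h5]; exact pow_mem hα _)
  subst hσ
  exact inn_of_sq g (sq_of_mem hInn e4 hα)

/-- **almost simple groups** with socle `PSL₂(q)` -/
theorem top_of_psl {G : Type*} [Group G] (L : Subgroup G) [hL : L.Normal]
    (hC : Subgroup.centralizer (L : Set G) = ⊥) (hq : 4 ≤ Fintype.card F) (e : L ≃* PSL2 F)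
    (e4 : ∀ x : G, orderOf x ≠ 4)
    (h3 : ∀ r : ℕ, r.Prime → ∀ a b c : G, orderOf a ≠ orderOf b → orderOf b ≠ orderOf c →
      orderOf a ≠ orderOf c → ¬ (r ∣ orderOf a ∧ r ∣ orderOf b ∧ r ∣ orderOf c)) : L = ⊤ := by
  let ψ : G →* MulAut (PSL2 F) := (MulAut.congr e).toMonoidHom.comp MulAut.conjNormal
  have hψ : ∀ (g : G) (l : L), ψ g (e l) = e (MulAut.conjNormal g l) := by
    intro g l
    change e (MulAut.conjNormal g (e.symm (e l))) = _
    rw [e.symm_apply_apply]
  have hinj : Function.Injective ψ := by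
    rw [injective_iff_map_eq_one]
    intro g hg
    have h1 : g ∈ Subgroup.centralizer (L : Set G) := by
      rw [Subgroup.mem_centralizer_iff]
      intro l hl
      have h2 := hψ g ⟨l, hl⟩
      rw [hg, MulAut.one_apply] at h2
      have h4 := congrArg Subtype.val (e.injective h2)
      rw [MulAut.conjNormal_apply] at h4
      change l = g * l * g⁻¹ at h4
      calc l * g = g * l * g⁻¹ * g := by rw [← h4]
        _ = g * l := by group
    rw [hC, Subgroup.mem_bot] at h1
    exact h1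
  have hLψ : ∀ l : L, ψ (l : G) = MulAut.conj (e l) := by
    intro l
    apply MulEquiv.ext
    intro x
    obtain ⟨m, rfl⟩ := e.surjective x
    rw [hψ, MulAut.conj_apply, ← map_inv, ← map_mul, ← map_mul]
    congr 1
  have key := eq_inn (H := ψ.range) (F := F) (by
    intro x
    obtain ⟨l, rfl⟩ := e.surjective x
    exact ⟨l, hLψ l⟩) (by
    rintro _ ⟨x, rfl⟩
    rw [orderOf_injective ψ hinj]
    exact e4 x) (by
    rintro r hr _ ⟨a, rfl⟩ _ ⟨b, rfl⟩ _ ⟨c, rfl⟩
    rw [orderOf_injective ψ hinj, orderOf_injective ψ hinj, orderOf_injective ψ hinj]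
    exact h3 r hr a b c) hq
  rw [eq_top_iff]
  intro g _
  obtain ⟨x, hx⟩ := key (ψ g) ⟨g, rfl⟩
  obtain ⟨l, rfl⟩ := e.surjective x
  rw [← hLψ] at hx
  rw [hinj hx]
  exact l.2

end Cfsg.Agent.CIT.Alm
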