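import Mathlib
import Cfsg.Agent.H67.OddReal
import Cfsg.Agent.H80.SylowIn

set_option autoImplicit false

/-!
# CIT groups I: quadratic offenders on modules where elements of odd order act fixed point freely
-/

namespace Cfsg.Agent.CIT

open Subgroup Cfsg.Agent.H80

/-- A finite group acting on an elementary abelian 2-group such that elements of odd order act
fixed point freely, with `O_2 = 1` and centralizers of involutions 2-groups. -/
structure FPF (X V : Type*) [Group X] [Group V] [MulDistribMulAction X V] : Prop where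
  two : ∀ v : V, v * v = 1
  ne : ∃ v : V, v ≠ 1
  odd : ∀ x : X, x ≠ 1 → Odd (orderOf x) → ∀ v : V, x • v = v → v = 1
  red : ∀ N : Subgroup X, N.Normal → IsPGroup 2 N → N = ⊥
  cit : ∀ t : X, orderOf t = 2 → IsPGroup 2 (Subgroup.centralizer ({t} : Set X))

theorem exists_odd_pow {X : Type*} [Group X] [Finite X] (x : X) (h : ¬ ∃ k, orderOf x = 2 ^ k) :
    ∃ n : ℕ, x ^ n ≠ 1 ∧ Odd (orderOf (x ^ n)) := by
  obtain ⟨a, m, hm, hx⟩ := Nat.exists_eq_two_pow_mul_odd (orderOf_pos x).ne'
  have h1 : orderOf (x ^ (2 ^ a)) = m := by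
    rw [orderOf_pow_of_dvd (by positivity) (by rw [hx]; exact Dvd.intro _ rfl), hx]
    exact Nat.mul_div_cancel_left m (by positivity)
  refine ⟨2 ^ a, ?_, by rw [h1]; exact hm⟩
  intro h2
  rw [h2, orderOf_one] at h1
  apply h
  exact ⟨a, by rw [hx, ← h1, mul_one]⟩

theorem isPGroup_two_of {X : Type*} [Group X] {P : Subgroup X}
    (h : ∀ x ∈ P, ∃ k, orderOf x = 2 ^ k) : IsPGroup 2 P := by
  rintro ⟨x, hx⟩
  obtain ⟨k, hk⟩ := h x hx
  exact ⟨k, Subtype.ext (by rw [Subgroup.coe_pow, ← hk, pow_orderOf_eq_one]; rfl)⟩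

theorem orderOf_of_isPGroup {X : Type*} [Group X] {P : Subgroup X} (h : IsPGroup 2 P) {x : X}
    (hx : x ∈ P) : ∃ k, orderOf x = 2 ^ k := by
  haveI : Fact (Nat.Prime 2) := ⟨Nat.prime_two⟩
  obtain ⟨k, hk⟩ := (IsPGroup.iff_orderOf.mp h) ⟨x, hx⟩
  exact ⟨k, by rw [← hk, Subgroup.orderOf_mk]⟩

/-- an element of order a power of two, not trivial, has a power which is an involution -/
theorem exists_pow_two {X : Type*} [Group X] {x : X} (hx : x ≠ 1) (h : ∃ k, orderOf x = 2 ^ k) :
    ∃ n : ℕ, orderOf (x ^ n) = 2 := by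
  obtain ⟨k, hk⟩ := h
  have hk0 : k ≠ 0 := by
    rintro rfl
    exact hx (orderOf_eq_one_iff.mp (by simpa using hk))
  obtain ⟨j, rfl⟩ := Nat.exists_eq_succ_of_ne_zero hk0
  refine ⟨2 ^ j, ?_⟩
  rw [orderOf_pow_of_dvd (by positivity) (by rw [hk, pow_succ]; exact Dvd.intro _ rfl), hk, pow_succ]
  exact Nat.mul_div_cancel_left 2 (by positivity)

section fix
variable {X V : Type*} [Group X] [Group V] [MulDistribMulAction X V]

/-- fixed points of a set -/
def Fix (V : Type*) {X : Type*} [Group X] [Group V] [MulDistribMulAction X V] (S : Set X) : Subgroup V where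
  carrier := {v | ∀ x ∈ S, x • v = v}
  mul_mem' := fun {a b} ha hb x hx => by rw [smul_mul', ha x hx, hb x hx]
  one_mem' := fun x _ => smul_one x
  inv_mem' := fun {a} ha x hx => by rw [smul_inv', ha x hx]

theorem mem_Fix {S : Set X} {v : V} : v ∈ Fix V S ↔ ∀ x ∈ S, x • v = v := Iff.rfl

theorem mem_Fix_singleton {x : X} {v : V} : v ∈ Fix V ({x} : Set X) ↔ x • v = v := by
  rw [mem_Fix]; simp

theorem Fix_mono {S T : Set X} (h : S ⊆ T) : Fix V T ≤ Fix V S := fun _ hv x hx => hv x (h hx)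

theorem smul_Fix_iff {A : Subgroup X} {g : X} {v : V} :
    v ∈ Fix V (cj g A : Set X) ↔ g⁻¹ • v ∈ Fix V (A : Set X) := by
  rw [mem_Fix, mem_Fix]
  constructor
  · intro h a ha
    have h1 := h (g * a * g⁻¹) (by
      show g * a * g⁻¹ ∈ cj g A
      rw [mem_cj]
      have : g⁻¹ * (g * a * g⁻¹) * g = a := by group
      rw [this]; exact ha)
    rw [mul_smul, mul_smul] at h1
    rw [eq_inv_smul_iff]; exact h1
  · intro h x hx
    have hx' : g⁻¹ * x * g ∈ A := mem_cj.mp hx
    have h1 := h _ hx'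
    rw [mul_smul, mul_smul, smul_inv_smul] at h1
    exact smul_left_cancel g⁻¹ h1

end fix

namespace FPF
variable {X V : Type*} [Group X] [Finite X] [Group V] [Finite V] [MulDistribMulAction X V]

omit [Finite X] [Finite V] in
theorem inv (h : FPF X V) (a : V) : a⁻¹ = a := inv_eq_of_mul_eq_one_left (h.two a)

omit [Finite X] [Finite V] in
theorem comm (h : FPF X V) (a b : V) : a * b = b * a := by
  have h1 := h.inv (a * b)
  rw [mul_inv_rev, h.inv, h.inv] at h1
  exact h1.symm

omit [Finite V] in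
/-- stabilizers of nontrivial elements are 2-groups -/
theorem order_of_fix (h : FPF X V) {x : X} {v : V} (hv : v ≠ 1) (hx : x • v = v) :
    ∃ k, orderOf x = 2 ^ k := by
  by_contra hk
  obtain ⟨n, hn, ho⟩ := exists_odd_pow x hk
  apply hv
  apply h.odd _ hn ho v
  have : ∀ n : ℕ, x ^ n • v = v := by
    intro n
    induction n with
    | zero => simp
    | succ n ih => rw [pow_succ, mul_smul, hx, ih]
  exact this n

omit [Finite V] in
theorem faithful (h : FPF X V) {x : X} (hx : ∀ v : V, x • v = v) : x = 1 := by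
  let K : Subgroup X :=
    { carrier := {y | ∀ v : V, y • v = v}
      mul_mem' := fun {a b} ha hb v => by rw [mul_smul, hb v, ha v]
      one_mem' := fun v => one_smul X v
      inv_mem' := fun {a} ha v => by
        have := ha (a⁻¹ • v)
        rw [smul_inv_smul] at this
        exact this.symm }
  have hK : K.Normal := ⟨fun y hy g v => by
    show (g * y * g⁻¹) • v = v
    rw [mul_smul, mul_smul, (hy : ∀ v : V, y • v = v), smul_inv_smul]⟩
  obtain ⟨v, hv⟩ := h.ne
  have hp : IsPGroup 2 K := isPGroup_two_of fun y hy => h.order_of_fix hv ((hy : ∀ v : V, y • v = v) v)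
  have h1 := h.red K hK hp
  have h2 : x ∈ K := hx
  rw [h1] at h2
  exact Subgroup.mem_bot.mp h2

omit [Finite X] [Finite V] in
/-- the commutator homomorphism -/
def del (h : FPF X V) (x : X) : V →* V where
  toFun v := x • v * v
  map_one' := by rw [smul_one, mul_one]
  map_mul' a b := by
    rw [smul_mul']
    calc x • a * x • b * (a * b) = x • a * (x • b * a) * b := by group
      _ = x • a * (a * x • b) * b := by rw [h.comm (x • b) a]
      _ = x • a * a * (x • b * b) := by group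

omit [Finite X] in
theorem card_le_sq (h : FPF X V) (x : X) (hx : x * x = 1) :
    Nat.card V ≤ Nat.card (Fix V ({x} : Set X)) ^ 2 := by
  have h1 : (h.del x).range ≤ Fix V ({x} : Set X) := by
    rintro _ ⟨v, rfl⟩
    rw [mem_Fix_singleton]
    show x • (x • v * v) = x • v * v
    rw [smul_mul', ← mul_smul, hx, one_smul, h.comm]
  have h2 : (h.del x).ker = Fix V ({x} : Set X) := by
    ext v
    rw [MonoidHom.mem_ker, mem_Fix_singleton]
    show x • v * v = 1 ↔ _
    rw [mul_eq_one_iff_eq_inv, h.inv]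
  have h3 : Nat.card V = Nat.card (h.del x).ker * Nat.card (h.del x).range := by
    rw [← Subgroup.index_ker, mul_comm]
    exact ((h.del x).ker.index_mul_card).symm
  rw [h3, h2, pow_two]
  exact Nat.mul_le_mul_left _ (Subgroup.card_le_of_le h1)

/-- an involution has a conjugate with disjoint fixed points -/
theorem exists_disj (h : FPF X V) {e : X} (he : orderOf e = 2) :
    ∃ g : X, ∀ v : V, e • v = v → (g * e * g⁻¹) • v = v → v = 1 := by
  haveI : Fact (Nat.Prime 2) := ⟨Nat.prime_two⟩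
  by_contra hcon
  push Not at hcon
  have he2 : e ^ 2 = 1 := by rw [← he]; exact pow_orderOf_eq_one e
  obtain ⟨N, hN, hNp, heN⟩ := Cfsg.Agent.H4.baer_suzuki_elem (p := 2) e (fun g => by
    obtain ⟨v, hv1, hv2, hv3⟩ := hcon g
    apply H67.isPGroup_closure_pair_of_involutions he2
    · rw [conj_pow, he2]; simp
    · apply h.order_of_fix hv3
      rw [mul_smul, hv2, hv1])
  have := h.red N hN hNp
  rw [this, Subgroup.mem_bot] at heN
  rw [heN, orderOf_one] at he
  omega

theorem card_fix_sq (h : FPF X V) {e : X} (he : orderOf e = 2) :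
    Nat.card (Fix V ({e} : Set X)) ^ 2 = Nat.card V := by
  have he2 : e * e = 1 := by rw [← pow_two, ← he]; exact pow_orderOf_eq_one e
  apply le_antisymm _ (h.card_le_sq e he2)
  obtain ⟨g, hg⟩ := h.exists_disj he
  let f : Fix V ({e} : Set X) × Fix V ({e} : Set X) → V := fun p => (p.1 : V) * g • (p.2 : V)
  have hf : Function.Injective f := by
    rintro ⟨a, b⟩ ⟨a', b'⟩ hab
    have hab' : (a : V) * g • (b : V) = a' * g • (b' : V) := hab
    have ha := mem_Fix_singleton.mp a.2
    have hb := mem_Fix_singleton.mp b.2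
    have ha' := mem_Fix_singleton.mp a'.2
    have hb' := mem_Fix_singleton.mp b'.2
    have key : (a' : V)⁻¹ * a = g • ((b' : V) * (b : V)⁻¹) := by
      rw [smul_mul', smul_inv', inv_mul_eq_iff_eq_mul, ← mul_assoc, ← hab', mul_inv_cancel_right]
    have h1 : (a' : V)⁻¹ * a = 1 := by
      apply hg
      · rw [smul_mul', smul_inv', ha, ha']
      · rw [key, mul_smul, mul_smul, inv_smul_smul, smul_mul', smul_inv', hb, hb']
    have h2 : (a : V) = a' := (inv_mul_eq_one.mp h1).symm
    rw [h1] at key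
    have h3 : (b' : V) * (b : V)⁻¹ = 1 := by
      have := congrArg (fun z => g⁻¹ • z) key
      simp only [inv_smul_smul, smul_one] at this
      exact this.symm
    have h4 : (b' : V) = b := mul_inv_eq_one.mp h3
    exact Prod.ext (Subtype.ext h2) (Subtype.ext h4.symm)
  rw [pow_two, ← Nat.card_prod]
  exact Nat.card_le_card_of_injective f hf

/-- a quadratic offender -/
structure Off (h : FPF X V) (A : Subgroup X) : Prop where
  ne_bot : A ≠ ⊥
  quad : ∀ a ∈ A, ∀ b ∈ A, ∀ v : V, b • (a • v * v) = a • v * v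
  off : Nat.card V ≤ Nat.card A * Nat.card (Fix V (A : Set X))

namespace Off
variable {h : FPF X V} {A : Subgroup X}

theorem sq (H : Off h A) {a : X} (ha : a ∈ A) : a * a = 1 := by
  apply h.faithful
  intro v
  have h1 := H.quad a ha a ha v
  rw [smul_mul', ← mul_smul] at h1
  have h2 : (a * a) • v = a • v * v * (a • v)⁻¹ := eq_mul_inv_of_mul_eq h1
  rw [h2, h.comm (a • v) v, mul_inv_cancel_right]

theorem orderOf_eq (H : Off h A) {a : X} (ha : a ∈ A) (ha1 : a ≠ 1) : orderOf a = 2 :=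
  orderOf_eq_prime (by rw [pow_two]; exact H.sq ha) ha1

theorem isPGroup (H : Off h A) : IsPGroup 2 A := by
  apply isPGroup_two_of
  intro x hx
  by_cases hx1 : x = 1
  · exact ⟨0, by rw [hx1, orderOf_one, pow_zero]⟩
  · exact ⟨1, by rw [H.orderOf_eq hx hx1, pow_one]⟩

theorem fix_eq (H : Off h A) {a : X} (ha : a ∈ A) (ha1 : a ≠ 1) :
    Fix V ({a} : Set X) = Fix V (A : Set X) := by
  have h0 : Fix V (A : Set X) ≤ Fix V ({a} : Set X) := Fix_mono (Set.singleton_subset_iff.mpr ha)
  have h1 : (h.del a).range ≤ Fix V (A : Set X) := by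
    rintro _ ⟨v, rfl⟩ b hb
    exact H.quad a ha b hb v
  have h2 : (h.del a).ker = Fix V ({a} : Set X) := by
    ext v
    rw [MonoidHom.mem_ker, mem_Fix_singleton]
    show a • v * v = 1 ↔ _
    rw [mul_eq_one_iff_eq_inv, h.inv]
  have h3 : Nat.card V = Nat.card (h.del a).ker * Nat.card (h.del a).range := by
    rw [← Subgroup.index_ker, mul_comm]
    exact ((h.del a).ker.index_mul_card).symm
  have h4 := h.card_fix_sq (H.orderOf_eq ha ha1)
  rw [← h4, h2, pow_two] at h3
  have hpos : 0 < Nat.card (Fix V ({a} : Set X)) := Nat.card_pos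
  have h5 : Nat.card (Fix V ({a} : Set X)) = Nat.card (h.del a).range :=
    Nat.eq_of_mul_eq_mul_left hpos h3
  symm
  apply Subgroup.eq_of_le_of_card_ge h0
  rw [h5]
  exact Subgroup.card_le_of_le h1

theorem exists_ne (H : Off h A) : ∃ a ∈ A, a ≠ 1 := by
  by_contra hcon
  push Not at hcon
  exact H.ne_bot ((Subgroup.eq_bot_iff_forall _).mpr hcon)

theorem card_V (H : Off h A) : Nat.card V = Nat.card (Fix V (A : Set X)) ^ 2 := by
  obtain ⟨a, ha, ha1⟩ := H.exists_ne
  rw [← H.fix_eq ha ha1, h.card_fix_sq (H.orderOf_eq ha ha1)]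

theorem eq_of_smul_eq (H : Off h A) {v : V} (hv : v ∉ Fix V (A : Set X)) {a b : X} (ha : a ∈ A)
    (hb : b ∈ A) (hab : a • v = b • v) : a = b := by
  by_contra hne
  apply hv
  have h1 : b⁻¹ * a ≠ 1 := fun h => hne (inv_mul_eq_one.mp h).symm
  rw [← H.fix_eq (mul_mem (inv_mem hb) ha) h1, mem_Fix_singleton, mul_smul, hab, inv_smul_smul]

theorem one_lt (H : Off h A) : 1 < Nat.card (Fix V (A : Set X)) := by
  by_contra hcon
  have h1 : Nat.card (Fix V (A : Set X)) = 1 := by
    have : 0 < Nat.card (Fix V (A : Set X)) := Nat.card_pos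
    omega
  have h2 := H.card_V
  rw [h1, one_pow] at h2
  obtain ⟨v, hv⟩ := h.ne
  have := (Nat.card_eq_one_iff_unique.mp h2).1
  exact hv (Subsingleton.elim _ _)

theorem exists_not_mem (H : Off h A) : ∃ v : V, v ∉ Fix V (A : Set X) := by
  by_contra hcon
  push Not at hcon
  have h1 : Fix V (A : Set X) = ⊤ := (Subgroup.eq_top_iff' _).mpr hcon
  have h2 := H.card_V
  have h3 := H.one_lt
  rw [h1, Subgroup.card_top] at h2
  rw [h1, Subgroup.card_top] at h3
  nlinarith

theorem card_A (H : Off h A) : Nat.card A = Nat.card (Fix V (A : Set X)) := by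
  have hpos : 0 < Nat.card (Fix V (A : Set X)) := Nat.card_pos
  have h1 : Nat.card (Fix V (A : Set X)) ≤ Nat.card A := by
    have := H.off
    rw [H.card_V, pow_two] at this
    exact Nat.le_of_mul_le_mul_right this hpos
  apply le_antisymm _ h1
  obtain ⟨v, hv⟩ := H.exists_not_mem
  let f : A → Fix V (A : Set X) := fun a => ⟨(a : X) • v * v, fun b hb => H.quad a a.2 b hb v⟩
  apply Nat.card_le_card_of_injective f
  intro a b hab
  apply Subtype.ext
  apply H.eq_of_smul_eq hv a.2 b.2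
  exact mul_right_cancel (congrArg Subtype.val hab)

/-- regularity -/
theorem exists_smul (H : Off h A) {v w : V} (hv : v ∉ Fix V (A : Set X)) (hw : w ∈ Fix V (A : Set X)) :
    ∃ a ∈ A, a • v = v * w := by
  let f : A → Fix V (A : Set X) := fun a => ⟨(a : X) • v * v, fun b hb => H.quad a a.2 b hb v⟩
  have hf : Function.Injective f := by
    intro a b hab
    apply Subtype.ext
    apply H.eq_of_smul_eq hv a.2 b.2
    exact mul_right_cancel (congrArg Subtype.val hab)
  have hs : Function.Surjective f :=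
    ((Nat.bijective_iff_injective_and_card f).mpr ⟨hf, H.card_A⟩).2
  obtain ⟨a, ha⟩ := hs ⟨w, hw⟩
  refine ⟨a, a.2, ?_⟩
  have h1 : (a : X) • v * v = w := congrArg Subtype.val ha
  rw [← h1, h.comm v, mul_assoc, h.two, mul_one]

/-- conjugates are offenders -/
theorem conj (H : Off h A) (g : X) : Off h (cj g A) where
  ne_bot := by
    obtain ⟨a, ha, ha1⟩ := H.exists_ne
    intro hb
    have : g * a * g⁻¹ ∈ cj g A := by
      rw [mem_cj]
      have : g⁻¹ * (g * a * g⁻¹) * g = a := by group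
      rw [this]; exact ha
    rw [hb, Subgroup.mem_bot] at this
    apply ha1
    have h2 : a = g⁻¹ * (g * a * g⁻¹) * g := by group
    rw [h2, this]; group
  quad := by
    intro a ha b hb v
    have h1 := H.quad _ (mem_cj.mp ha) _ (mem_cj.mp hb) (g⁻¹ • v)
    have h2 := congrArg (fun z => g • z) h1
    simp only [smul_mul', ← mul_smul] at h2
    have e1 : g * (g⁻¹ * b * g * (g⁻¹ * a * g * g⁻¹)) = b * a := by group
    have e2 : g * (g⁻¹ * b * g * g⁻¹) = b := by group
    have e3 : g * (g⁻¹ * a * g * g⁻¹) = a := by group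
    rw [e1, e2, e3, mul_inv_cancel, one_smul] at h2
    rw [smul_mul', ← mul_smul]
    exact h2
  off := by
    have h1 : Nat.card (Fix V (cj g A : Set X)) = Nat.card (Fix V (A : Set X)) := by
      apply Nat.card_congr
      refine ⟨fun v => ⟨g⁻¹ • (v : V), smul_Fix_iff.mp v.2⟩,
        fun v => ⟨g • (v : V), smul_Fix_iff.mpr (by rw [inv_smul_smul]; exact v.2)⟩, ?_, ?_⟩
      · intro v; exact Subtype.ext (smul_inv_smul _ _)
      · intro v; exact Subtype.ext (inv_smul_smul _ _)
    rw [card_cj, h1]; exact H.off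

/-- `W ⊓ gW = 1` implies transitivity of `⟨A, A^g⟩` -/
theorem trans (H : Off h A) {g : X} (hd : ∀ v ∈ Fix V (A : Set X), v ∈ Fix V (cj g A : Set X) → v = 1)
    {L : Subgroup X} (hA : A ≤ L) (hg : cj g A ≤ L) {v v' : V} (hv : v ≠ 1) (hv' : v' ≠ 1) :
    ∃ y ∈ L, y • v = v' := by
  have H' := H.conj g
  obtain ⟨w0, hw0⟩ := (Subgroup.ne_bot_iff_exists_ne_one (H := Fix V (A : Set X))).mp (by
    intro hb
    have := H.one_lt
    rw [hb, Subgroup.card_bot] at this
    omega)
  obtain ⟨w0', hw0'⟩ := (Subgroup.ne_bot_iff_exists_ne_one (H := Fix V (cj g A : Set X))).mp (by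
    intro hb
    have := H'.one_lt
    rw [hb, Subgroup.card_bot] at this
    omega)
  have w01 : (w0 : V) ≠ 1 := fun hh => hw0 (Subtype.ext hh)
  have w01' : (w0' : V) ≠ 1 := fun hh => hw0' (Subtype.ext hh)
  -- decomposition
  have hdec : ∀ v : V, ∃ w ∈ Fix V (A : Set X), ∃ w' ∈ Fix V (cj g A : Set X), v = w * w' := by
    let f : Fix V (A : Set X) × Fix V (cj g A : Set X) → V := fun p => (p.1 : V) * (p.2 : V)
    have hf : Function.Injective f := by
      rintro ⟨a, b⟩ ⟨a', b'⟩ hab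
      have hab' : (a : V) * (b : V) = a' * (b' : V) := hab
      have key : (a' : V)⁻¹ * a = ((b' : V) * (b : V)⁻¹) := by
        rw [inv_mul_eq_iff_eq_mul, ← mul_assoc, ← hab', mul_inv_cancel_right]
      have h1 : (a' : V)⁻¹ * a = 1 := by
        apply hd _ (mul_mem (inv_mem a'.2) a.2)
        rw [key]
        exact mul_mem b'.2 (inv_mem b.2)
      have h2 : (a : V) = a' := (inv_mul_eq_one.mp h1).symm
      rw [h1] at key
      exact Prod.ext (Subtype.ext h2) (Subtype.ext (mul_inv_eq_one.mp key.symm).symm)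
    have hs : Function.Surjective f := by
      refine ((Nat.bijective_iff_injective_and_card f).mpr ⟨hf, ?_⟩).2
      rw [Nat.card_prod, ← H'.card_A, card_cj, H.card_A, H.card_V, pow_two]
    intro v
    obtain ⟨⟨w, w'⟩, hw⟩ := hs v
    exact ⟨w, w.2, w', w'.2, hw.symm⟩
  have key1 : ∀ v : V, v ∉ Fix V (A : Set X) → ∃ y ∈ L, y • v = w0 := by
    intro v hv
    obtain ⟨w, hw, w', hw', rfl⟩ := hdec v
    have hw'1 : w' ≠ 1 := by rintro rfl; exact hv (by rw [mul_one]; exact hw)
    have hw'W : w' ∉ Fix V (A : Set X) := fun hh => hw'1 (hd _ hh hw')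
    obtain ⟨a, ha, hae⟩ := H.exists_smul hv hw
    obtain ⟨b, hb, hbe⟩ := H.exists_smul hw'W w0.2
    have h3 : w' * w0 ∉ Fix V (cj g A : Set X) := by
      intro hh
      apply w01
      apply hd _ w0.2
      have := mul_mem (inv_mem hw') hh
      rwa [inv_mul_cancel_left] at this
    obtain ⟨c, hc, hce⟩ := H'.exists_smul h3 hw'
    refine ⟨c * (b * a), mul_mem (hg hc) (mul_mem (hA hb) (hA ha)), ?_⟩
    rw [mul_smul, mul_smul, hae]
    have e1 : w * w' * w = w' := by rw [h.comm w w', mul_assoc, h.two, mul_one]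
    rw [e1, hbe, hce, h.comm w' w0, mul_assoc, h.two, mul_one]
  have key2 : ∀ v : V, v ≠ 1 → ∃ y ∈ L, y • v = w0 := by
    intro v hv
    by_cases hvW : v ∈ Fix V (A : Set X)
    · have hvg : v ∉ Fix V (cj g A : Set X) := fun hh => hv (hd _ hvW hh)
      obtain ⟨c, hc, hce⟩ := H'.exists_smul hvg w0'.2
      have h4 : v * w0' ∉ Fix V (A : Set X) := by
        intro hh
        apply w01'
        apply hd _ _ w0'.2
        have := mul_mem (inv_mem hvW) hh
        rwa [inv_mul_cancel_left] at this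
      obtain ⟨y, hy, hye⟩ := key1 _ h4
      exact ⟨y * c, mul_mem hy (hg hc), by rw [mul_smul, hce, hye]⟩
    · exact key1 v hvW
  obtain ⟨y, hy, hye⟩ := key2 v hv
  obtain ⟨y', hy', hye'⟩ := key2 v' hv'
  exact ⟨y'⁻¹ * y, mul_mem (inv_mem hy') hy, by rw [mul_smul, hye, ← hye', inv_smul_smul]⟩

omit [Group X] [Finite X] [MulDistribMulAction X V] in
theorem card_ne_one : Nat.card {v : V // v ≠ 1} = Nat.card V - 1 := by
  classical
  have := Fintype.ofFinite V
  rw [Nat.card_eq_fintype_card, Nat.card_eq_fintype_card, Fintype.card_subtype_compl,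
    Fintype.card_subtype_eq]

theorem card_L (H : Off h A) {g : X} (hd : ∀ v ∈ Fix V (A : Set X), v ∈ Fix V (cj g A : Set X) → v = 1)
    {L : Subgroup X} (hA : A ≤ L) (hg : cj g A ≤ L) {v : V} (hv : v ≠ 1) :
    Nat.card L = (Nat.card V - 1) * Nat.card (MulAction.stabilizer L v) := by
  have h1 : MulAction.orbit L v = {v : V | v ≠ 1} := by
    ext w
    constructor
    · rintro ⟨y, rfl⟩
      show y • v ≠ 1
      intro hh
      apply hv
      have : y⁻¹ • (y • v) = v := inv_smul_smul _ _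
      rw [← this, hh, smul_one]
    · intro hw
      obtain ⟨y, hy, hye⟩ := H.trans hd hA hg hv hw
      exact ⟨⟨y, hy⟩, hye⟩
  have h2 := Nat.card_congr (MulAction.orbitProdStabilizerEquivGroup L v)
  rw [Nat.card_prod, h1] at h2
  rw [← h2]
  congr 1
  exact card_ne_one (V := V)

omit [Finite X] in
theorem exists_coset_fix (h : FPF X V) {b : X} (hb : ∃ k, orderOf b = 2 ^ k) {W : Subgroup V}
    (hne : ∃ v : V, v ∉ W) : ∃ v : V, v ∉ W ∧ b • v * v ∈ W := by
  obtain ⟨m, hm⟩ := hb
  obtain ⟨v, hv⟩ := hne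
  let f : V → V := fun v => b • v * v
  have hf : ∀ (j : ℕ) (v : V), f^[2 ^ j] v = b ^ (2 ^ j) • v * v := by
    intro j
    induction j with
    | zero => intro v; simp [f]
    | succ j ih =>
      intro v
      rw [pow_succ, mul_two, Function.iterate_add_apply, ih, ih, smul_mul', ← mul_smul, ← pow_add]
      calc b ^ (2 ^ j + 2 ^ j) • v * b ^ 2 ^ j • v * (b ^ 2 ^ j • v * v)
          = b ^ (2 ^ j + 2 ^ j) • v * (b ^ 2 ^ j • v * b ^ 2 ^ j • v) * v := by group
        _ = _ := by rw [h.two, mul_one]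
  have hex : ∃ k, f^[k] v ∈ W := by
    refine ⟨2 ^ m, ?_⟩
    rw [hf, ← hm, pow_orderOf_eq_one, one_smul, h.two]
    exact one_mem _
  classical
  have h1 := Nat.find_spec hex
  have h0 : Nat.find hex ≠ 0 := by
    intro hh
    rw [hh] at h1
    exact hv h1
  obtain ⟨k, hk⟩ := Nat.exists_eq_succ_of_ne_zero h0
  refine ⟨f^[k] v, Nat.find_min hex (by omega), ?_⟩
  rw [hk, Function.iterate_succ_apply'] at h1
  exact h1

theorem mem_of_fix (H : Off h A) {b : X} (hb : ∀ w ∈ Fix V (A : Set X), b • w = w) : b ∈ A := by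
  obtain ⟨w0, hw0⟩ := (Subgroup.ne_bot_iff_exists_ne_one (H := Fix V (A : Set X))).mp (by
    intro hb
    have := H.one_lt
    rw [hb, Subgroup.card_bot] at this
    omega)
  have w01 : (w0 : V) ≠ 1 := fun hh => hw0 (Subtype.ext hh)
  have hord := h.order_of_fix w01 (hb w0 w0.2)
  obtain ⟨v, hv, hvb⟩ := exists_coset_fix h hord H.exists_not_mem
  obtain ⟨a, ha, hae⟩ := H.exists_smul hv hvb
  have h1 : a • v = b • v := by
    rw [hae, h.comm (b • v) v, ← mul_assoc, h.two, one_mul]
  by_contra hbA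
  have hc1 : a⁻¹ * b ≠ 1 := by
    intro hh
    rw [inv_mul_eq_one] at hh
    exact hbA (hh ▸ ha)
  have hcW : ∀ w ∈ Fix V (A : Set X), (a⁻¹ * b) • w = w := by
    intro w hw
    rw [mul_smul, hb w hw]
    exact hw _ (inv_mem ha)
  have hcv : (a⁻¹ * b) • v = v := by rw [mul_smul, ← h1, inv_smul_smul]
  obtain ⟨n, hn⟩ := exists_pow_two hc1 (h.order_of_fix w01 (hcW w0 w0.2))
  have hpow : ∀ u : V, (a⁻¹ * b) • u = u → ∀ n : ℕ, (a⁻¹ * b) ^ n • u = u := by
    intro u hu n
    induction n with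
    | zero => simp
    | succ n ih => rw [pow_succ, mul_smul, hu, ih]
  have h2 := h.card_fix_sq hn
  rw [H.card_V] at h2
  have h3 : Nat.card (Fix V ({(a⁻¹ * b) ^ n} : Set X)) = Nat.card (Fix V (A : Set X)) :=
    Nat.pow_left_injective (n := 2) (by norm_num) h2
  have h4 : Fix V (A : Set X) ≤ Fix V ({(a⁻¹ * b) ^ n} : Set X) := by
    intro w hw
    rw [mem_Fix_singleton]
    exact hpow w (hcW w hw) n
  have h5 := Subgroup.eq_of_le_of_card_ge h4 h3.le
  apply hv
  rw [h5, mem_Fix_singleton]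
  exact hpow v hcv n

theorem mem_of_comm (H : Off h A) {c : X} (hc : ∀ a ∈ A, c * a = a * c) : c ∈ A := by
  obtain ⟨a, ha, ha1⟩ := H.exists_ne
  have hord : ∃ k, orderOf c = 2 ^ k := orderOf_of_isPGroup (h.cit a (H.orderOf_eq ha ha1))
    (Subgroup.mem_centralizer_singleton_iff.mpr (hc a ha))
  obtain ⟨v, hv, hvb⟩ := exists_coset_fix h hord H.exists_not_mem
  have hcv : c • v = v * (c • v * v) := by rw [h.comm (c • v) v, ← mul_assoc, h.two, one_mul]
  apply H.mem_of_fix
  intro w hw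
  obtain ⟨a, ha, hae⟩ := H.exists_smul hv hw
  have hw' : w = a • v * v := by rw [hae, h.comm v w, mul_assoc, h.two, mul_one]
  have hfixw1 : a • (c • v * v) = c • v * v := hvb a ha
  calc c • w = c • (a • v * v) := by rw [← hw']
    _ = a • (c • v) * c • v := by rw [smul_mul', ← mul_smul, hc a ha, mul_smul]
    _ = a • (v * (c • v * v)) * (v * (c • v * v)) := by rw [← hcv]
    _ = a • v * (c • v * v) * (v * (c • v * v)) := by rw [smul_mul', hfixw1]
    _ = a • v * ((c • v * v) * (c • v * v)) * v := by rw [h.comm v (c • v * v)]; group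
    _ = w := by rw [h.two, mul_one, ← hw']

theorem cj_eq_of_fix (H : Off h A) {x : X} (hx : Fix V (cj x A : Set X) = Fix V (A : Set X)) :
    cj x A = A := by
  apply Subgroup.eq_of_le_of_card_ge
  · intro b hb
    apply H.mem_of_fix
    intro w hw
    rw [← hx] at hw
    exact hw b hb
  · rw [card_cj]

theorem cj_eq_of_mem (H : Off h A) {x a : X} (ha : a ∈ A) (ha1 : a ≠ 1) (hx : a ∈ cj x A) :
    cj x A = A := by
  apply H.cj_eq_of_fix
  rw [← H.fix_eq ha ha1, ← (H.conj x).fix_eq hx ha1]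

theorem mutual_norm (H : Off h A) {x : X} (h1 : ∀ a ∈ A, ∀ b ∈ cj x A, a * b * a⁻¹ ∈ cj x A)
    (h2 : ∀ a ∈ A, ∀ b ∈ cj x A, b * a * b⁻¹ ∈ A) : cj x A = A := by
  by_contra hne
  have hcomm : ∀ a ∈ A, ∀ b ∈ cj x A, a * b = b * a := by
    intro a ha b hb
    by_contra hab
    apply hne
    have e1 : a * b * a⁻¹ * b⁻¹ ∈ cj x A := mul_mem (h1 a ha b hb) (inv_mem hb)
    have e2 : a * b * a⁻¹ * b⁻¹ ∈ A := by
      have : a * b * a⁻¹ * b⁻¹ = a * (b * a⁻¹ * b⁻¹) := by group
      rw [this]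
      exact mul_mem ha (h2 _ (inv_mem ha) b hb)
    apply H.cj_eq_of_mem e2 _ e1
    intro hh
    apply hab
    rw [mul_inv_eq_one] at hh
    exact mul_inv_eq_iff_eq_mul.mp hh
  obtain ⟨b, hb, hb1⟩ := (H.conj x).exists_ne
  apply hne
  exact H.cj_eq_of_mem (H.mem_of_comm (fun a ha => (hcomm a ha b hb).symm)) hb1 hb

theorem normalize (H : Off h A) {P : Subgroup X} (hP : IsPGroup 2 P) (hA : A ≤ P) :
    P ≤ normalizer (A : Set X) := by
  haveI : Fact (Nat.Prime 2) := ⟨Nat.prime_two⟩
  by_contra hcon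
  have hlt : P ⊓ normalizer (A : Set X) < P := by
    refine lt_of_le_of_ne inf_le_left ?_
    intro hh
    exact hcon (hh ▸ inf_le_right)
  obtain ⟨y, hyP, hyB, hyN⟩ := exists_mem_normalizer_of_lt hP hlt
  have hAB : A ≤ P ⊓ normalizer (A : Set X) := le_inf hA le_normalizer
  have hcjB : cj y (P ⊓ normalizer (A : Set X)) = P ⊓ normalizer (A : Set X) :=
    mem_normalizer_iff_cj.mp hyN
  have h1 : cj y A ≤ P ⊓ normalizer (A : Set X) := by
    rw [← hcjB]; exact cj_mono y hAB
  have h2 : A ≤ normalizer (cj y A : Set X) := by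
    rw [normalizer_cj]
    refine le_trans hAB ?_
    rw [← hcjB]
    exact cj_mono y inf_le_right
  apply hyB
  refine ⟨hyP, mem_normalizer_iff_cj.mpr (H.mutual_norm ?_ ?_)⟩
  · intro a ha b hb
    exact (mem_normalizer_iff_conj.mp (h2 ha) b).mp hb
  · intro a ha b hb
    exact (mem_normalizer_iff_conj.mp (h1 hb).2 a).mp ha

theorem cj_eq_of_fix_mem (H : Off h A) {x : X} {v : V} (hv : v ≠ 1) (h1 : v ∈ Fix V (A : Set X))
    (h2 : v ∈ Fix V (cj x A : Set X)) : cj x A = A := by
  have hP : IsPGroup 2 (MulAction.stabilizer X v) :=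
    isPGroup_two_of fun y hy => h.order_of_fix hv hy
  have hA : A ≤ MulAction.stabilizer X v := fun a ha => h1 a ha
  have hA' : cj x A ≤ MulAction.stabilizer X v := fun a ha => h2 a ha
  apply H.mutual_norm
  · intro a ha b hb
    exact (mem_normalizer_iff_conj.mp ((H.conj x).normalize hP hA' (hA ha)) b).mp hb
  · intro a ha b hb
    exact (mem_normalizer_iff_conj.mp (H.normalize hP hA (hA' hb)) a).mp ha

theorem disj (H : Off h A) {x : X} (hx : x ∉ normalizer (A : Set X)) :
    ∀ v ∈ Fix V (A : Set X), v ∈ Fix V (cj x A : Set X) → v = 1 := by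
  intro v h1 h2
  by_contra hv
  exact hx (mem_normalizer_iff_cj.mpr (H.cj_eq_of_fix_mem hv h1 h2))

theorem exists_not_normalizer (H : Off h A) : ∃ g : X, g ∉ normalizer (A : Set X) := by
  obtain ⟨a, ha, ha1⟩ := H.exists_ne
  obtain ⟨g, hg⟩ := h.exists_disj (H.orderOf_eq ha ha1)
  refine ⟨g, fun hgN => ?_⟩
  have h1 := mem_normalizer_iff_cj.mp hgN
  obtain ⟨w0, hw0⟩ := (Subgroup.ne_bot_iff_exists_ne_one (H := Fix V (A : Set X))).mp (by
    intro hb
    have := H.one_lt
    rw [hb, Subgroup.card_bot] at this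
    omega)
  apply hw0
  apply Subtype.ext
  apply hg w0 (w0.2 a ha)
  have h2 : (w0 : V) ∈ Fix V (cj g A : Set X) := by rw [h1]; exact w0.2
  apply h2
  show g * a * g⁻¹ ∈ cj g A
  rw [mem_cj]
  have : g⁻¹ * (g * a * g⁻¹) * g = a := by group
  rw [this]; exact ha

theorem fixed_nontrivial (h : FPF X V) {P : Subgroup X} (hP : IsPGroup 2 P) {W : Subgroup V}
    (hW : ∀ y ∈ P, ∀ w ∈ W, y • w ∈ W) (hne : W ≠ ⊥) : ∃ w ∈ W, w ≠ 1 ∧ ∀ y ∈ P, y • w = w := by
  haveI : Fact (Nat.Prime 2) := ⟨Nat.prime_two⟩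
  letI : MulAction P W :=
    { smul := fun y w => ⟨(y : X) • (w : V), hW y y.2 w w.2⟩
      one_smul := fun w => Subtype.ext (one_smul X (w : V))
      mul_smul := fun y z w => Subtype.ext (mul_smul (y : X) (z : X) (w : V)) }
  have h1 : IsPGroup 2 W := by
    apply isPGroup_two_of
    intro w _
    by_cases hw : w = 1
    · exact ⟨0, by rw [hw, orderOf_one, pow_zero]⟩
    · exact ⟨1, by rw [pow_one]; exact orderOf_eq_prime (by rw [pow_two]; exact h.two w) hw⟩
  have h2 : 2 ∣ Nat.card W := by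
    haveI : Nontrivial W := (Subgroup.nontrivial_iff_ne_bot W).mpr hne
    obtain ⟨k, hk⟩ := IsPGroup.iff_card.mp h1
    have : k ≠ 0 := by
      rintro rfl
      rw [pow_zero, Subgroup.card_eq_one] at hk
      exact hne hk
    rw [hk]; exact dvd_pow_self 2 this
  have h3 : (1 : W) ∈ MulAction.fixedPoints P W := fun y => Subtype.ext (smul_one (y : X))
  obtain ⟨w, hw, hw1⟩ := hP.exists_fixed_point_of_prime_dvd_card_of_fixed_point W h2 h3
  refine ⟨w, w.2, fun hh => hw1 (Subtype.ext hh.symm), fun y hy => ?_⟩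
  exact congrArg Subtype.val (hw ⟨y, hy⟩)

/-- the offender is a Sylow 2-subgroup -/
theorem eq_of_le (H : Off h A) {P : Subgroup X} (hP : IsPGroup 2 P) (hA : A ≤ P) : P = A := by
  haveI : Fact (Nat.Prime 2) := ⟨Nat.prime_two⟩
  by_contra hne
  obtain ⟨y, hyP, hyA⟩ : ∃ y ∈ P, y ∉ A := by
    by_contra hcon
    push Not at hcon
    exact hne (le_antisymm hcon hA)
  have hPN := H.normalize hP hA
  obtain ⟨g, hg⟩ := H.exists_not_normalizer
  have hd := H.disj hg
  have H' := H.conj g
  have hWbot : Fix V (A : Set X) ≠ ⊥ := by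
    intro hb
    have := H.one_lt
    rw [hb, Subgroup.card_bot] at this
    omega
  have hWbot' : Fix V (cj g A : Set X) ≠ ⊥ := by
    intro hb
    have := H'.one_lt
    rw [hb, Subgroup.card_bot] at this
    omega
  have hstab : ∀ x ∈ normalizer (A : Set X), ∀ w ∈ Fix V (A : Set X), x • w ∈ Fix V (A : Set X) := by
    intro x hx w hw
    have h1 := mem_normalizer_iff_cj.mp hx
    rw [← h1]
    rw [smul_Fix_iff, inv_smul_smul]
    exact hw
  have hstab' : ∀ x ∈ normalizer (cj g A : Set X), ∀ w ∈ Fix V (cj g A : Set X),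
      x • w ∈ Fix V (cj g A : Set X) := by
    intro x hx w hw
    have h1 := mem_normalizer_iff_cj.mp hx
    have h2 : x • w ∈ Fix V (cj x (cj g A) : Set X) := by
      rw [smul_Fix_iff, inv_smul_smul]
      exact hw
    rwa [h1] at h2
  -- find a suitable 2-element
  obtain ⟨v0, hv0, hv01⟩ : ∃ v ∈ Fix V (cj g A : Set X), v ≠ 1 := by
    obtain ⟨v, hv⟩ := Subgroup.ne_bot_iff_exists_ne_one.mp hWbot'
    exact ⟨v, v.2, fun hh => hv (Subtype.ext hh)⟩
  have hv0W : v0 ∉ Fix V (A : Set X) := fun hh => hv01 (hd _ hh hv0)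
  have hyv : y • v0 ∉ Fix V (A : Set X) := by
    intro hh
    apply hv0W
    have := hstab y⁻¹ (inv_mem (hPN hyP)) _ hh
    rwa [inv_smul_smul] at this
  -- decomposition of `y • v0`
  obtain ⟨w, hw, v1, hv1, hdec⟩ : ∃ w ∈ Fix V (A : Set X), ∃ w' ∈ Fix V (cj g A : Set X), y • v0 = w * w' := by
    let f : Fix V (A : Set X) × Fix V (cj g A : Set X) → V := fun p => (p.1 : V) * (p.2 : V)
    have hf : Function.Injective f := by
      rintro ⟨a, b⟩ ⟨a', b'⟩ hab
      have hab' : (a : V) * (b : V) = a' * (b' : V) := hab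
      have key : (a' : V)⁻¹ * a = ((b' : V) * (b : V)⁻¹) := by
        rw [inv_mul_eq_iff_eq_mul, ← mul_assoc, ← hab', mul_inv_cancel_right]
      have h1 : (a' : V)⁻¹ * a = 1 := by
        apply hd _ (mul_mem (inv_mem a'.2) a.2)
        rw [key]
        exact mul_mem b'.2 (inv_mem b.2)
      have h2 : (a : V) = a' := (inv_mul_eq_one.mp h1).symm
      rw [h1] at key
      exact Prod.ext (Subtype.ext h2) (Subtype.ext (mul_inv_eq_one.mp key.symm).symm)
    have hs : Function.Surjective f := by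
      refine ((Nat.bijective_iff_injective_and_card f).mpr ⟨hf, ?_⟩).2
      rw [Nat.card_prod, ← H'.card_A, card_cj, H.card_A, H.card_V, pow_two]
    obtain ⟨⟨w, w'⟩, hw⟩ := hs (y • v0)
    exact ⟨w, w.2, w', w'.2, hw.symm⟩
  obtain ⟨a, ha, hae⟩ := H.exists_smul hyv hw
  have hav : (a * y) • v0 = v1 := by
    rw [mul_smul, hae, hdec, h.comm w v1, mul_assoc, h.two, mul_one]
  have hv11 : v1 ≠ 1 := by
    rintro rfl
    apply hyv
    rw [hdec, mul_one]; exact hw
  have ht0 : a * y ∈ normalizer (A : Set X) := mul_mem (le_normalizer ha) (hPN hyP)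
  have ht0P : a * y ∈ P := mul_mem (hA ha) hyP
  have ht0A : a * y ∉ A := fun hh => hyA (by
    have := mul_mem (inv_mem ha) hh
    rwa [inv_mul_cancel_left] at this)
  have ht0' : a * y ∈ normalizer (cj g A : Set X) := by
    rw [mem_normalizer_iff_cj]
    apply H'.cj_eq_of_fix_mem hv11 hv1
    rw [smul_Fix_iff, ← hav, inv_smul_smul]
    exact hv0
  have ht01 : a * y ≠ 1 := fun hh => ht0A (hh ▸ one_mem _)
  obtain ⟨n, hn⟩ := exists_pow_two ht01 (orderOf_of_isPGroup hP ht0P)
  set t := (a * y) ^ n with ht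
  have htN : t ∈ normalizer (A : Set X) := pow_mem ht0 n
  have htN' : t ∈ normalizer (cj g A : Set X) := pow_mem ht0' n
  have htp : IsPGroup 2 (zpowers t) := by
    apply IsPGroup.of_card (n := 1)
    rw [Nat.card_zpowers, hn, pow_one]
  obtain ⟨w1, hw1, hw11, hw1t⟩ := fixed_nontrivial h htp (W := Fix V (A : Set X))
    (fun z hz => hstab z ((zpowers_le.mpr htN) hz)) hWbot
  obtain ⟨u1, hu1, hu11, hu1t⟩ := fixed_nontrivial h htp (W := Fix V (cj g A : Set X))
    (fun z hz => hstab' z ((zpowers_le.mpr htN') hz)) hWbot'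
  have hw1t' := hw1t t (mem_zpowers t)
  have hu1t' := hu1t t (mem_zpowers t)
  -- the centralizer of `t` acts on the fixed points of `t`
  have hC := h.cit t hn
  have hU : ∀ c ∈ centralizer ({t} : Set X), ∀ u ∈ Fix V ({t} : Set X), c • u ∈ Fix V ({t} : Set X) := by
    intro c hc u hu
    rw [mem_Fix_singleton] at hu ⊢
    rw [← mul_smul, ← (mem_centralizer_singleton_iff.mp hc), mul_smul, hu]
  have hUbot : Fix V ({t} : Set X) ≠ ⊥ := by
    intro hb
    apply hw11
    have : w1 ∈ Fix V ({t} : Set X) := mem_Fix_singleton.mpr hw1t'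
    rw [hb] at this
    exact Subgroup.mem_bot.mp this
  obtain ⟨u, hu, hu_ne, huC⟩ := fixed_nontrivial h hC hU hUbot
  rw [mem_Fix_singleton] at hu
  -- general claim
  have claim : ∀ (B : Subgroup X), Off h B → t ∈ normalizer (B : Set X) → ∀ z ∈ Fix V (B : Set X),
      z ≠ 1 → t • z = z → u ∉ Fix V (B : Set X) → False := by
    intro B HB htB z hz hz1 htz huB
    obtain ⟨b, hb, hbe⟩ := HB.exists_smul huB hz
    have h5 : (t * b * t⁻¹) • u = b • u := by
      have e : t⁻¹ • u = u := by rw [inv_smul_eq_iff, hu]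
      rw [mul_smul, mul_smul, e, hbe, smul_mul', hu, htz]
    have h6 : t * b * t⁻¹ = b := HB.eq_of_smul_eq huB ((mem_normalizer_iff_conj.mp htB b).mp hb) hb h5
    have h7 : b ∈ centralizer ({t} : Set X) := by
      rw [mem_centralizer_singleton_iff]
      exact (mul_inv_eq_iff_eq_mul.mp h6).symm
    have h8 := huC b h7
    rw [hbe] at h8
    exact hz1 (mul_eq_left.mp h8)
  by_cases huW : u ∈ Fix V (A : Set X)
  · exact claim (cj g A) H' htN' u1 hu1 hu11 hu1t' (fun hh => hu_ne (hd _ huW hh))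
  · exact claim A H htN w1 hw1 hw11 hw1t' huW

theorem card_X (H : Off h A) : Nat.card X = ((Nat.card A) ^ 2 - 1) * Nat.card A := by
  obtain ⟨g, hg⟩ := H.exists_not_normalizer
  have hd := H.disj hg
  obtain ⟨w0, hw0⟩ := (Subgroup.ne_bot_iff_exists_ne_one (H := Fix V (A : Set X))).mp (by
    intro hb
    have := H.one_lt
    rw [hb, Subgroup.card_bot] at this
    omega)
  have w01 : (w0 : V) ≠ 1 := fun hh => hw0 (Subtype.ext hh)
  have h1 := H.card_L hd (L := ⊤) le_top le_top w01
  rw [Subgroup.card_top, H.card_V, ← H.card_A] at h1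
  rw [h1]
  congr 1
  have h2 : MulAction.stabilizer X (w0 : V) = A := by
    apply H.eq_of_le
    · exact isPGroup_two_of fun y hy => h.order_of_fix w01 hy
    · exact fun a ha => w0.2 a ha
  have h3 : Nat.card (MulAction.stabilizer X (w0 : V)) = Nat.card A := by rw [h2]
  rw [← h3]
  refine Nat.card_congr ⟨fun x => ⟨((x : (⊤ : Subgroup X)) : X), x.2⟩, fun x => ⟨⟨x, trivial⟩, x.2⟩, ?_, ?_⟩
  · intro x; rfl
  · intro x; rfl

/-- two distinct conjugates of `A` generate `X` -/
theorem sup_eq_top (H : Off h A) {x : X} (hx : x ∉ normalizer (A : Set X)) : A ⊔ cj x A = ⊤ := by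
  have hd := H.disj hx
  obtain ⟨w0, hw0⟩ := (Subgroup.ne_bot_iff_exists_ne_one (H := Fix V (A : Set X))).mp (by
    intro hb
    have := H.one_lt
    rw [hb, Subgroup.card_bot] at this
    omega)
  have w01 : (w0 : V) ≠ 1 := fun hh => hw0 (Subtype.ext hh)
  have h1 := H.card_L hd (L := A ⊔ cj x A) le_sup_left le_sup_right w01
  rw [H.card_V, ← H.card_A] at h1
  apply Subgroup.eq_top_of_le_card
  rw [h1, H.card_X]
  apply Nat.mul_le_mul_left
  have h2 : Nat.card A = Nat.card (A.subgroupOf (A ⊔ cj x A)) :=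
    (Nat.card_congr (Subgroup.subgroupOfEquivOfLe le_sup_left).toEquiv).symm
  rw [h2]
  apply Subgroup.card_le_of_le
  intro y hy
  exact w0.2 y hy

/-- `N_X(A)` is transitive on the nontrivial fixed points of `A` -/
theorem trans_fix (H : Off h A) {v w : V} (hv : v ∈ Fix V (A : Set X)) (hw : w ∈ Fix V (A : Set X))
    (hv1 : v ≠ 1) (hw1 : w ≠ 1) : ∃ x ∈ normalizer (A : Set X), x • v = w := by
  obtain ⟨g, hg⟩ := H.exists_not_normalizer
  obtain ⟨x, -, hx⟩ := H.trans (H.disj hg) (L := ⊤) le_top le_top hv1 hw1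
  refine ⟨x, ?_, hx⟩
  rw [mem_normalizer_iff_cj]
  apply H.cj_eq_of_fix_mem hw1 hw
  rw [smul_Fix_iff, ← hx, inv_smul_smul]
  exact hv

end Off

end FPF

end Cfsg.Agent.CIT
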