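import Mathlib
import Cfsg.Agent.CIT.FF
import Cfsg.Agent.SigF.Coprime

set_option autoImplicit false

/-!
# CIT groups II: local version of the offender theorem
-/

namespace Cfsg.Agent.CIT

open Subgroup Cfsg.Agent.H80

/-- centralizers of involutions are 2-groups -/
def IsCIT (G : Type*) [Group G] : Prop :=
  ∀ t : G, orderOf t = 2 → IsPGroup 2 (Subgroup.centralizer ({t} : Set G))

variable {G : Type*} [Group G] [Finite G]

omit [Finite G] in
theorem IsCIT.order_of_comm (hG : IsCIT G) {t x : G} (ht : t ≠ 1) (h2 : ∃ k, orderOf t = 2 ^ k)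
    (hc : x * t = t * x) : ∃ k, orderOf x = 2 ^ k := by
  obtain ⟨n, hn⟩ := exists_pow_two ht h2
  refine orderOf_of_isPGroup (hG _ hn) (mem_centralizer_singleton_iff.mpr ?_)
  have : Commute x t := hc
  exact this.pow_right n

omit [Finite G] in
theorem order_two_pow_of_sq {t : G} (h : t * t = 1) : ∃ k, orderOf t = 2 ^ k := by
  by_cases ht : t = 1
  · exact ⟨0, by rw [ht, orderOf_one, pow_zero]⟩
  · exact ⟨1, by rw [pow_one]; exact orderOf_eq_prime (by rw [pow_two]; exact h) ht⟩

omit [Finite G] in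
theorem IsCIT.centralizer_isPGroup (hG : IsCIT G) {V : Subgroup G} (hne : V ≠ ⊥)
    (hV : IsPGroup 2 V) : IsPGroup 2 (centralizer (V : Set G)) := by
  obtain ⟨⟨v, hv⟩, hv1⟩ := Subgroup.ne_bot_iff_exists_ne_one.mp hne
  apply isPGroup_two_of
  intro x hx
  exact hG.order_of_comm (t := v) (fun h => hv1 (Subtype.ext h)) (orderOf_of_isPGroup hV hv)
    ((mem_centralizer_iff.mp hx v hv).symm)

/-- the action of the normalizer on `V` -/
noncomputable def phi (V : Subgroup G) : normalizer (V : Set G) →* MulAut V := V.normalizerMonoidHom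

omit [Finite G] in
theorem phi_apply (V : Subgroup G) (n : normalizer (V : Set G)) (v : V) :
    ((phi V n v : V) : G) = n * v * (n : G)⁻¹ := rfl

omit [Finite G] in
theorem phi_eq_one_iff (V : Subgroup G) (n : normalizer (V : Set G)) :
    phi V n = 1 ↔ (n : G) ∈ centralizer (V : Set G) := by
  have := V.normalizerMonoidHom_ker
  rw [← MonoidHom.mem_ker]
  change n ∈ V.normalizerMonoidHom.ker ↔ _
  rw [this, mem_subgroupOf]

/-- vertex hypotheses -/
structure Vtx (V : Subgroup G) : Prop where
  two : ∀ v ∈ V, v * v = 1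
  ne : V ≠ ⊥
  red : ∀ N : Subgroup G, N ≤ normalizer (V : Set G) → normalizer (V : Set G) ≤ normalizer (N : Set G) →
    IsPGroup 2 N → N ≤ centralizer (V : Set G)

omit [Finite G] in
theorem Vtx.isPGroup {V : Subgroup G} (h : Vtx V) : IsPGroup 2 V :=
  isPGroup_two_of fun v hv => order_two_pow_of_sq (h.two v hv)

omit [Finite G] in
theorem comm_of_two {V : Subgroup G} (h : ∀ v ∈ V, v * v = 1) {a b : G} (ha : a ∈ V) (hb : b ∈ V) :
    a * b = b * a := by
  have e : ∀ x ∈ V, x⁻¹ = x := fun x hx => inv_eq_of_mul_eq_one_left (h x hx)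
  have h1 := e (a * b) (mul_mem ha hb)
  rw [mul_inv_rev, e a ha, e b hb] at h1
  exact h1.symm

omit [Finite G] in
theorem Vtx.le_centralizer {V : Subgroup G} (h : Vtx V) : V ≤ centralizer (V : Set G) := by
  intro x hx
  rw [mem_centralizer_iff]
  intro y hy
  exact comm_of_two h.two hy hx

omit [Finite G] in
theorem centralizer_le_normalizer' (V : Subgroup G) :
    centralizer (V : Set G) ≤ normalizer (V : Set G) := by
  intro x hx
  rw [mem_normalizer_iff_conj]
  intro v
  constructor
  · intro hv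
    have := mem_centralizer_iff.mp hx v hv
    rw [← this, mul_inv_cancel_right]; exact hv
  · intro hv
    have h1 := mem_centralizer_iff.mp hx _ hv
    have h2 : v = x * v * x⁻¹ := by
      have h3 : x * v = x * (x * v * x⁻¹) := by rw [← h1]; group
      exact mul_left_cancel h3
    rw [h2]; exact hv

omit [Finite G] in
theorem normalizer_le_normalizer_centralizer (V : Subgroup G) :
    normalizer (V : Set G) ≤ normalizer (centralizer (V : Set G) : Set G) := by
  intro x hx
  rw [mem_normalizer_iff_conj] at hx ⊢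
  intro c
  constructor
  · intro hc
    rw [mem_centralizer_iff] at hc ⊢
    intro v hv
    have h1 : x⁻¹ * v * x ∈ (V : Set G) := by
      show x⁻¹ * v * x ∈ V
      rw [hx]
      have : x * (x⁻¹ * v * x) * x⁻¹ = v := by group
      rw [this]; exact hv
    have h2 := hc _ h1
    calc v * (x * c * x⁻¹) = x * (x⁻¹ * v * x * c) * x⁻¹ := by group
      _ = x * (c * (x⁻¹ * v * x)) * x⁻¹ := by rw [h2]
      _ = x * c * x⁻¹ * v := by group
  · intro hc
    rw [mem_centralizer_iff] at hc ⊢
    intro v hv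
    have h1 : x * v * x⁻¹ ∈ (V : Set G) := (hx v).mp hv
    have h2 := hc _ h1
    have h3 : x * (v * c) * x⁻¹ = x * (c * v) * x⁻¹ := by
      calc x * (v * c) * x⁻¹ = (x * v * x⁻¹) * (x * c * x⁻¹) := by group
        _ = (x * c * x⁻¹) * (x * v * x⁻¹) := h2
        _ = _ := by group
    exact mul_left_cancel (mul_right_cancel h3)

theorem exists_lift_prime {H X : Type*} [Group H] [Finite H] [Group X] (f : H →* X) {p : ℕ}
    (hp : p.Prime) {y : X} (hy : orderOf y = p) {n : H} (hn : f n = y) :
    ∃ k : ℕ, (∃ j, orderOf (n ^ k) = p ^ j) ∧ f (n ^ k) ≠ 1 := by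
  obtain ⟨a, m, hm, hx⟩ := Nat.exists_eq_pow_mul_and_not_dvd (orderOf_pos n).ne' p hp.ne_one
  have hm0 : m ≠ 0 := by rintro rfl; exact hm (dvd_zero _)
  refine ⟨m, ⟨a, ?_⟩, ?_⟩
  · rw [orderOf_pow_of_dvd hm0 (by rw [hx]; exact Dvd.intro_left _ rfl), hx]
    exact Nat.mul_div_cancel _ (Nat.pos_of_ne_zero hm0)
  · rw [map_pow, hn]
    intro h
    apply hm
    rw [← hy]
    exact orderOf_dvd_of_pow_eq_one h

/-- if an involution of the range commutes with ... (CIT for the quotient) -/
theorem fpf (hG : IsCIT G) {V : Subgroup G} (hV : Vtx V) : FPF (phi V).range V := by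
  haveI : Fact (Nat.Prime 2) := ⟨Nat.prime_two⟩
  have hCp : IsPGroup 2 (centralizer (V : Set G)) := hG.centralizer_isPGroup hV.ne hV.isPGroup
  have hsm : ∀ (n : normalizer (V : Set G)) (x : (phi V).range), phi V n = x → ∀ v : V,
      ((x • v : V) : G) = n * v * (n : G)⁻¹ := by
    intro n x hx v
    have : x • v = (x : MulAut V) v := rfl
    rw [this, ← hx]; rfl
  -- a nontrivial element of the range of odd order gives an element `n` of the normalizer of
  -- `p`-power order with image a nontrivial power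
  have key : ∀ x : (phi V).range, (¬ ∃ k, orderOf x = 2 ^ k) → ∃ (p : ℕ) (_ : p.Prime) (n : normalizer (V : Set G))
      (m : ℕ), p ≠ 2 ∧ (∃ j, orderOf n = p ^ j) ∧ phi V n = ((x ^ m : (phi V).range) : MulAut V) ∧
        (x ^ m : (phi V).range) ≠ 1 := by
    intro x hx
    obtain ⟨k, hk1, hk2⟩ := exists_odd_pow x hx
    set y := x ^ k with hy
    obtain ⟨p, hp, hpd⟩ := Nat.exists_prime_and_dvd (n := orderOf y) (by
      intro h; exact hk1 (orderOf_eq_one_iff.mp h))
    have hp2 : p ≠ 2 := by
      rintro rfl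
      rw [← Nat.not_even_iff_odd, even_iff_two_dvd] at hk2
      exact hk2 hpd
    obtain ⟨c, hc⟩ := hpd
    have hc0 : c ≠ 0 := by
      rintro rfl
      rw [mul_zero] at hc
      exact (orderOf_pos y).ne' hc
    have hz : orderOf (y ^ c) = p := by
      rw [orderOf_pow_of_dvd hc0 (by rw [hc]; exact Dvd.intro_left _ rfl), hc]
      exact Nat.mul_div_cancel _ (Nat.pos_of_ne_zero hc0)
    obtain ⟨n, hn⟩ := (y ^ c).2
    have hn' : (phi V).rangeRestrict n = y ^ c := Subtype.ext hn
    obtain ⟨l, hl1, hl2⟩ := exists_lift_prime (phi V).rangeRestrict hp hz hn'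
    refine ⟨p, hp, n ^ l, k * c * l, hp2, hl1, ?_, ?_⟩
    · rw [map_pow, hn, pow_mul, pow_mul, ← hy]; rfl
    · rw [map_pow, hn'] at hl2
      rw [pow_mul, pow_mul, ← hy]; exact hl2
  -- a `p`-element commuting with a nontrivial 2-element is trivial
  have key2 : ∀ (p : ℕ), p.Prime → p ≠ 2 → ∀ n : normalizer (V : Set G), (∃ j, orderOf n = p ^ j) →
      (∃ k, orderOf (n : G) = 2 ^ k) → n = 1 := by
    rintro p hp hp2 n ⟨j, hj⟩ ⟨k, hk⟩
    rw [Subgroup.orderOf_coe, hj] at hk
    have hcop : Nat.Coprime (p ^ j) (2 ^ k) :=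
      Nat.Coprime.pow _ _ ((Nat.coprime_primes hp Nat.prime_two).mpr hp2)
    rw [hk] at hcop hj
    have := (Nat.coprime_self _).mp hcop
    rw [this] at hj
    exact orderOf_eq_one_iff.mp hj
  refine ⟨?_, ?_, ?_, ?_, ?_⟩
  · intro v
    exact Subtype.ext (hV.two v v.2)
  · obtain ⟨v, hv⟩ := Subgroup.ne_bot_iff_exists_ne_one.mp hV.ne
    exact ⟨v, hv⟩
  · intro x hx1 hodd v hv
    by_contra hv1
    obtain ⟨p, hp, n, m, hp2, hj, hn, hm⟩ := key x (by
      rintro ⟨k, hk⟩
      rw [hk] at hodd
      rcases Nat.eq_zero_or_pos k with rfl | hk0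
      · apply hx1
        rw [pow_zero] at hk
        exact orderOf_eq_one_iff.mp hk
      · rw [Nat.odd_pow_iff hk0.ne'] at hodd
        revert hodd; decide)
    have hvm : (x ^ m : (phi V).range) • v = v := by
      clear hn hm
      induction m with
      | zero => simp
      | succ m ih => rw [pow_succ, mul_smul, hv, ih]
    have h1 := hsm n _ hn v
    rw [hvm] at h1
    have h2 : (n : G) * v = v * n := by
      rw [eq_mul_inv_iff_mul_eq] at h1
      exact h1.symm
    have h3 := key2 p hp hp2 n hj (hG.order_of_comm (t := (v : G)) (fun h => hv1 (Subtype.ext h))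
      (order_two_pow_of_sq (hV.two v v.2)) h2)
    rw [h3, map_one] at hn
    exact hm (Subtype.ext hn.symm)
  · intro N hN hNp
    have h1 : IsPGroup 2 (N.comap (phi V).rangeRestrict) := by
      apply hNp.comap_of_ker_isPGroup
      rw [MonoidHom.ker_rangeRestrict]
      have : (phi V).ker = (centralizer (V : Set G)).subgroupOf (normalizer (V : Set G)) := by
        ext n
        rw [MonoidHom.mem_ker, phi_eq_one_iff, mem_subgroupOf]
      rw [this]
      exact hCp.comap_subtype
    have h2 := hV.red ((N.comap (phi V).rangeRestrict).map (normalizer (V : Set G)).subtype)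
      (Subgroup.map_subtype_le _) (by
        intro x hx
        rw [mem_normalizer_iff_conj]
        have hnm : (N.comap (phi V).rangeRestrict).Normal := inferInstance
        intro y
        constructor
        · rintro ⟨z, hz, rfl⟩
          exact ⟨⟨x, hx⟩ * z * ⟨x, hx⟩⁻¹, hnm.conj_mem z hz ⟨x, hx⟩, rfl⟩
        · rintro ⟨z, hz, hze⟩
          refine ⟨⟨x, hx⟩⁻¹ * z * ⟨x, hx⟩, ?_, ?_⟩
          · have := hnm.conj_mem z hz ⟨x, hx⟩⁻¹
            rwa [inv_inv] at this
          · show x⁻¹ * (z : G) * x = y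
            have : (z : G) = x * y * x⁻¹ := hze
            rw [this]; group) (h1.map _)
    rw [eq_bot_iff]
    intro x hx
    obtain ⟨n, hn⟩ := x.2
    have h3 : (n : G) ∈ centralizer (V : Set G) := by
      apply h2
      refine ⟨n, ?_, rfl⟩
      show (phi V).rangeRestrict n ∈ N
      have : (phi V).rangeRestrict n = x := Subtype.ext hn
      rw [this]; exact hx
    rw [← phi_eq_one_iff, hn] at h3
    exact Subgroup.mem_bot.mpr (Subtype.ext h3)
  · intro t ht
    apply isPGroup_two_of
    intro x hx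
    by_contra hcon
    obtain ⟨p, hp, n, m, hp2, ⟨j, hj⟩, hn, hm⟩ := key x hcon
    haveI : Fact p.Prime := ⟨hp⟩
    obtain ⟨s, hs⟩ := t.2
    have hcomm : phi V n * phi V s = phi V s * phi V n := by
      rw [hn, hs]
      have h1 : x * t = t * x := mem_centralizer_singleton_iff.mp hx
      have h2 : Commute (x ^ m) t := (show Commute x t from h1).pow_left m
      exact congrArg Subtype.val h2.eq
    -- the coset `s C`
    let S : Set G := {g | ∃ c ∈ centralizer (V : Set G), g = s * c}
    have hSinv : ∀ a ∈ zpowers (n : G), ∀ g ∈ S, a * g * a⁻¹ ∈ S := by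
      rintro a ⟨i, rfl⟩ _ ⟨c, hc, rfl⟩
      refine ⟨(s : G)⁻¹ * ((n : G) ^ i * (s * c) * ((n : G) ^ i)⁻¹), ?_, by group⟩
      have h1 : phi V (s⁻¹ * (n ^ i * s * (n ^ i)⁻¹)) = 1 := by
        have h2 : Commute (phi V n ^ i) (phi V s) := (show Commute _ _ from hcomm).zpow_left i
        simp only [map_mul, map_inv, map_zpow]
        rw [h2.eq]; group
      rw [phi_eq_one_iff] at h1
      have h3 : (n : G) ^ i * c * ((n : G) ^ i)⁻¹ ∈ centralizer (V : Set G) := by
        have := normalizer_le_normalizer_centralizer V ((normalizer (V : Set G)).zpow_mem n.2 i)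
        exact (mem_normalizer_iff_conj.mp this c).mp hc
      have h4 := mul_mem h1 h3
      have h5 : ((s⁻¹ * (n ^ i * s * (n ^ i)⁻¹) : normalizer (V : Set G)) : G) * ((n : G) ^ i * c * ((n : G) ^ i)⁻¹)
          = (s : G)⁻¹ * ((n : G) ^ i * (s * c) * ((n : G) ^ i)⁻¹) := by
        push_cast
        group
      rwa [h5] at h4
    have hScard : ¬ p ∣ Nat.card S := by
      have h1 : Nat.card S = Nat.card (centralizer (V : Set G)) := by
        apply Nat.card_congr
        refine ⟨fun g => ⟨(s : G)⁻¹ * g, ?_⟩, fun c => ⟨s * c, c, c.2, rfl⟩, ?_, ?_⟩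
        · obtain ⟨c, hc, hg⟩ := g.2
          rw [hg, inv_mul_cancel_left]; exact hc
        · intro g; exact Subtype.ext (mul_inv_cancel_left _ _)
        · intro c; exact Subtype.ext (inv_mul_cancel_left _ _)
      obtain ⟨l, hl⟩ := IsPGroup.iff_card.mp hCp
      rw [h1, hl]
      intro h2
      exact hp2 ((Nat.prime_dvd_prime_iff_eq hp Nat.prime_two).mp (hp.dvd_of_dvd_pow h2))
    have hA : IsPGroup p (zpowers (n : G)) := by
      apply IsPGroup.of_card (n := j)
      rw [Nat.card_zpowers, Subgroup.orderOf_coe, hj]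
    obtain ⟨g, ⟨c, hc, hg⟩, hgc⟩ := Cfsg.Agent.SigF.exists_fixed_conj hA S hSinv hScard
    have hgN : g ∈ normalizer (V : Set G) := by
      rw [hg]; exact mul_mem s.2 (centralizer_le_normalizer' V hc)
    have hphig : phi V ⟨g, hgN⟩ = t := by
      have h1 : (⟨g, hgN⟩ : normalizer (V : Set G)) = s * ⟨c, centralizer_le_normalizer' V hc⟩ :=
        Subtype.ext hg
      rw [h1, map_mul, hs, (phi_eq_one_iff V ⟨c, centralizer_le_normalizer' V hc⟩).mpr hc, mul_one]
    have hg1 : g ≠ 1 := by
      rintro rfl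
      have : (⟨1, hgN⟩ : normalizer (V : Set G)) = 1 := rfl
      rw [this, map_one] at hphig
      have : t = 1 := Subtype.ext hphig.symm
      rw [this, orderOf_one] at ht
      omega
    have hg2 : ∃ k, orderOf g = 2 ^ k := by
      have h1 : g * g ∈ centralizer (V : Set G) := by
        have := phi_eq_one_iff V (⟨g, hgN⟩ * ⟨g, hgN⟩)
        rw [map_mul, hphig] at this
        apply this.mp
        have h2 : t * t = 1 := by rw [← pow_two, ← ht, pow_orderOf_eq_one]
        exact congrArg Subtype.val h2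
      obtain ⟨k, hk⟩ := orderOf_of_isPGroup hCp h1
      have h2 : g ^ (2 ^ (k + 1)) = 1 := by
        rw [pow_succ', pow_mul, pow_two, ← hk, pow_orderOf_eq_one]
      obtain ⟨l, -, hl⟩ := (Nat.dvd_prime_pow Nat.prime_two).mp (orderOf_dvd_of_pow_eq_one h2)
      exact ⟨l, hl⟩
    have h3 := key2 p hp hp2 n ⟨j, hj⟩ (hG.order_of_comm hg1 hg2 (hgc _ (mem_zpowers _)))
    rw [h3, map_one] at hn
    exact hm (Subtype.ext hn.symm)

end Cfsg.Agent.CIT
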