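import Mathlib
import Cfsg.Agent.CIT.Local

set_option autoImplicit false

/-!
# CIT groups III: natural vertices
-/

namespace Cfsg.Agent.CIT

open Subgroup Cfsg.Agent.H80

variable {G : Type*} [Group G] [Finite G]

/-- image of a subgroup in the automorphism group induced on `V` -/
noncomputable def bar (V P : Subgroup G) : Subgroup (phi V).range :=
  (P.subgroupOf (normalizer (V : Set G))).map (phi V).rangeRestrict

/-- natural vertex -/
structure NatV (T V : Subgroup G) : Prop where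
  vtx : Vtx V
  syl : IsSylowIn 2 T (normalizer (V : Set G))
  CT : centralizer (V : Set G) ≤ T
  one_lt : 1 < Nat.card (V ⊓ centralizer (T : Set G) : Subgroup G)
  card_V : Nat.card V = Nat.card (V ⊓ centralizer (T : Set G) : Subgroup G) ^ 2
  card_T : Nat.card T = Nat.card (V ⊓ centralizer (T : Set G) : Subgroup G) *
    Nat.card (centralizer (V : Set G))
  card_N : Nat.card (normalizer (V : Set G)) =
    (Nat.card (V ⊓ centralizer (T : Set G) : Subgroup G) ^ 2 - 1) *
      Nat.card (V ⊓ centralizer (T : Set G) : Subgroup G) * Nat.card (centralizer (V : Set G))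
  fix : ∀ t ∈ T, t ∉ centralizer (V : Set G) → ∀ v ∈ V, t * v = v * t → v ∈ centralizer (T : Set G)
  quad : ∀ t ∈ T, ∀ v ∈ V, t * v * t⁻¹ * v ∈ centralizer (T : Set G)
  reg : ∀ v ∈ V, v ∉ centralizer (T : Set G) → ∀ z ∈ V, z ∈ centralizer (T : Set G) →
    ∃ t ∈ T, t * v * t⁻¹ = v * z
  trans : ∀ v ∈ V, v ∈ centralizer (T : Set G) → v ≠ 1 → ∀ w ∈ V, w ∈ centralizer (T : Set G) → w ≠ 1 →
    ∃ n, n ∈ normalizer (V : Set G) ∧ n ∈ normalizer (T : Set G) ∧ n * v * n⁻¹ = w
  gen : ∀ x ∈ normalizer (V : Set G), x ∉ normalizer (T : Set G) → T ⊔ cj x T = normalizer (V : Set G)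
  disj : ∀ x ∈ normalizer (V : Set G), x ∉ normalizer (T : Set G) → ∀ v ∈ V,
    v ∈ centralizer (T : Set G) → v ∈ centralizer (cj x T : Set G) → v = 1
  sq : ∀ t ∈ T, t * t ∈ centralizer (V : Set G)
  ex : ∃ x ∈ normalizer (V : Set G), x ∉ normalizer (T : Set G)

section bar
variable {V P P' : Subgroup G}

theorem mem_bar_of (hP : P ≤ normalizer (V : Set G)) {n : normalizer (V : Set G)} (h : (n : G) ∈ P) :
    (phi V).rangeRestrict n ∈ bar V P := ⟨n, h, rfl⟩

theorem mem_of_mem_bar (hC : centralizer (V : Set G) ≤ P) {n : normalizer (V : Set G)}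
    (h : (phi V).rangeRestrict n ∈ bar V P) : (n : G) ∈ P := by
  obtain ⟨m, hm, hmn⟩ := h
  have h1 : phi V (m⁻¹ * n) = 1 := by
    have : phi V m = phi V n := congrArg Subtype.val hmn
    rw [map_mul, map_inv, this, inv_mul_cancel]
  have h2 := hC ((phi_eq_one_iff V _).mp h1)
  have h3 := mul_mem (show (m : G) ∈ P from hm) h2
  have h4 : (m : G) * ((m⁻¹ * n : normalizer (V : Set G)) : G) = n := by push_cast; group
  rwa [h4] at h3

theorem exists_of_mem_bar {x : (phi V).range} (h : x ∈ bar V P) :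
    ∃ n : normalizer (V : Set G), (n : G) ∈ P ∧ (phi V).rangeRestrict n = x := by
  obtain ⟨n, hn, rfl⟩ := h
  exact ⟨n, hn, rfl⟩

theorem smul_coe (n : normalizer (V : Set G)) (v : V) :
    (((phi V).rangeRestrict n • v : V) : G) = n * v * (n : G)⁻¹ := rfl

theorem smul_eq_iff (n : normalizer (V : Set G)) (v : V) :
    (phi V).rangeRestrict n • v = v ↔ (n : G) * v = v * n := by
  constructor
  · intro h
    have h1 := congrArg Subtype.val h
    rw [smul_coe] at h1
    exact mul_inv_eq_iff_eq_mul.mp h1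
  · intro h
    apply Subtype.ext
    rw [smul_coe, h, mul_inv_cancel_right]

theorem mem_Fix_bar (hP : P ≤ normalizer (V : Set G)) (v : V) :
    v ∈ Fix V (bar V P : Set (phi V).range) ↔ (v : G) ∈ centralizer (P : Set G) := by
  rw [mem_Fix, mem_centralizer_iff]
  constructor
  · intro h p hp
    exact (smul_eq_iff ⟨p, hP hp⟩ v).mp (h _ (mem_bar_of hP hp))
  · rintro h _ ⟨n, hn, rfl⟩
    exact (smul_eq_iff n v).mpr (h n hn)

theorem card_Fix_bar (hP : P ≤ normalizer (V : Set G)) :
    Nat.card (Fix V (bar V P : Set (phi V).range)) = Nat.card (V ⊓ centralizer (P : Set G) : Subgroup G) := by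
  apply Nat.card_congr
  refine ⟨fun v => ⟨((v : V) : G), (v : V).2, (mem_Fix_bar hP _).mp v.2⟩,
    fun v => ⟨⟨v, v.2.1⟩, (mem_Fix_bar hP _).mpr v.2.2⟩, ?_, ?_⟩
  · intro v; rfl
  · intro v; rfl

theorem card_bar (hP : P ≤ normalizer (V : Set G)) :
    Nat.card (bar V P) * Nat.card (P ⊓ centralizer (V : Set G) : Subgroup G) = Nat.card P := by
  let f : P →* (phi V).range := (phi V).rangeRestrict.comp (Subgroup.inclusion hP)
  have h1 : f.range = bar V P := by
    ext x
    constructor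
    · rintro ⟨p, rfl⟩
      exact mem_bar_of hP p.2
    · intro hx
      obtain ⟨n, hn, rfl⟩ := exists_of_mem_bar hx
      exact ⟨⟨n, hn⟩, rfl⟩
  have h2 : Nat.card f.ker = Nat.card (P ⊓ centralizer (V : Set G) : Subgroup G) := by
    apply Nat.card_congr
    refine ⟨fun p => ⟨((p : P) : G), (p : P).2, ?_⟩, fun p => ⟨⟨p, p.2.1⟩, ?_⟩, ?_, ?_⟩
    · have := MonoidHom.mem_ker.mp p.2
      exact (phi_eq_one_iff V ⟨((p : P) : G), hP (p : P).2⟩).mp (congrArg Subtype.val this)
    · rw [MonoidHom.mem_ker]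
      exact Subtype.ext ((phi_eq_one_iff V ⟨(p : G), hP p.2.1⟩).mpr p.2.2)
    · intro p; rfl
    · intro p; rfl
  rw [← h1, ← h2, ← Subgroup.index_ker]
  exact f.ker.index_mul_card

theorem bar_isPGroup (hP : IsPGroup 2 P) : IsPGroup 2 (bar V P) := (hP.comap_subtype).map _

theorem bar_mono (h : P ≤ P') : bar V P ≤ bar V P' :=
  Subgroup.map_mono (fun _ hx => h hx)

theorem le_of_bar_le (hP : P ≤ normalizer (V : Set G)) (hC : centralizer (V : Set G) ≤ P')
    (h : bar V P ≤ bar V P') : P ≤ P' := by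
  intro p hp
  exact mem_of_mem_bar (n := ⟨p, hP hp⟩) hC (h (mem_bar_of hP hp))

theorem bar_cj (n : normalizer (V : Set G)) :
    bar V (cj (n : G) P) = cj ((phi V).rangeRestrict n) (bar V P) := by
  ext x
  rw [mem_cj]
  constructor
  · intro hx
    obtain ⟨m, hm, rfl⟩ := exists_of_mem_bar hx
    refine ⟨n⁻¹ * m * n, ?_, by simp only [map_mul, map_inv]⟩
    exact (mem_cj (H := P) (g := (n : G)) (x := (m : G))).mp hm
  · intro hx
    obtain ⟨m, hm, hmx⟩ := exists_of_mem_bar hx
    refine ⟨n * m * n⁻¹, ?_, ?_⟩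
    · show (n : G) * m * (n : G)⁻¹ ∈ cj (n : G) P
      rw [mem_cj]
      have : (n : G)⁻¹ * (n * m * (n : G)⁻¹) * n = m := by group
      rw [this]; exact hm
    · rw [map_mul, map_mul, map_inv, hmx]; group

theorem cj_centralizer_of_mem (n : normalizer (V : Set G)) :
    cj (n : G) (centralizer (V : Set G)) = centralizer (V : Set G) :=
  mem_normalizer_iff_cj.mp (normalizer_le_normalizer_centralizer V n.2)

theorem cj_normalizer_of_mem (n : normalizer (V : Set G)) :
    cj (n : G) (normalizer (V : Set G)) = normalizer (V : Set G) := cj_self_of_mem n.2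

theorem mem_normalizer_bar (hP : P ≤ normalizer (V : Set G)) (hC : centralizer (V : Set G) ≤ P)
    (n : normalizer (V : Set G)) :
    (phi V).rangeRestrict n ∈ normalizer (bar V P : Set (phi V).range) ↔ (n : G) ∈ normalizer (P : Set G) := by
  rw [mem_normalizer_iff_cj, mem_normalizer_iff_cj, ← bar_cj]
  constructor
  · intro h
    have h1 : cj (n : G) P ≤ normalizer (V : Set G) :=
      (cj_mono _ hP).trans (cj_normalizer_of_mem n).le
    have h2 : centralizer (V : Set G) ≤ cj (n : G) P := by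
      rw [← cj_centralizer_of_mem n]; exact cj_mono _ hC
    exact le_antisymm (le_of_bar_le h1 hC h.le) (le_of_bar_le hP h2 h.ge)
  · intro h; rw [h]

end bar

theorem centralizer_le_sylowIn (hG : IsCIT G) {V T : Subgroup G} (hV : Vtx V)
    (hT : IsSylowIn 2 T (normalizer (V : Set G))) : centralizer (V : Set G) ≤ T := by
  haveI : Fact (Nat.Prime 2) := ⟨Nat.prime_two⟩
  have hCp : IsPGroup 2 (centralizer (V : Set G)) := hG.centralizer_isPGroup hV.ne hV.isPGroup
  have h1 : T ≤ normalizer (centralizer (V : Set G) : Set G) :=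
    hT.2.1.trans (normalizer_le_normalizer_centralizer V)
  have h2 : IsPGroup 2 (centralizer (V : Set G) ⊔ T : Subgroup G) := hCp.to_sup_of_normal_left' hT.1 h1
  have h3 := hT.2.2 _ h2 (sup_le (centralizer_le_normalizer' V) hT.2.1) le_sup_right
  rw [← h3]; exact le_sup_left

/-- the offender theorem, local form -/
theorem nat_of_off (hG : IsCIT G) {V T A : Subgroup G} (hV : Vtx V)
    (hT : IsSylowIn 2 T (normalizer (V : Set G))) (hAT : A ≤ T)
    (hAV : ¬ A ≤ centralizer (V : Set G))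
    (hquad : ∀ a ∈ A, ∀ b ∈ A, ∀ v ∈ V, b * (a * v * a⁻¹ * v) = (a * v * a⁻¹ * v) * b)
    (hoff : Nat.card V * Nat.card (A ⊓ centralizer (V : Set G) : Subgroup G) ≤
      Nat.card A * Nat.card (V ⊓ centralizer (A : Set G) : Subgroup G)) :
    NatV T V ∧ T ≤ A ⊔ centralizer (V : Set G) := by
  haveI : Fact (Nat.Prime 2) := ⟨Nat.prime_two⟩
  have hF := fpf hG hV
  have hA : A ≤ normalizer (V : Set G) := hAT.trans hT.2.1
  have hCT := centralizer_le_sylowIn hG hV hT
  have H : FPF.Off hF (bar V A) := by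
    refine ⟨?_, ?_, ?_⟩
    · intro hb
      apply hAV
      intro a ha
      have := mem_bar_of hA (n := ⟨a, hA ha⟩) ha
      rw [hb, Subgroup.mem_bot] at this
      exact (phi_eq_one_iff V ⟨a, hA ha⟩).mp (congrArg Subtype.val this)
    · intro x hx y hy v
      obtain ⟨n, hn, rfl⟩ := exists_of_mem_bar hx
      obtain ⟨m, hm, rfl⟩ := exists_of_mem_bar hy
      rw [smul_eq_iff]
      exact hquad n hn m hm v v.2
    · rw [card_Fix_bar hA]
      have h1 := card_bar hA
      have hpos : 0 < Nat.card (A ⊓ centralizer (V : Set G) : Subgroup G) := Nat.card_pos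
      rw [← h1] at hoff
      apply Nat.le_of_mul_le_mul_right _ hpos
      calc Nat.card V * Nat.card (A ⊓ centralizer (V : Set G) : Subgroup G) ≤ _ := hoff
        _ = _ := by ring
  have hTA : bar V T = bar V A := H.eq_of_le (bar_isPGroup hT.1) (bar_mono hAT)
  have hTsup : T ≤ A ⊔ centralizer (V : Set G) := by
    apply le_of_bar_le hT.2.1 le_sup_right
    rw [hTA]; exact bar_mono le_sup_left
  rw [← hTA] at H
  refine ⟨?_, hTsup⟩
  have hTN := hT.2.1
  have cF := card_Fix_bar (V := V) hTN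
  have cT : Nat.card T = Nat.card (V ⊓ centralizer (T : Set G) : Subgroup G) *
      Nat.card (centralizer (V : Set G)) := by
    have h1 := card_bar (V := V) hTN
    rw [H.card_A, cF] at h1
    rw [← h1]
    congr 2
    rw [inf_eq_right.mpr hCT]
  have hcardN : Nat.card (normalizer (V : Set G)) =
      Nat.card (phi V).range * Nat.card (centralizer (V : Set G)) := by
    have h1 := card_bar (V := V) (P := normalizer (V : Set G)) le_rfl
    rw [inf_eq_right.mpr (centralizer_le_normalizer' V)] at h1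
    rw [← h1]
    congr 1
    have : bar V (normalizer (V : Set G)) = ⊤ := by
      rw [eq_top_iff]
      intro x _
      obtain ⟨n, hn⟩ := x.2
      exact ⟨n, n.2, Subtype.ext hn⟩
    rw [this, Subgroup.card_top]
  refine ⟨hV, hT, hCT, ?_, ?_, cT, ?_, ?_, ?_, ?_, ?_, ?_, ?_, ?_, ?_⟩
  · rw [← cF]; exact H.one_lt
  · rw [H.card_V, cF]
  · rw [hcardN, H.card_X, H.card_A, cF]
  · intro t ht htC v hv htv
    have h1 : (phi V).rangeRestrict ⟨t, hTN ht⟩ ≠ 1 := fun h =>
      htC ((phi_eq_one_iff V ⟨t, hTN ht⟩).mp (congrArg Subtype.val h))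
    have h2 := H.fix_eq (mem_bar_of hTN (n := ⟨t, hTN ht⟩) ht) h1
    have h3 : (⟨v, hv⟩ : V) ∈ Fix V ({(phi V).rangeRestrict ⟨t, hTN ht⟩} : Set (phi V).range) :=
      mem_Fix_singleton.mpr ((smul_eq_iff _ _).mpr htv)
    rw [h2, mem_Fix_bar hTN] at h3
    exact h3
  · intro t ht v hv
    rw [mem_centralizer_iff]
    intro b hb
    have h1 := H.quad _ (mem_bar_of hTN (n := ⟨t, hTN ht⟩) ht) _ (mem_bar_of hTN (n := ⟨b, hTN hb⟩) hb) ⟨v, hv⟩
    rw [smul_eq_iff] at h1
    exact h1
  · intro v hv hvT z hz hzT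
    obtain ⟨a, ha, hae⟩ := H.exists_smul (v := ⟨v, hv⟩) (w := ⟨z, hz⟩)
      (by rw [mem_Fix_bar hTN]; exact hvT) (by rw [mem_Fix_bar hTN]; exact hzT)
    obtain ⟨n, hn, rfl⟩ := exists_of_mem_bar ha
    exact ⟨n, hn, congrArg Subtype.val hae⟩
  · intro v hv hvT hv1 w hw hwT hw1
    obtain ⟨x, hx, hxe⟩ := H.trans_fix (v := ⟨v, hv⟩) (w := ⟨w, hw⟩)
      (by rw [mem_Fix_bar hTN]; exact hvT) (by rw [mem_Fix_bar hTN]; exact hwT)
      (fun h => hv1 (congrArg Subtype.val h)) (fun h => hw1 (congrArg Subtype.val h))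
    obtain ⟨n, hn⟩ := x.2
    have hn' : (phi V).rangeRestrict n = x := Subtype.ext hn
    rw [← hn'] at hx hxe
    refine ⟨n, n.2, (mem_normalizer_bar hTN hCT n).mp hx, congrArg Subtype.val hxe⟩
  · intro x hx hxT
    have h1 : (phi V).rangeRestrict ⟨x, hx⟩ ∉ normalizer (bar V T : Set (phi V).range) := by
      rw [mem_normalizer_bar hTN hCT]; exact hxT
    have h2 := H.sup_eq_top h1
    have hcjN : cj x T ≤ normalizer (V : Set G) := by
      rw [← cj_normalizer_of_mem (⟨x, hx⟩ : normalizer (V : Set G))]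
      exact cj_mono _ hTN
    apply le_antisymm (sup_le hTN hcjN)
    apply le_of_bar_le le_rfl (hCT.trans le_sup_left)
    have h3 : bar V T ⊔ cj ((phi V).rangeRestrict ⟨x, hx⟩) (bar V T) ≤ bar V (T ⊔ cj x T) := by
      apply sup_le (bar_mono le_sup_left)
      rw [← bar_cj]
      exact bar_mono le_sup_right
    rw [h2] at h3
    exact le_top.trans h3
  · intro x hx hxT v hv hvT hvx
    have h1 : (phi V).rangeRestrict ⟨x, hx⟩ ∉ normalizer (bar V T : Set (phi V).range) := by
      rw [mem_normalizer_bar hTN hCT]; exact hxT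
    have hcjN : cj x T ≤ normalizer (V : Set G) := by
      rw [← cj_normalizer_of_mem (⟨x, hx⟩ : normalizer (V : Set G))]
      exact cj_mono _ hTN
    have h2 := H.disj h1 ⟨v, hv⟩ ((mem_Fix_bar hTN _).mpr hvT) (by
      rw [← bar_cj, mem_Fix_bar hcjN]; exact hvx)
    exact congrArg Subtype.val h2
  · intro t ht
    have h1 := H.sq (mem_bar_of hTN (n := ⟨t, hTN ht⟩) ht)
    rw [← map_mul] at h1
    have h2 : phi V (⟨t, hTN ht⟩ * ⟨t, hTN ht⟩) = 1 := congrArg Subtype.val h1
    exact (phi_eq_one_iff V _).mp h2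
  · obtain ⟨g, hg⟩ := H.exists_not_normalizer
    obtain ⟨n, hn⟩ := g.2
    have hn' : (phi V).rangeRestrict n = g := Subtype.ext hn
    refine ⟨n, n.2, fun h => hg ?_⟩
    rw [← hn', mem_normalizer_bar hTN hCT]
    exact h

end Cfsg.Agent.CIT
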