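import Mathlib
import Cfsg.Agent.CIT.Nat
import Cfsg.Agent.H32.Syl

set_option autoImplicit false

/-!
# CIT groups IV: Thompson replacement and the Thompson subgroup
-/

namespace Cfsg.Agent.CIT

open Subgroup Cfsg.Agent.H80 Cfsg.Agent.H32

variable {G : Type*} [Group G] [Finite G]

/-- elementary abelian subgroups of maximal order -/
def maxEl (T A : Subgroup G) : Prop :=
  A ≤ T ∧ (∀ a ∈ A, a * a = 1) ∧ ∀ B ≤ T, (∀ b ∈ B, b * b = 1) → Nat.card B ≤ Nat.card A

omit [Finite G] in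
theorem inv_of_two {V : Subgroup G} (h : ∀ v ∈ V, v * v = 1) {a : G} (ha : a ∈ V) : a⁻¹ = a :=
  inv_eq_of_mul_eq_one_left (h a ha)

theorem sup_two {A B : Subgroup G} (hA : ∀ a ∈ A, a * a = 1) (hB : ∀ b ∈ B, b * b = 1)
    (hAB : ∀ a ∈ A, ∀ b ∈ B, a * b = b * a) : ∀ x ∈ A ⊔ B, x * x = 1 := by
  have hn : B ≤ normalizer (A : Set G) := by
    intro b hb
    rw [mem_normalizer_iff_conj]
    intro a
    constructor
    · intro ha
      rw [← hAB a ha b hb, mul_inv_cancel_right]; exact ha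
    · intro ha
      have h1 := hAB _ ha b hb
      have h2 : a = b * a * b⁻¹ := by
        have h3 : b * a = b * (b * a * b⁻¹) := by rw [← h1]; group
        exact mul_left_cancel h3
      rw [h2]; exact ha
  intro x hx
  obtain ⟨a, ha, b, hb, rfl⟩ := (mem_sup_of_le_normalizer hn).mp hx
  calc a * b * (a * b) = a * (b * a) * b := by group
    _ = a * a * (b * b) := by rw [← hAB a ha b hb]; group
    _ = 1 := by rw [hA a ha, hB b hb, mul_one]

theorem card_sup_of_comm {A B : Subgroup G} (hAB : ∀ a ∈ A, ∀ b ∈ B, a * b = b * a) :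
    Nat.card (A ⊔ B : Subgroup G) * Nat.card (A ⊓ B : Subgroup G) = Nat.card A * Nat.card B := by
  apply card_sup_mul_card_inf
  intro b hb
  apply centralizer_le_normalizer' A
  refine mem_centralizer_iff.mpr ?_
  intro a ha
  exact hAB a ha b hb

/-- nilpotent action -/
theorem nilp_action {T A V M : Subgroup G} (hT : IsPGroup 2 T) (hA : A ≤ T) (hV : V ≤ T)
    (hM : M ≤ Subgroup.closure {x | ∃ a ∈ A, ∃ v ∈ V, x = a * v * a⁻¹ * v⁻¹})
    (hVM : ∀ v ∈ V, ∃ m ∈ M, ∃ c ∈ centralizer (A : Set G), c ∈ V ∧ v = m * c) :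
    V ≤ centralizer (A : Set G) := by
  haveI : Fact (Nat.Prime 2) := ⟨Nat.prime_two⟩
  haveI := hT.isNilpotent
  let L : ℕ → Subgroup G := fun n => (Subgroup.lowerCentralSeries (⊤ : Subgroup T) n).map T.subtype
  have key : ∀ n : ℕ, ∀ v ∈ V, ∃ m ∈ L n, ∃ c ∈ centralizer (A : Set G), c ∈ V ∧ v = m * c := by
    intro n
    induction n with
    | zero =>
      intro v hv
      refine ⟨v, ⟨⟨v, hV hv⟩, by simp, rfl⟩, 1, one_mem _, one_mem _, (mul_one v).symm⟩
    | succ n ih =>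
      have h1 : M ≤ L (n + 1) := by
        refine hM.trans ?_
        rw [closure_le]
        rintro _ ⟨a, ha, v, hv, rfl⟩
        obtain ⟨m, ⟨m', hm', hmm⟩, c, hc, hcV, rfl⟩ := ih v hv
        have hac := mem_centralizer_iff.mp hc a ha
        have h2 : a * (m * c) * a⁻¹ * (m * c)⁻¹ = a * m * a⁻¹ * m⁻¹ := by
          have : a * c * a⁻¹ = c := by rw [hac]; group
          calc a * (m * c) * a⁻¹ * (m * c)⁻¹ = a * m * a⁻¹ * (a * c * a⁻¹) * c⁻¹ * m⁻¹ := by group
            _ = _ := by rw [this]; group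
        rw [h2]
        refine ⟨⟨a, hA ha⟩ * m' * ⟨a, hA ha⟩⁻¹ * m'⁻¹, ?_, ?_⟩
        · rw [SetLike.mem_coe, Subgroup.lowerCentralSeries_succ]
          have h3 : (⟨a, hA ha⟩ : T) * m' * ⟨a, hA ha⟩⁻¹ * m'⁻¹ =
              (m' * ⟨a, hA ha⟩ * m'⁻¹ * (⟨a, hA ha⟩ : T)⁻¹)⁻¹ := by group
          rw [h3]
          apply inv_mem
          exact Subgroup.commutator_mem_commutator hm' (Subgroup.mem_top _)
        · rw [← hmm]; rfl
      intro v hv
      obtain ⟨m, hm, c, hc, hcV, hvm⟩ := hVM v hv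
      exact ⟨m, h1 hm, c, hc, hcV, hvm⟩
  intro v hv
  obtain ⟨n, hn⟩ := Subgroup.nilpotent_iff_lowerCentralSeries.mp (inferInstance : Group.IsNilpotent T)
  obtain ⟨m, ⟨m', hm', hmm⟩, c, hc, hcV, rfl⟩ := key n v hv
  rw [hn, SetLike.mem_coe, Subgroup.mem_bot] at hm'
  have : m = 1 := by rw [← hmm, hm']; rfl
  rw [this, one_mul]; exact hc

theorem conj_mem_of {T V : Subgroup G} (hTV : T ≤ normalizer (V : Set G)) {a v : G} (ha : a ∈ T)
    (hv : v ∈ V) : a * v * a⁻¹ ∈ V := (mem_normalizer_iff_conj.mp (hTV ha) v).mp hv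

theorem replacement_card {A V M : Subgroup G} (hA2 : ∀ a ∈ A, a * a = 1) (hV2 : ∀ v ∈ V, v * v = 1)
    (hAV : A ≤ normalizer (V : Set G)) {v : G} (hv : v ∈ V)
    (hM : M = Subgroup.closure {x | ∃ a ∈ A, x = a * v * a⁻¹ * v}) :
    Nat.card A * Nat.card (M ⊓ centralizer (A : Set G) : Subgroup G) ≤
      Nat.card M * Nat.card (A ⊓ centralizer (M : Set G) : Subgroup G) := by
  have hgM : ∀ a ∈ A, a * v * a⁻¹ * v ∈ M := fun a ha => by
    rw [hM]; exact subset_closure ⟨a, ha, rfl⟩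
  have hMV : M ≤ V := by
    rw [hM, closure_le]
    rintro _ ⟨a, ha, rfl⟩
    exact mul_mem (conj_mem_of hAV ha hv) hv
  let g : A × (M ⊓ centralizer (A : Set G) : Subgroup G) → M := fun p =>
    ⟨(p.1 : G) * v * (p.1 : G)⁻¹ * v * p.2, mul_mem (hgM _ p.1.2) p.2.2.1⟩
  have hfib : ∀ p q, g p = g q → (q.1 : G)⁻¹ * p.1 ∈ centralizer (M : Set G) := by
    rintro ⟨a, m⟩ ⟨r, m'⟩ hpq
    have hpq' : (a : G) * v * (a : G)⁻¹ * v * m = (r : G) * v * (r : G)⁻¹ * v * m' := congrArg Subtype.val hpq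
    refine mem_centralizer_iff.mpr ?_
    -- commutation with generators
    have hgen : ∀ c ∈ A, (c * v * c⁻¹ * v) * ((r : G)⁻¹ * a) = ((r : G)⁻¹ * a) * (c * v * c⁻¹ * v) := by
      intro c hc
      have hmem : ∀ a ∈ A, a * v * a⁻¹ ∈ V := fun a ha => conj_mem_of hAV ha hv
      have ident : ∀ a ∈ A, c * (a * v * a⁻¹ * v) * c⁻¹ * (a * v * a⁻¹ * v) =
          a * (c * v * c⁻¹ * v) * a⁻¹ * (c * v * c⁻¹ * v) := by
        intro a ha
        have h1 := comm_of_two hV2 (hmem c hc) (hmem a ha)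
        have h2 := comm_of_two hA2 hc ha
        calc c * (a * v * a⁻¹ * v) * c⁻¹ * (a * v * a⁻¹ * v)
            = (c * a) * v * (c * a)⁻¹ * ((c * v * c⁻¹) * (a * v * a⁻¹)) * v := by group
          _ = (a * c) * v * (a * c)⁻¹ * ((a * v * a⁻¹) * (c * v * c⁻¹)) * v := by rw [h1, h2]
          _ = _ := by group
      have hDa : (a : G) * v * (a : G)⁻¹ * v ∈ V := mul_mem (hmem a a.2) hv
      have hDr : (r : G) * v * (r : G)⁻¹ * v ∈ V := mul_mem (hmem r r.2) hv
      have hDc : c * v * c⁻¹ * v ∈ V := mul_mem (hmem c hc) hv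
      -- D(a) = D(r) * u
      set u : G := (m' : G) * (m : G)⁻¹ with hu
      have huC : c * u = u * c := by
        have e1 := mem_centralizer_iff.mp m'.2.2 c hc
        have e2 := mem_centralizer_iff.mp m.2.2 c hc
        have e3 : Commute c (m' : G) := e1
        have e4 : Commute c (m : G) := e2
        exact (e3.mul_right e4.inv_right).eq
      have huV : u ∈ V := mul_mem (hMV m'.2.1) (inv_mem (hMV m.2.1))
      have hau : (a : G) * v * (a : G)⁻¹ * v = (r : G) * v * (r : G)⁻¹ * v * u := by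
        rw [hu, ← mul_assoc, ← hpq', mul_inv_cancel_right]
      have h3 : c * ((a : G) * v * (a : G)⁻¹ * v) * c⁻¹ * ((a : G) * v * (a : G)⁻¹ * v) =
          c * ((r : G) * v * (r : G)⁻¹ * v) * c⁻¹ * ((r : G) * v * (r : G)⁻¹ * v) := by
        rw [hau]
        have e5 := comm_of_two hV2 hDr huV
        set D := (r : G) * v * (r : G)⁻¹ * v with hD
        calc c * (D * u) * c⁻¹ * (D * u) = c * D * (u * c⁻¹) * (D * u) := by group
          _ = c * D * (c⁻¹ * u) * (u * D) := by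
              have : u * c⁻¹ = c⁻¹ * u := by
                rw [mul_inv_eq_iff_eq_mul, mul_assoc, ← huC, inv_mul_cancel_left]
              rw [this, e5]
          _ = c * D * c⁻¹ * (u * u) * D := by group
          _ = c * D * c⁻¹ * D := by rw [hV2 u huV, mul_one]
      rw [ident a a.2, ident r r.2] at h3
      have h4 : (a : G) * (c * v * c⁻¹ * v) * (a : G)⁻¹ = (r : G) * (c * v * c⁻¹ * v) * (r : G)⁻¹ :=
        mul_right_cancel h3
      set D := c * v * c⁻¹ * v with hD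
      calc D * ((r : G)⁻¹ * a) = (r : G)⁻¹ * ((r : G) * D * (r : G)⁻¹) * a := by group
        _ = (r : G)⁻¹ * ((a : G) * D * (a : G)⁻¹) * a := by rw [h4]
        _ = _ := by group
    have hle : M ≤ centralizer ({(r : G)⁻¹ * a} : Set G) := by
      rw [hM, closure_le]
      rintro _ ⟨c, hc, rfl⟩
      rw [SetLike.mem_coe, mem_centralizer_singleton_iff]
      exact hgen c hc
    intro x hx
    exact mem_centralizer_singleton_iff.mp (hle hx)
  classical
  let rep : M → A := fun x => if h : ∃ p, g p = x then (Classical.choose h).1 else 1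
  have hrep : ∀ p, ∃ q, g q = g p ∧ rep (g p) = q.1 := by
    intro p
    have h : ∃ q, g q = g p := ⟨p, rfl⟩
    refine ⟨Classical.choose h, Classical.choose_spec h, ?_⟩
    show (if h : ∃ q, g q = g p then (Classical.choose h).1 else 1) = _
    rw [dif_pos h]
  let f : A × (M ⊓ centralizer (A : Set G) : Subgroup G) →
      M × (A ⊓ centralizer (M : Set G) : Subgroup G) := fun p =>
    (g p, ⟨((rep (g p) : A) : G)⁻¹ * p.1, by
      obtain ⟨q, hq1, hq2⟩ := hrep p
      rw [hq2]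
      exact Subgroup.mem_inf.mpr ⟨mul_mem (inv_mem q.1.2) p.1.2, hfib p q hq1.symm⟩⟩)
  have hf : Function.Injective f := by
    intro p q hpq
    have h1 : g p = g q := congrArg Prod.fst hpq
    have h2 : ((rep (g p) : A) : G)⁻¹ * p.1 = ((rep (g q) : A) : G)⁻¹ * q.1 :=
      congrArg (fun z => ((Prod.snd z : (A ⊓ centralizer (M : Set G) : Subgroup G)) : G)) hpq
    rw [h1] at h2
    have h3 : (p.1 : G) = q.1 := mul_left_cancel h2
    have h4 : (p.1 : G) * v * (p.1 : G)⁻¹ * v * p.2 = (q.1 : G) * v * (q.1 : G)⁻¹ * v * q.2 :=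
      congrArg Subtype.val h1
    rw [h3] at h4
    exact Prod.ext (Subtype.ext h3) (Subtype.ext (mul_left_cancel h4))
  rw [← Nat.card_prod, ← Nat.card_prod]
  exact Nat.card_le_card_of_injective f hf

theorem maxEl_card {T A B : Subgroup G} (hA : maxEl T A) (hB : maxEl T B) : Nat.card A = Nat.card B :=
  le_antisymm (hB.2.2 A hA.1 hA.2.1) (hA.2.2 B hB.1 hB.2.1)

/-- Thompson replacement: quadratic elementary abelian subgroup of maximal order -/
theorem exists_quad {T V A0 : Subgroup G} (hT : IsPGroup 2 T) (hVT : V ≤ T)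
    (hV2 : ∀ v ∈ V, v * v = 1) (hTV : T ≤ normalizer (V : Set G)) (hA0 : maxEl T A0)
    (hA0V : ¬ A0 ≤ centralizer (V : Set G)) :
    ∃ A, maxEl T A ∧ ¬ A ≤ centralizer (V : Set G) ∧
      ∀ a ∈ A, ∀ b ∈ A, ∀ v ∈ V, b * (a * v * a⁻¹ * v) = (a * v * a⁻¹ * v) * b := by
  obtain ⟨A, ⟨hA, hAV⟩, hmax⟩ := Set.exists_max_image
    {A : Subgroup G | maxEl T A ∧ ¬ A ≤ centralizer (V : Set G)}
    (fun A => Nat.card (A ⊓ V : Subgroup G)) (Set.toFinite _) ⟨A0, hA0, hA0V⟩
  refine ⟨A, hA, hAV, ?_⟩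
  by_contra hcon
  push Not at hcon
  obtain ⟨a1, ha1, b1, hb1, v, hv, hne⟩ := hcon
  have hAT := hA.1
  have hA2 := hA.2.1
  have hAN : A ≤ normalizer (V : Set G) := hAT.trans hTV
  set M : Subgroup G := Subgroup.closure {x | ∃ a ∈ A, x = a * v * a⁻¹ * v} with hM
  have hgM : ∀ a ∈ A, a * v * a⁻¹ * v ∈ M := fun a ha => by
    rw [hM]; exact subset_closure ⟨a, ha, rfl⟩
  have hMV : M ≤ V := by
    rw [hM, closure_le]
    rintro _ ⟨a, ha, rfl⟩
    exact mul_mem (conj_mem_of hAN ha hv) hv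
  set C : Subgroup G := A ⊓ centralizer (M : Set G) with hC
  have h1 := replacement_card hA2 hV2 hAN hv hM
  have hMC : ∀ a ∈ M, ∀ b ∈ C, a * b = b * a := fun a ha b hb => mem_centralizer_iff.mp hb.2 a ha
  have h2 := card_sup_of_comm hMC
  have hel : ∀ x ∈ M ⊔ C, x * x = 1 :=
    sup_two (fun a ha => hV2 a (hMV ha)) (fun b hb => hA2 b hb.1) hMC
  have hleT : M ⊔ C ≤ T := sup_le (hMV.trans hVT) (inf_le_left.trans hAT)
  have h3 : Nat.card (M ⊓ C : Subgroup G) ≤ Nat.card (M ⊓ centralizer (A : Set G) : Subgroup G) := by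
    apply Subgroup.card_le_of_le
    intro x hx
    refine ⟨hx.1, ?_⟩
    refine mem_centralizer_iff.mpr ?_
    intro a ha
    exact comm_of_two hA2 ha hx.2.1
  have hpos : 0 < Nat.card (M ⊓ C : Subgroup G) := Nat.card_pos
  have h4 : Nat.card A ≤ Nat.card (M ⊔ C : Subgroup G) := by
    apply Nat.le_of_mul_le_mul_right _ hpos
    rw [h2]
    exact (Nat.mul_le_mul_left _ h3).trans h1
  have h5 : Nat.card (M ⊔ C : Subgroup G) ≤ Nat.card A := hA.2.2 _ hleT hel
  have hMCmax : maxEl T (M ⊔ C) := ⟨hleT, hel, fun B hB hB2 => (hA.2.2 B hB hB2).trans h4⟩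
  have hAVle : A ⊓ V ≤ (M ⊔ C) ⊓ V := by
    intro x hx
    refine ⟨mem_sup_right ⟨hx.1, ?_⟩, hx.2⟩
    refine mem_centralizer_iff.mpr ?_
    intro m hm
    exact comm_of_two hV2 (hMV hm) hx.2
  have hMnot : a1 * v * a1⁻¹ * v ∉ A := fun h => hne (comm_of_two hA2 hb1 h)
  have hlt : Nat.card (A ⊓ V : Subgroup G) < Nat.card ((M ⊔ C) ⊓ V : Subgroup G) := by
    apply lt_of_le_of_ne (Subgroup.card_le_of_le hAVle)
    intro heq
    have := Subgroup.eq_of_le_of_card_ge hAVle heq.ge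
    apply hMnot
    have h6 : a1 * v * a1⁻¹ * v ∈ (M ⊔ C) ⊓ V :=
      ⟨mem_sup_left (hgM a1 ha1), hMV (hgM a1 ha1)⟩
    rw [← this] at h6
    exact h6.1
  have hMCV : M ⊔ C ≤ centralizer (V : Set G) := by
    by_contra hh
    exact absurd (hmax (M ⊔ C) ⟨hMCmax, hh⟩) (not_le_of_gt hlt)
  have hCV : C ≤ centralizer (V : Set G) := le_sup_right.trans hMCV
  have hVC : ∀ a ∈ V, ∀ b ∈ C, a * b = b * a := fun a ha b hb => mem_centralizer_iff.mp (hCV hb) a ha
  have h7 := card_sup_of_comm hVC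
  have h8 : Nat.card (V ⊔ C : Subgroup G) ≤ Nat.card A :=
    hA.2.2 _ (sup_le hVT (inf_le_left.trans hAT)) (sup_two hV2 (fun b hb => hA2 b hb.1) hVC)
  have e1 : V ⊓ C = V ⊓ A := by
    apply le_antisymm (inf_le_inf_left _ inf_le_left)
    intro x hx
    refine ⟨hx.1, hx.2, ?_⟩
    refine mem_centralizer_iff.mpr ?_
    intro m hm
    exact comm_of_two hV2 (hMV hm) hx.1
  have e2 : M ⊓ C = M ⊓ A := by
    apply le_antisymm (inf_le_inf_left _ inf_le_left)
    intro x hx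
    refine ⟨hx.1, hx.2, ?_⟩
    refine mem_centralizer_iff.mpr ?_
    intro m hm
    exact comm_of_two hV2 (hMV hm) (hMV hx.1)
  have e3 : M ⊓ (V ⊓ A) = M ⊓ A := by rw [← inf_assoc, inf_eq_left.mpr hMV]
  have h9 := card_sup_of_comm (A := M) (B := V ⊓ A) (fun a ha b hb => comm_of_two hV2 (hMV ha) hb.1)
  rw [e3] at h9
  rw [e1] at h7
  have e4 : Nat.card (M ⊔ C : Subgroup G) = Nat.card A := le_antisymm h5 h4
  rw [e2, e4] at h2
  have hVle : Nat.card V ≤ Nat.card (M ⊔ (V ⊓ A) : Subgroup G) := by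
    have p1 : 0 < Nat.card (M ⊓ A : Subgroup G) := Nat.card_pos
    have p2 : 0 < Nat.card C := Nat.card_pos
    have p3 : Nat.card V * Nat.card C ≤ Nat.card A * Nat.card (V ⊓ A : Subgroup G) := by
      rw [← h7]; exact Nat.mul_le_mul_right _ h8
    apply Nat.le_of_mul_le_mul_right _ p1
    rw [h9]
    apply Nat.le_of_mul_le_mul_right _ p2
    calc Nat.card V * Nat.card (M ⊓ A : Subgroup G) * Nat.card C
        = (Nat.card V * Nat.card C) * Nat.card (M ⊓ A : Subgroup G) := by ring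
      _ ≤ (Nat.card A * Nat.card (V ⊓ A : Subgroup G)) * Nat.card (M ⊓ A : Subgroup G) :=
          Nat.mul_le_mul_right _ p3
      _ = (Nat.card A * Nat.card (M ⊓ A : Subgroup G)) * Nat.card (V ⊓ A : Subgroup G) := by ring
      _ = _ := by rw [h2]; ring
  have hVeq : M ⊔ (V ⊓ A) = V :=
    Subgroup.eq_of_le_of_card_ge (sup_le hMV inf_le_left) hVle
  apply hAV
  have h10 := nilp_action (M := M) hT hAT hVT (by
    rw [hM, closure_le]
    rintro _ ⟨a, ha, rfl⟩
    apply Subgroup.subset_closure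
    refine ⟨a, ha, v, hv, ?_⟩
    rw [inv_of_two hV2 hv]) (by
    intro w hw
    rw [← hVeq] at hw
    have hn : (V ⊓ A : Subgroup G) ≤ normalizer (M : Set G) := by
      intro x hx
      apply centralizer_le_normalizer' M
      refine mem_centralizer_iff.mpr ?_
      intro m hm
      exact comm_of_two hV2 (hMV hm) hx.1
    obtain ⟨m, hm, c, hc, rfl⟩ := (mem_sup_of_le_normalizer hn).mp hw
    refine ⟨m, hm, c, ?_, hc.1, rfl⟩
    refine mem_centralizer_iff.mpr ?_
    intro a ha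
    exact comm_of_two hA2 ha hc.2)
  intro a ha
  refine mem_centralizer_iff.mpr ?_
  intro w hw
  exact (mem_centralizer_iff.mp (h10 hw) a ha).symm

/-- If some elementary abelian subgroup of maximal order of `T` does not centralize the vertex `V`
then `V` is natural. -/
theorem nat_of_J (hG : IsCIT G) {V T A0 : Subgroup G} (hV : Vtx V)
    (hT : IsSylowIn 2 T (normalizer (V : Set G))) (hA0 : maxEl T A0)
    (hA0V : ¬ A0 ≤ centralizer (V : Set G)) :
    NatV T V ∧ ∃ A, maxEl T A ∧ ¬ A ≤ centralizer (V : Set G) ∧ T ≤ A ⊔ centralizer (V : Set G) := by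
  have hCT := centralizer_le_sylowIn hG hV hT
  have hVT : V ≤ T := hV.le_centralizer.trans hCT
  obtain ⟨A, hA, hAV, hq⟩ := exists_quad hT.1 hVT hV.two hT.2.1 hA0 hA0V
  have hoff : Nat.card V * Nat.card (A ⊓ centralizer (V : Set G) : Subgroup G) ≤
      Nat.card A * Nat.card (V ⊓ centralizer (A : Set G) : Subgroup G) := by
    set C : Subgroup G := A ⊓ centralizer (V : Set G) with hC
    have hVC : ∀ a ∈ V, ∀ b ∈ C, a * b = b * a := fun a ha b hb => mem_centralizer_iff.mp hb.2 a ha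
    have h7 := card_sup_of_comm hVC
    have h8 : Nat.card (V ⊔ C : Subgroup G) ≤ Nat.card A :=
      hA.2.2 _ (sup_le hVT (inf_le_left.trans hA.1)) (sup_two hV.two (fun b hb => hA.2.1 b hb.1) hVC)
    have h9 : V ⊓ C ≤ V ⊓ centralizer (A : Set G) := by
      intro x hx
      refine ⟨hx.1, ?_⟩
      refine mem_centralizer_iff.mpr ?_
      intro a ha
      exact comm_of_two hA.2.1 ha hx.2.1
    rw [← h7]
    exact Nat.mul_le_mul h8 (Subgroup.card_le_of_le h9)
  obtain ⟨h1, h2⟩ := nat_of_off hG hV hT hA.1 hAV hq hoff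
  exact ⟨h1, A, hA, hAV, h2⟩

end Cfsg.Agent.CIT
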