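import Mathlib
import Cfsg.Agent.CIT.Thompson

set_option autoImplicit false

/-!
# CIT groups V: vertices
-/

namespace Cfsg.Agent.CIT

open Subgroup Cfsg.Agent.H80 Cfsg.Agent.H32

variable {G : Type*} [Group G] [Finite G]

/-- `Ω₁(Z(T))` -/
def Om (T : Subgroup G) : Subgroup G where
  carrier := {z | z ∈ T ∧ z * z = 1 ∧ ∀ t ∈ T, t * z = z * t}
  mul_mem' := by
    rintro a b ⟨ha, ha2, hac⟩ ⟨hb, hb2, hbc⟩
    refine ⟨mul_mem ha hb, ?_, ?_⟩
    · calc a * b * (a * b) = a * (b * a) * b := by group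
        _ = a * (a * b) * b := by rw [hac b hb]
        _ = (a * a) * (b * b) := by group
        _ = 1 := by rw [ha2, hb2, mul_one]
    · intro t ht
      rw [← mul_assoc, hac t ht, mul_assoc, hbc t ht, mul_assoc]
  one_mem' := ⟨one_mem _, mul_one 1, fun t _ => by rw [mul_one, one_mul]⟩
  inv_mem' := by
    rintro a ⟨ha, ha2, hac⟩
    have : a⁻¹ = a := inv_eq_of_mul_eq_one_left ha2
    rw [this]; exact ⟨ha, ha2, hac⟩

omit [Finite G] in
theorem mem_Om {T : Subgroup G} {z : G} : z ∈ Om T ↔ z ∈ T ∧ z * z = 1 ∧ ∀ t ∈ T, t * z = z * t := Iff.rfl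

omit [Finite G] in
theorem mem_Om_cj {T : Subgroup G} {g z : G} : z ∈ Om (cj g T) ↔ g⁻¹ * z * g ∈ Om T := by
  rw [mem_Om, mem_Om, mem_cj]
  constructor
  · rintro ⟨h1, h2, h3⟩
    refine ⟨h1, ?_, ?_⟩
    · calc g⁻¹ * z * g * (g⁻¹ * z * g) = g⁻¹ * (z * z) * g := by group
        _ = 1 := by rw [h2]; group
    · intro t ht
      have h4 := h3 (g * t * g⁻¹) (by
        rw [mem_cj]
        have : g⁻¹ * (g * t * g⁻¹) * g = t := by group
        rw [this]; exact ht)
      calc t * (g⁻¹ * z * g) = g⁻¹ * (g * t * g⁻¹ * z) * g := by group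
        _ = g⁻¹ * (z * (g * t * g⁻¹)) * g := by rw [h4]
        _ = _ := by group
  · rintro ⟨h1, h2, h3⟩
    refine ⟨h1, ?_, ?_⟩
    · calc z * z = g * (g⁻¹ * z * g * (g⁻¹ * z * g)) * g⁻¹ := by group
        _ = 1 := by rw [h2]; group
    · intro t ht
      have h4 := h3 _ (mem_cj.mp ht)
      calc t * z = g * (g⁻¹ * t * g * (g⁻¹ * z * g)) * g⁻¹ := by group
        _ = g * (g⁻¹ * z * g * (g⁻¹ * t * g)) * g⁻¹ := by rw [h4]
        _ = _ := by group

omit [Finite G] in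
theorem Om_cj (T : Subgroup G) (g : G) : Om (cj g T) = cj g (Om T) := by
  ext z; rw [mem_Om_cj, mem_cj]

omit [Finite G] in
theorem Om_isPGroup (T : Subgroup G) : IsPGroup 2 (Om T) :=
  isPGroup_two_of fun _ hz => order_two_pow_of_sq hz.2.1

/-- vertices with a Sylow subgroup `T` of the normalizer -/
structure Ver (T V : Subgroup G) : Prop where
  vtx : Vtx V
  syl : IsSylowIn 2 T (normalizer (V : Set G))
  om : Om T ≤ V
  gen : ∀ N : Subgroup G, Om T ≤ N → normalizer (V : Set G) ≤ normalizer (N : Set G) → V ≤ N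
  nc : ¬ normalizer (V : Set G) ≤ normalizer (T : Set G)

omit [Finite G] in
theorem cj_centralizer (g : G) (V : Subgroup G) :
    centralizer (cj g V : Set G) = cj g (centralizer (V : Set G)) := by
  ext x
  rw [mem_cj, mem_centralizer_iff, mem_centralizer_iff]
  constructor
  · intro h v hv
    have h4 := h (g * v * g⁻¹) (by
      show g * v * g⁻¹ ∈ cj g V
      rw [mem_cj]
      have : g⁻¹ * (g * v * g⁻¹) * g = v := by group
      rw [this]; exact hv)
    calc v * (g⁻¹ * x * g) = g⁻¹ * (g * v * g⁻¹ * x) * g := by group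
      _ = g⁻¹ * (x * (g * v * g⁻¹)) * g := by rw [h4]
      _ = _ := by group
  · intro h t ht
    have h4 := h _ (mem_cj.mp ht)
    calc t * x = g * (g⁻¹ * t * g * (g⁻¹ * x * g)) * g⁻¹ := by group
      _ = g * (g⁻¹ * x * g * (g⁻¹ * t * g)) * g⁻¹ := by rw [h4]
      _ = _ := by group

omit [Finite G] in
theorem cj_le_cj_iff {g : G} {H K : Subgroup G} : cj g H ≤ cj g K ↔ H ≤ K := by
  rw [cj_le_iff, cj_inv_cj]

omit [Finite G] in
theorem cj_inf (g : G) (H K : Subgroup G) : cj g (H ⊓ K) = cj g H ⊓ cj g K := by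
  ext x
  rw [mem_cj, Subgroup.mem_inf, Subgroup.mem_inf, mem_cj, mem_cj]

omit [Finite G] in
theorem Vtx.cj {V : Subgroup G} (h : Vtx V) (g : G) : Vtx (cj g V) where
  two := by
    intro v hv
    have := h.two _ (mem_cj.mp hv)
    calc v * v = g * (g⁻¹ * v * g * (g⁻¹ * v * g)) * g⁻¹ := by group
      _ = 1 := by rw [this]; group
  ne := by
    intro hb
    apply h.ne
    have := congrArg (H80.cj g⁻¹) hb
    rw [cj_inv_cj] at this
    rw [this]
    ext x
    rw [mem_cj, Subgroup.mem_bot, Subgroup.mem_bot, inv_inv]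
    constructor
    · intro hx
      have : x = g⁻¹ * (g * x * g⁻¹) * g := by group
      rw [this, hx]; group
    · rintro rfl; group
  red := by
    intro N hN1 hN2 hN3
    have h1 := h.red (H80.cj g⁻¹ N) ?_ ?_ (isPGroup_cj hN3 _)
    · rw [cj_centralizer]
      have := cj_mono g h1
      rwa [cj_cj_inv] at this
    · rw [← cj_le_cj_iff (g := g), cj_cj_inv, ← normalizer_cj]; exact hN1
    · rw [← cj_le_cj_iff (g := g), ← normalizer_cj, ← normalizer_cj, cj_cj_inv]; exact hN2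

omit [Finite G] in
theorem Ver.cj {T V : Subgroup G} (h : Ver T V) (g : G) : Ver (cj g T) (cj g V) where
  vtx := h.vtx.cj g
  syl := by rw [normalizer_cj]; exact h.syl.cj g
  om := by rw [Om_cj]; exact cj_mono g h.om
  gen := by
    intro N h1 h2
    have h3 := h.gen (H80.cj g⁻¹ N) ?_ ?_
    · rw [cj_le_iff]; exact h3
    · rw [Om_cj, cj_le_iff] at h1; exact h1
    · rw [← cj_le_cj_iff (g := g), ← normalizer_cj, ← normalizer_cj, cj_cj_inv]; exact h2
  nc := by
    rw [normalizer_cj, normalizer_cj, cj_le_cj_iff]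
    exact h.nc

theorem Ver.centralizer_le (hG : IsCIT G) {T V : Subgroup G} (h : Ver T V) :
    centralizer (V : Set G) ≤ T := centralizer_le_sylowIn hG h.vtx h.syl

theorem Ver.le (hG : IsCIT G) {T V : Subgroup G} (h : Ver T V) : V ≤ T :=
  h.vtx.le_centralizer.trans (h.centralizer_le hG)

theorem Ver.inf_eq (hG : IsCIT G) {T V : Subgroup G} (h : Ver T V) :
    V ⊓ centralizer (T : Set G) = Om T := by
  ext x
  constructor
  · rintro ⟨h1, h2⟩
    exact ⟨h.le hG h1, h.vtx.two x h1, fun t ht => mem_centralizer_iff.mp h2 t ht⟩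
  · intro hx
    exact ⟨h.om hx, mem_centralizer_iff.mpr fun t ht => hx.2.2 t ht⟩

omit [Finite G] in
/-- `T` does not centralize `V` -/
theorem Ver.not_le {T V : Subgroup G} (h : Ver T V) (hCT : centralizer (V : Set G) ≤ T) :
    ¬ T ≤ centralizer (V : Set G) := by
  intro hh
  apply h.nc
  have := le_antisymm hh hCT
  rw [this]
  exact normalizer_le_normalizer_centralizer V

/-- a natural vertex remains natural after conjugation -/
theorem NatV.cj (hG : IsCIT G) {T V : Subgroup G} (h : NatV T V) (g : G) :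
    NatV (H80.cj g T) (H80.cj g V) := by
  have hsyl : IsSylowIn 2 (H80.cj g T) (normalizer ((H80.cj g V : Subgroup G) : Set G)) := by
    rw [normalizer_cj]; exact h.syl.cj g
  refine (nat_of_off hG (h.vtx.cj g) hsyl (A := H80.cj g T) le_rfl ?_ ?_ ?_).1
  · rw [cj_centralizer, cj_le_cj_iff]
    intro hh
    obtain ⟨x, hx, hxT⟩ := h.ex
    apply hxT
    have := le_antisymm hh h.CT
    rw [this]
    exact normalizer_le_normalizer_centralizer V hx
  · intro a ha b hb v hv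
    have h1 := mem_centralizer_iff.mp (h.quad _ (mem_cj.mp ha) _ (mem_cj.mp hv)) _ (mem_cj.mp hb)
    calc b * (a * v * a⁻¹ * v) = g * (g⁻¹ * b * g * (g⁻¹ * a * g * (g⁻¹ * v * g) * (g⁻¹ * a * g)⁻¹ * (g⁻¹ * v * g))) * g⁻¹ := by group
      _ = g * (g⁻¹ * a * g * (g⁻¹ * v * g) * (g⁻¹ * a * g)⁻¹ * (g⁻¹ * v * g) * (g⁻¹ * b * g)) * g⁻¹ := by rw [h1]
      _ = _ := by group
  · rw [cj_centralizer, cj_centralizer, ← cj_inf, ← cj_inf, card_cj, card_cj, card_cj, card_cj,
      h.card_V, inf_eq_right.mpr h.CT, h.card_T]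
    apply le_of_eq; ring

/-- the number `q` -/
theorem NatV.exists_pow {T V : Subgroup G} (h : NatV T V) :
    ∃ k, 1 ≤ k ∧ Nat.card (V ⊓ centralizer (T : Set G) : Subgroup G) = 2 ^ k := by
  haveI : Fact (Nat.Prime 2) := ⟨Nat.prime_two⟩
  have hp : IsPGroup 2 (V ⊓ centralizer (T : Set G) : Subgroup G) := h.vtx.isPGroup.to_le inf_le_left
  obtain ⟨k, hk⟩ := IsPGroup.iff_card.mp hp
  refine ⟨k, ?_, hk⟩
  have := h.one_lt
  rw [hk] at this
  by_contra hk0
  have : k = 0 := by omega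
  subst this
  simp at *

/-- an element of odd prime order in the normalizer of a natural vertex -/
theorem NatV.exists_odd {T V : Subgroup G} (h : NatV T V) :
    ∃ (p : ℕ) (_ : p.Prime) (x : G), p ≠ 2 ∧ x ∈ normalizer (V : Set G) ∧ orderOf x = p := by
  obtain ⟨k, hk1, hk⟩ := h.exists_pow
  have hne : (2 ^ k) ^ 2 - 1 ≠ 1 := by
    have : 2 ^ 1 ≤ 2 ^ k := Nat.pow_le_pow_right (by norm_num) hk1
    have : 2 * 2 ≤ (2 ^ k) ^ 2 := by rw [pow_two]; exact Nat.mul_le_mul this this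
    omega
  obtain ⟨p, hp, hpd⟩ := Nat.exists_prime_and_dvd hne
  have hp2 : p ≠ 2 := by
    rintro rfl
    have h1 : 2 ∣ (2 ^ k) ^ 2 := dvd_pow (dvd_pow_self 2 (by omega)) (by norm_num)
    have h2 : 1 ≤ (2 ^ k) ^ 2 := Nat.one_le_pow _ _ (by positivity)
    have := (Nat.dvd_sub h1 hpd)
    rw [Nat.sub_sub_self h2] at this
    omega
  haveI : Fact p.Prime := ⟨hp⟩
  have h1 : p ∣ Nat.card (normalizer (V : Set G)) := by
    rw [h.card_N, hk, mul_assoc]
    exact hpd.mul_right _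
  obtain ⟨x, hx⟩ := exists_prime_orderOf_dvd_card' p h1
  exact ⟨p, hp, x, hp2, x.2, by rw [Subgroup.orderOf_coe, hx]⟩

theorem NatV.le_of_trivial (hG : IsCIT G) {T V : Subgroup G} (h : NatV T V) {Y : Subgroup G}
    (hY2 : ∀ y ∈ Y, y * y = 1) (hVY : V ≤ Y)
    (hact : ∀ n ∈ normalizer (V : Set G), ∀ y ∈ Y, n * y * n⁻¹ * y⁻¹ ∈ V) : Y ≤ V := by
  haveI : Fact (Nat.Prime 2) := ⟨Nat.prime_two⟩
  obtain ⟨p, hp, x, hp2, hxN, hx⟩ := h.exists_odd
  haveI : Fact p.Prime := ⟨hp⟩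
  intro y hy
  let S : Set G := {s | ∃ v ∈ V, s = v * y}
  have hA : IsPGroup p (zpowers x) := by
    apply IsPGroup.of_card (n := 1)
    rw [Nat.card_zpowers, hx, pow_one]
  have hinv : ∀ a ∈ zpowers x, ∀ s ∈ S, a * s * a⁻¹ ∈ S := by
    rintro a ha _ ⟨v, hv, rfl⟩
    have haN : a ∈ normalizer (V : Set G) := (zpowers_le.mpr hxN) ha
    refine ⟨a * v * a⁻¹ * (a * y * a⁻¹ * y⁻¹), mul_mem ((mem_normalizer_iff_conj.mp haN v).mp hv)
      (hact a haN y hy), by group⟩
  have hcard : ¬ p ∣ Nat.card S := by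
    have h1 : Nat.card S = Nat.card V := by
      apply Nat.card_congr
      refine ⟨fun g => ⟨(g : G) * y⁻¹, ?_⟩, fun c => ⟨c * y, c, c.2, rfl⟩, ?_, ?_⟩
      · obtain ⟨c, hc, hg⟩ := g.2
        rw [hg, mul_inv_cancel_right]; exact hc
      · intro g; exact Subtype.ext (inv_mul_cancel_right _ _)
      · intro c; exact Subtype.ext (mul_inv_cancel_right _ _)
    obtain ⟨l, hl⟩ := IsPGroup.iff_card.mp h.vtx.isPGroup
    rw [h1, hl]
    intro h2
    exact hp2 ((Nat.prime_dvd_prime_iff_eq hp Nat.prime_two).mp (hp.dvd_of_dvd_pow h2))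
  obtain ⟨s, ⟨v, hv, rfl⟩, hs⟩ := Cfsg.Agent.SigF.exists_fixed_conj hA S hinv hcard
  have hsY : v * y ∈ Y := mul_mem (hVY hv) hy
  by_cases hs1 : v * y = 1
  · have : y = v⁻¹ := (inv_eq_of_mul_eq_one_right hs1).symm
    rw [this]; exact inv_mem hv
  · exfalso
    obtain ⟨k, hk⟩ := hG.order_of_comm hs1 (order_two_pow_of_sq (hY2 _ hsY)) (hs x (mem_zpowers x))
    rw [hx] at hk
    rcases Nat.eq_zero_or_pos k with rfl | hk0
    · rw [pow_zero] at hk
      exact hp.one_lt.ne' hk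
    · have : 2 ∣ p := by rw [hk]; exact dvd_pow_self 2 hk0.ne'
      exact hp2 ((Nat.prime_dvd_prime_iff_eq Nat.prime_two hp).mp this).symm

end Cfsg.Agent.CIT
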