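import Mathlib
import Cfsg.Agent.CIT.Vert

set_option autoImplicit false

/-!
# CIT groups VI: the amalgam argument
-/

namespace Cfsg.Agent.CIT

open Subgroup Cfsg.Agent.H80 Cfsg.Agent.H32

variable {G : Type*} [Group G] [Finite G]

/-- If the Thompson subgroup is not normal in `N(V)`, then `V = Ω₁(Z(C(V)))`. -/
theorem omega_center_of_J (hG : IsCIT G) {T V A : Subgroup G} (h : NatV T V) (hA : maxEl T A)
    (hTA : T ≤ A ⊔ centralizer (V : Set G)) {y : G} (hyC : y ∈ centralizer (V : Set G)) (hy2 : y * y = 1)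
    (hyc : ∀ c ∈ centralizer (V : Set G), c * y = y * c) : y ∈ V := by
  set Z : Subgroup G := V ⊓ centralizer (T : Set G) with hZ
  set A0 : Subgroup G := A ⊓ centralizer (V : Set G) with hA0
  have hVT : V ≤ T := h.vtx.le_centralizer.trans h.CT
  have hAN : A ≤ normalizer (centralizer (V : Set G) : Set G) :=
    hA.1.trans (h.syl.2.1.trans (normalizer_le_normalizer_centralizer V))
  have hsup : centralizer (V : Set G) ⊔ A = T :=
    le_antisymm (sup_le h.CT hA.1) (by rw [sup_comm]; exact hTA)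
  have h1 := card_sup_mul_card_inf hAN
  rw [hsup, h.card_T, ← hZ, inf_comm (centralizer (V : Set G)) A, ← hA0] at h1
  have hposC : 0 < Nat.card (centralizer (V : Set G)) := Nat.card_pos
  have h2 : Nat.card Z * Nat.card A0 = Nat.card A := by
    apply Nat.eq_of_mul_eq_mul_left hposC
    rw [← h1]; ring
  have h3 : V ⊓ A0 ≤ Z := by
    intro x hx
    refine ⟨hx.1, mem_centralizer_iff.mpr ?_⟩
    intro t ht
    have ht' := hTA ht
    have hsub : A ⊔ centralizer (V : Set G) ≤ centralizer ({x} : Set G) := by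
      apply sup_le
      · intro a ha
        rw [mem_centralizer_singleton_iff]
        exact comm_of_two hA.2.1 ha hx.2.1
      · intro c hc
        rw [mem_centralizer_singleton_iff]
        exact (mem_centralizer_iff.mp hc x hx.1).symm
    exact mem_centralizer_singleton_iff.mp (hsub ht')
  have hVA0 : ∀ a ∈ V, ∀ b ∈ A0, a * b = b * a := fun a ha b hb => mem_centralizer_iff.mp hb.2 a ha
  have h4 := card_sup_of_comm hVA0
  have hUel : ∀ x ∈ V ⊔ A0, x * x = 1 := sup_two h.vtx.two (fun b hb => hA.2.1 b hb.1) hVA0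
  have hUT : V ⊔ A0 ≤ T := sup_le hVT (inf_le_left.trans hA.1)
  have h5 : Nat.card A ≤ Nat.card (V ⊔ A0 : Subgroup G) := by
    have hz : 0 < Nat.card Z := Nat.card_pos
    have e1 : Nat.card (V ⊓ A0 : Subgroup G) ≤ Nat.card Z := Subgroup.card_le_of_le h3
    apply Nat.le_of_mul_le_mul_right _ hz
    calc Nat.card A * Nat.card Z = Nat.card V * Nat.card A0 := by rw [← h2, h.card_V, ← hZ]; ring
      _ = Nat.card (V ⊔ A0 : Subgroup G) * Nat.card (V ⊓ A0 : Subgroup G) := h4.symm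
      _ ≤ _ := Nat.mul_le_mul_left _ e1
  -- any element like `y` lies in `V ⊔ A0`
  have key1 : ∀ y ∈ centralizer (V : Set G), y * y = 1 → (∀ c ∈ centralizer (V : Set G), c * y = y * c) →
      y ∈ V ⊔ A0 := by
    intro y hyC hy2 hyc
    have hUC : V ⊔ A0 ≤ centralizer (V : Set G) := sup_le h.vtx.le_centralizer inf_le_right
    have hcomm : ∀ a ∈ V ⊔ A0, ∀ b ∈ zpowers y, a * b = b * a := by
      rintro a ha _ ⟨i, rfl⟩
      have : Commute a y := hyc a (hUC ha)
      exact (this.zpow_right i).eq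
    have hzp : ∀ b ∈ zpowers y, b * b = 1 := by
      rintro _ ⟨i, rfl⟩
      show y ^ i * y ^ i = 1
      rw [← (Commute.refl y).mul_zpow, hy2, one_zpow]
    have hmax := hA.2.2 ((V ⊔ A0) ⊔ zpowers y) (sup_le hUT (zpowers_le.mpr (h.CT hyC)))
      (sup_two hUel hzp hcomm)
    have := Subgroup.eq_of_le_of_card_ge (le_sup_left : V ⊔ A0 ≤ (V ⊔ A0) ⊔ zpowers y) (hmax.trans h5)
    rw [this]
    exact mem_sup_right (mem_zpowers y)
  let P : G → Prop := fun y => y ∈ centralizer (V : Set G) ∧ y * y = 1 ∧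
    ∀ c ∈ centralizer (V : Set G), c * y = y * c
  have hPconj : ∀ n ∈ normalizer (V : Set G), ∀ y, P y → P (n * y * n⁻¹) := by
    rintro n hn y ⟨h1, h2, h3⟩
    have hnC := normalizer_le_normalizer_centralizer V hn
    refine ⟨(mem_normalizer_iff_conj.mp hnC y).mp h1, ?_, ?_⟩
    · calc n * y * n⁻¹ * (n * y * n⁻¹) = n * (y * y) * n⁻¹ := by group
        _ = 1 := by rw [h2]; group
    · intro c hc
      have h4 := (mem_normalizer_iff_conj.mp (inv_mem hnC) c).mp hc
      rw [inv_inv] at h4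
      have h5 := h3 _ h4
      calc c * (n * y * n⁻¹) = n * (n⁻¹ * c * n * y) * n⁻¹ := by group
        _ = n * (y * (n⁻¹ * c * n)) * n⁻¹ := by rw [h5]
        _ = _ := by group
  -- `T` acts trivially modulo `V`
  have key2 : ∀ t ∈ T, ∀ y, P y → t * y * t⁻¹ * y⁻¹ ∈ V := by
    rintro t ht y ⟨hy1, hy2, hy3⟩
    have hn : centralizer (V : Set G) ⊔ A = T := hsup
    rw [← hn] at ht
    obtain ⟨c, hc, a, ha, rfl⟩ := (mem_sup_of_le_normalizer hAN).mp ht
    have h6 := key1 y hy1 hy2 hy3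
    have hnn : A0 ≤ normalizer (V : Set G) := inf_le_right.trans (centralizer_le_normalizer' V)
    obtain ⟨v, hv, b, hb, rfl⟩ := (mem_sup_of_le_normalizer hnn).mp h6
    have e1 : a * b = b * a := comm_of_two hA.2.1 ha hb.1
    have e2 : a * (v * b) * a⁻¹ = a * v * a⁻¹ * b := by
      calc a * (v * b) * a⁻¹ = a * v * (b * a⁻¹) := by group
        _ = a * v * (a⁻¹ * b) := by
            have : b * a⁻¹ = a⁻¹ * b := by
              rw [mul_inv_eq_iff_eq_mul, mul_assoc, ← e1, inv_mul_cancel_left]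
            rw [this]
        _ = _ := by group
    have haV : a * v * a⁻¹ ∈ V := conj_mem_of (hA.1.trans h.syl.2.1) ha hv
    have e3 : c * (a * v * a⁻¹ * b) * c⁻¹ = a * v * a⁻¹ * b := by
      have h7 : (a * v * a⁻¹ * b) = (a * v * a⁻¹ * v⁻¹) * (v * b) := by group
      have h8 : c * (a * v * a⁻¹ * v⁻¹) = (a * v * a⁻¹ * v⁻¹) * c :=
        (mem_centralizer_iff.mp hc _ (mul_mem haV (inv_mem hv))).symm
      have h9 := hy3 c hc
      rw [h7]
      calc c * (a * v * a⁻¹ * v⁻¹ * (v * b)) * c⁻¹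
          = c * (a * v * a⁻¹ * v⁻¹) * (v * b) * c⁻¹ := by group
        _ = (a * v * a⁻¹ * v⁻¹) * (c * (v * b)) * c⁻¹ := by rw [h8]; group
        _ = _ := by rw [h9]; group
    have e4 : c * a * (v * b) * (c * a)⁻¹ * (v * b)⁻¹ = a * v * a⁻¹ * v⁻¹ := by
      calc c * a * (v * b) * (c * a)⁻¹ * (v * b)⁻¹ = c * (a * (v * b) * a⁻¹) * c⁻¹ * (v * b)⁻¹ := by group
        _ = a * v * a⁻¹ * b * (v * b)⁻¹ := by rw [e2, e3]
        _ = _ := by group
    rw [e4]
    exact mul_mem haV (inv_mem hv)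
  -- the subgroup of elements acting trivially
  let K : Subgroup G :=
    { carrier := {n | n ∈ normalizer (V : Set G) ∧ ∀ y, P y → n * y * n⁻¹ * y⁻¹ ∈ V}
      mul_mem' := by
        rintro a b ⟨ha, ha'⟩ ⟨hb, hb'⟩
        refine ⟨mul_mem ha hb, fun y hy => ?_⟩
        have e : a * b * y * (a * b)⁻¹ * y⁻¹ = a * (b * y * b⁻¹ * y⁻¹) * a⁻¹ * (a * y * a⁻¹ * y⁻¹) := by group
        rw [e]
        exact mul_mem ((mem_normalizer_iff_conj.mp ha _).mp (hb' y hy)) (ha' y hy)
      one_mem' := ⟨one_mem _, fun y _ => by simp⟩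
      inv_mem' := by
        rintro a ⟨ha, ha'⟩
        refine ⟨inv_mem ha, fun y hy => ?_⟩
        have h7 := ha' _ (hPconj a⁻¹ (inv_mem ha) y hy)
        have h8 := inv_mem h7
        have e : (a * (a⁻¹ * y * a⁻¹⁻¹) * a⁻¹ * (a⁻¹ * y * a⁻¹⁻¹)⁻¹)⁻¹ = a⁻¹ * y * a⁻¹⁻¹ * y⁻¹ := by group
        rw [e] at h8
        exact h8 }
  have hTK : T ≤ K := fun t ht => ⟨h.syl.2.1 ht, key2 t ht⟩
  obtain ⟨x, hx, hxT⟩ := h.ex
  have hxK : cj x T ≤ K := by
    intro t ht
    have ht' := mem_cj.mp ht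
    have htN : t ∈ normalizer (V : Set G) := by
      have : t = x * (x⁻¹ * t * x) * x⁻¹ := by group
      rw [this]
      exact mul_mem (mul_mem hx (h.syl.2.1 ht')) (inv_mem hx)
    refine ⟨htN, fun y hy => ?_⟩
    have hy' := hPconj x⁻¹ (inv_mem hx) y hy
    have h7 := key2 _ ht' _ hy'
    have h8 := (mem_normalizer_iff_conj.mp hx _).mp h7
    have e : x * (x⁻¹ * t * x * (x⁻¹ * y * x⁻¹⁻¹) * (x⁻¹ * t * x)⁻¹ * (x⁻¹ * y * x⁻¹⁻¹)⁻¹) * x⁻¹ =
        t * y * t⁻¹ * y⁻¹ := by group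
    rwa [e] at h8
  have hNK : normalizer (V : Set G) ≤ K := by
    rw [← h.gen x hx hxT]
    exact sup_le hTK hxK
  -- the subgroup of all such `y`
  let Y : Subgroup G :=
    { carrier := {y | P y}
      mul_mem' := by
        rintro a b ⟨ha, ha2, hac⟩ ⟨hb, hb2, hbc⟩
        refine ⟨mul_mem ha hb, ?_, ?_⟩
        · calc a * b * (a * b) = a * (b * a) * b := by group
            _ = a * (a * b) * b := by rw [hac b hb]
            _ = (a * a) * (b * b) := by group
            _ = 1 := by rw [ha2, hb2, mul_one]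
        · intro t ht
          rw [← mul_assoc, hac t ht, mul_assoc, hbc t ht, mul_assoc]
      one_mem' := ⟨one_mem _, mul_one 1, fun t _ => by rw [mul_one, one_mul]⟩
      inv_mem' := by
        rintro a ⟨ha, ha2, hac⟩
        have : a⁻¹ = a := inv_eq_of_mul_eq_one_left ha2
        rw [this]; exact ⟨ha, ha2, hac⟩ }
  have hVY : V ≤ Y := fun v hv => ⟨h.vtx.le_centralizer hv, h.vtx.two v hv,
    fun c hc => (mem_centralizer_iff.mp hc v hv).symm⟩
  exact h.le_of_trivial hG (Y := Y) (fun y hy => hy.2.1) hVY (fun n hn y hy => (hNK hn).2 y hy)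
    (show y ∈ Y from ⟨hyC, hy2, hyc⟩)

/-! ### paths -/

/-- adjacency relative to a set `𝒲` of vertices with the common Sylow subgroup `T` -/
def Adj (𝒲 : Set (Subgroup G)) (V V' : Subgroup G) : Prop :=
  ∃ g : G, ∃ W ∈ 𝒲, ∃ W' ∈ 𝒲, V = cj g W ∧ V' = cj g W'

/-- paths of length `n` -/
def Reach (𝒲 : Set (Subgroup G)) : ℕ → Subgroup G → Subgroup G → Prop
  | 0, V, V' => V = V'
  | n + 1, V, V' => ∃ U, Adj 𝒲 V U ∧ Reach 𝒲 n U V'

omit [Finite G] in
theorem Adj.symm {𝒲 : Set (Subgroup G)} {V V' : Subgroup G} (h : Adj 𝒲 V V') : Adj 𝒲 V' V := by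
  obtain ⟨g, W, hW, W', hW', h1, h2⟩ := h
  exact ⟨g, W', hW', W, hW, h2, h1⟩

omit [Finite G] in
theorem Adj.cj {𝒲 : Set (Subgroup G)} {V V' : Subgroup G} (h : Adj 𝒲 V V') (x : G) :
    Adj 𝒲 (cj x V) (cj x V') := by
  obtain ⟨g, W, hW, W', hW', rfl, rfl⟩ := h
  exact ⟨x * g, W, hW, W', hW', (cj_mul x g W).symm, (cj_mul x g W').symm⟩

omit [Finite G] in
theorem Reach.cj {𝒲 : Set (Subgroup G)} {n : ℕ} : ∀ {V V' : Subgroup G}, Reach 𝒲 n V V' → ∀ x : G,
    Reach 𝒲 n (cj x V) (cj x V') := by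
  induction n with
  | zero => rintro V V' rfl x; rfl
  | succ n ih =>
    rintro V V' ⟨U, h1, h2⟩ x
    exact ⟨H80.cj x U, h1.cj x, ih h2 x⟩

omit [Finite G] in
theorem Reach.snoc {𝒲 : Set (Subgroup G)} {n : ℕ} : ∀ {V U V' : Subgroup G}, Reach 𝒲 n V U → Adj 𝒲 U V' →
    Reach 𝒲 (n + 1) V V' := by
  induction n with
  | zero => rintro V U V' rfl h; exact ⟨V', h, rfl⟩
  | succ n ih =>
    rintro V U V' ⟨U', h1, h2⟩ h
    exact ⟨U', h1, ih h2 h⟩

omit [Finite G] in
theorem Reach.exists_snoc {𝒲 : Set (Subgroup G)} {n : ℕ} : ∀ {V V' : Subgroup G}, Reach 𝒲 (n + 1) V V' →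
    ∃ U, Reach 𝒲 n V U ∧ Adj 𝒲 U V' := by
  induction n with
  | zero =>
    rintro V V' ⟨U, h1, rfl⟩
    exact ⟨V, rfl, h1⟩
  | succ n ih =>
    rintro V V' ⟨U, h1, h2⟩
    obtain ⟨U', h3, h4⟩ := ih h2
    exact ⟨U', ⟨U, h1, h3⟩, h4⟩

omit [Finite G] in
theorem Reach.symm {𝒲 : Set (Subgroup G)} {n : ℕ} : ∀ {V V' : Subgroup G}, Reach 𝒲 n V V' →
    Reach 𝒲 n V' V := by
  induction n with
  | zero => rintro V V' rfl; rfl
  | succ n ih =>
    rintro V V' ⟨U, h1, h2⟩
    exact (ih h2).snoc h1.symm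

omit [Finite G] in
theorem Reach.trans {𝒲 : Set (Subgroup G)} {n m : ℕ} : ∀ {V U V' : Subgroup G}, Reach 𝒲 n V U →
    Reach 𝒲 m U V' → ∃ k, Reach 𝒲 k V V' := by
  induction n with
  | zero => rintro V U V' rfl h; exact ⟨m, h⟩
  | succ n ih =>
    rintro V U V' ⟨U', h1, h2⟩ h
    obtain ⟨k, hk⟩ := ih h2 h
    exact ⟨k + 1, U', h1, hk⟩

/-- two subgroups commute -/
def Cm (V V' : Subgroup G) : Prop := ∀ v ∈ V, ∀ v' ∈ V', v * v' = v' * v

omit [Finite G] in
theorem Cm.symm {V V' : Subgroup G} (h : Cm V V') : Cm V' V := fun v hv v' hv' => (h v' hv' v hv).symm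

omit [Finite G] in
theorem Cm.le {V V' : Subgroup G} (h : Cm V V') : V ≤ centralizer (V' : Set G) :=
  fun v hv => mem_centralizer_iff.mpr fun v' hv' => (h v hv v' hv').symm

omit [Finite G] in
theorem Cm.of_le {V V' : Subgroup G} (h : V ≤ centralizer (V' : Set G)) : Cm V V' :=
  fun v hv v' hv' => (mem_centralizer_iff.mp (h hv) v' hv').symm

/-- Sylow subgroup generated by a noncommuting neighbour: the "critical pair" lemma.
`V ≤ T'`, `V' ≤ T` not commuting, `T` Sylow in `N(V)`, `T'` Sylow in `N(V')`. -/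
theorem critical (hG : IsCIT G) {T T' V V' : Subgroup G} (h : Ver T V) (h' : Ver T' V')
    (h1 : V ≤ T') (h2 : V' ≤ T) (hne : ¬ Cm V V') :
    NatV T V ∧ NatV T' V' ∧ T ≤ V' ⊔ centralizer (V : Set G) ∧ T' ≤ V ⊔ centralizer (V' : Set G) ∧
      V ⊓ V' = Om T ∧ V ⊓ V' = Om T' := by
  -- one-sided version
  have key : ∀ {T T' V V' : Subgroup G}, Ver T V → Ver T' V' → V ≤ T' → V' ≤ T → ¬ Cm V V' →
      Nat.card V * Nat.card (V' ⊓ centralizer (V : Set G) : Subgroup G) ≤
        Nat.card V' * Nat.card (V ⊓ centralizer (V' : Set G) : Subgroup G) →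
      NatV T V ∧ T ≤ V' ⊔ centralizer (V : Set G) ∧
        Nat.card V * Nat.card (V' ⊓ centralizer (V : Set G) : Subgroup G) =
        Nat.card V' * Nat.card (V ⊓ centralizer (V' : Set G) : Subgroup G) := by
    intro T T' V V' h h' h1 h2 hne hoff
    have hq : ∀ a ∈ V', ∀ b ∈ V', ∀ v ∈ V, b * (a * v * a⁻¹ * v) = (a * v * a⁻¹ * v) * b := by
      intro a ha b hb v hv
      have hvN : v ∈ normalizer (V' : Set G) := h'.syl.2.1 (h1 hv)
      have h3 : v⁻¹ * a⁻¹ * v ∈ V' := by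
        have := (mem_normalizer_iff_conj.mp (inv_mem hvN) a⁻¹).mp (inv_mem ha)
        rwa [inv_inv] at this
      have e : a * v * a⁻¹ * v = (v * a⁻¹ * v⁻¹ * a)⁻¹ * (v * v) := by
        have hv2 := h.vtx.two v hv
        have hv' : v⁻¹ = v := inv_eq_of_mul_eq_one_left hv2
        have e1 : a * v * a⁻¹ * v ∈ V := mul_mem ((mem_normalizer_iff_conj.mp
          (h.syl.2.1 (h2 ha)) v).mp hv) hv
        have e2 := h.vtx.two _ e1
        have e3 : (a * v * a⁻¹ * v)⁻¹ = a * v * a⁻¹ * v := inv_eq_of_mul_eq_one_left e2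
        rw [hv2, mul_one]
        have e4 : (v * a⁻¹ * v⁻¹ * a)⁻¹ = a⁻¹ * v * a * v⁻¹ := by group
        have ha' : a⁻¹ = a := inv_eq_of_mul_eq_one_left (h'.vtx.two a ha)
        rw [e4, hv', ha']
      rw [e, h.vtx.two v hv, mul_one]
      apply comm_of_two h'.vtx.two hb
      apply inv_mem
      apply mul_mem _ ha
      exact (mem_normalizer_iff_conj.mp hvN a⁻¹).mp (inv_mem ha)
    obtain ⟨h4, h5⟩ := nat_of_off hG h.vtx h.syl h2 (fun hh => hne (Cm.of_le hh).symm) hq hoff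
    refine ⟨h4, h5, ?_⟩
    -- equality
    have hV'N : V' ≤ normalizer (centralizer (V : Set G) : Set G) :=
      h2.trans (h.syl.2.1.trans (normalizer_le_normalizer_centralizer V))
    have hsup : centralizer (V : Set G) ⊔ V' = T :=
      le_antisymm (sup_le h4.CT h2) (by rw [sup_comm]; exact h5)
    have h6 := card_sup_mul_card_inf hV'N
    rw [hsup, h4.card_T, inf_comm (centralizer (V : Set G)) V'] at h6
    have hpos : 0 < Nat.card (centralizer (V : Set G)) := Nat.card_pos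
    have h7 : Nat.card (V ⊓ centralizer (T : Set G) : Subgroup G) *
        Nat.card (V' ⊓ centralizer (V : Set G) : Subgroup G) = Nat.card V' := by
      apply Nat.eq_of_mul_eq_mul_left hpos
      rw [← h6]; ring
    have h8 : V ⊓ centralizer (V' : Set G) = V ⊓ centralizer (T : Set G) := by
      apply le_antisymm
      · intro x hx
        refine ⟨hx.1, mem_centralizer_iff.mpr fun t ht => ?_⟩
        have hsub : V' ⊔ centralizer (V : Set G) ≤ centralizer ({x} : Set G) := by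
          apply sup_le
          · intro a ha
            rw [mem_centralizer_singleton_iff]
            exact mem_centralizer_iff.mp hx.2 a ha
          · intro c hc
            rw [mem_centralizer_singleton_iff]
            exact (mem_centralizer_iff.mp hc x hx.1).symm
        exact mem_centralizer_singleton_iff.mp (hsub (h5 ht))
      · intro x hx
        exact ⟨hx.1, mem_centralizer_iff.mpr fun t ht => mem_centralizer_iff.mp hx.2 t (h2 ht)⟩
    rw [h8, ← h7, h4.card_V]; ring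
  have keyOm : ∀ {T T' V V' : Subgroup G}, Ver T V → Ver T' V' → V ≤ T' → V' ≤ T →
      NatV T V → T ≤ V' ⊔ centralizer (V : Set G) → V ⊓ V' = Om T := by
    intro T T' V V' h h' h1 h2 h4 h5
    apply le_antisymm
    · intro x hx
      rw [← h.inf_eq hG]
      refine ⟨hx.1, mem_centralizer_iff.mpr fun t ht => ?_⟩
      have hsub : V' ⊔ centralizer (V : Set G) ≤ centralizer ({x} : Set G) := by
        apply sup_le
        · intro a ha
          rw [mem_centralizer_singleton_iff]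
          exact comm_of_two h'.vtx.two ha hx.2
        · intro c hc
          rw [mem_centralizer_singleton_iff]
          exact (mem_centralizer_iff.mp hc x hx.1).symm
      exact mem_centralizer_singleton_iff.mp (hsub (h5 ht))
    · intro z hz
      refine ⟨h.om hz, ?_⟩
      -- a vector not fixed
      have hlt : V ⊓ centralizer (T : Set G) < V := by
        apply lt_of_le_of_ne inf_le_left
        intro heq
        have e1 := h4.card_V
        have e2 := h4.one_lt
        rw [heq] at e1 e2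
        nlinarith
      obtain ⟨v, hv, hvT⟩ := SetLike.exists_of_lt hlt
      have hvT' : v ∉ centralizer (T : Set G) := fun hh => hvT ⟨hv, hh⟩
      have hz' : z ∈ V ⊓ centralizer (T : Set G) := by rw [h.inf_eq hG]; exact hz
      obtain ⟨t, ht, hte⟩ := h4.reg v hv hvT' z hz'.1 hz'.2
      have hV'N : V' ≤ normalizer (centralizer (V : Set G) : Set G) :=
        h2.trans (h.syl.2.1.trans (normalizer_le_normalizer_centralizer V))
      rw [sup_comm] at h5
      obtain ⟨c, hc, w, hw, rfl⟩ := (mem_sup_of_le_normalizer hV'N).mp (h5 ht)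
      have hwv : w * v * w⁻¹ ∈ V := (mem_normalizer_iff_conj.mp (h.syl.2.1 (h2 hw)) v).mp hv
      have e1 : c * w * v * (c * w)⁻¹ = w * v * w⁻¹ := by
        have e2 := mem_centralizer_iff.mp hc _ hwv
        calc c * w * v * (c * w)⁻¹ = c * (w * v * w⁻¹) * c⁻¹ := by group
          _ = w * v * w⁻¹ := by rw [← e2, mul_inv_cancel_right]
      rw [e1] at hte
      have e3 : z = v⁻¹ * w * v * w⁻¹ := by
        have : v * z = v * (v⁻¹ * w * v * w⁻¹) := by rw [← hte]; group
        exact mul_left_cancel this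
      rw [e3]
      have hvN : v⁻¹ ∈ normalizer (V' : Set G) := inv_mem (h'.syl.2.1 (h1 hv))
      have e4 := (mem_normalizer_iff_conj.mp hvN w).mp hw
      rw [inv_inv] at e4
      exact V'.mul_mem e4 (V'.inv_mem hw)
  have hne' : ¬ Cm V' V := fun hh => hne hh.symm
  have main : NatV T V ∧ NatV T' V' ∧ T ≤ V' ⊔ centralizer (V : Set G) ∧
      T' ≤ V ⊔ centralizer (V' : Set G) := by
    rcases le_total (Nat.card V * Nat.card (V' ⊓ centralizer (V : Set G) : Subgroup G))
      (Nat.card V' * Nat.card (V ⊓ centralizer (V' : Set G) : Subgroup G)) with hle | hle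
    · obtain ⟨a1, a2, a3⟩ := key h h' h1 h2 hne hle
      obtain ⟨b1, b2, -⟩ := key h' h h2 h1 hne' a3.ge
      exact ⟨a1, b1, a2, b2⟩
    · obtain ⟨b1, b2, b3⟩ := key h' h h2 h1 hne' hle
      obtain ⟨a1, a2, -⟩ := key h h' h1 h2 hne b3.ge
      exact ⟨a1, b1, a2, b2⟩
  obtain ⟨a1, b1, a2, b2⟩ := main
  refine ⟨a1, b1, a2, b2, keyOm h h' h1 h2 a1 a2, ?_⟩
  rw [inf_comm]
  exact keyOm h' h h2 h1 b1 b2

omit [Finite G] in
theorem le_normalizer_of {H R : Subgroup G} (h : ∀ x ∈ H, ∀ r ∈ R, x * r * x⁻¹ ∈ R) :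
    H ≤ normalizer (R : Set G) := by
  intro x hx
  rw [mem_normalizer_iff_conj]
  intro r
  constructor
  · exact h x hx r
  · intro hr
    have := h x⁻¹ (inv_mem hx) _ hr
    have e : x⁻¹ * (x * r * x⁻¹) * x⁻¹⁻¹ = r := by group
    rwa [e] at this

theorem exists_fixed_of_normalize {P N : Subgroup G} (hP : IsPGroup 2 P) (hN : IsPGroup 2 N)
    (hne : N ≠ ⊥) (hPN : P ≤ normalizer (N : Set G)) : ∃ z ∈ N, z ≠ 1 ∧ ∀ t ∈ P, t * z = z * t := by
  haveI : Fact (Nat.Prime 2) := ⟨Nat.prime_two⟩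
  let S : Set G := {z | z ∈ N ∧ z ≠ 1}
  have hcard : Nat.card S = Nat.card N - 1 := by
    rw [← FPF.Off.card_ne_one (V := N)]
    apply Nat.card_congr
    refine ⟨fun z => ⟨⟨z, z.2.1⟩, fun h => z.2.2 (congrArg Subtype.val h)⟩,
      fun z => ⟨z.1, z.1.2, fun h => z.2 (Subtype.ext h)⟩, ?_, ?_⟩
    · intro z; rfl
    · intro z; rfl
  obtain ⟨k, hk⟩ := IsPGroup.iff_card.mp hN
  have hk0 : k ≠ 0 := by
    rintro rfl
    rw [pow_zero, Subgroup.card_eq_one] at hk
    exact hne hk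
  have hodd : ¬ 2 ∣ Nat.card S := by
    rw [hcard, hk]
    have h1 : 2 ∣ 2 ^ k := dvd_pow_self 2 hk0
    have h2 : 1 ≤ 2 ^ k := Nat.one_le_two_pow
    omega
  obtain ⟨z, ⟨hz, hz1⟩, hzc⟩ := Cfsg.Agent.SigF.exists_fixed_conj hP S (by
    rintro a ha z ⟨hz, hz1⟩
    refine ⟨(mem_normalizer_iff_conj.mp (hPN ha) z).mp hz, fun h => hz1 ?_⟩
    have : z = a⁻¹ * (a * z * a⁻¹) * a := by group
    rw [this, h]; group) hodd
  exact ⟨z, hz, hz1, hzc⟩

theorem NatV.le_of_trivial' (hG : IsCIT G) {T V : Subgroup G} (h : NatV T V) {Y : Subgroup G}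
    (hY2 : ∀ y ∈ Y, y * y = 1) (hVY : V ≤ Y) (hNY : normalizer (V : Set G) ≤ normalizer (Y : Set G))
    (hact : ∀ t ∈ T, ∀ y ∈ Y, t * y * t⁻¹ * y⁻¹ ∈ V) : Y ≤ V := by
  let K : Subgroup G :=
    { carrier := {n | n ∈ normalizer (V : Set G) ∧ ∀ y ∈ Y, n * y * n⁻¹ * y⁻¹ ∈ V}
      mul_mem' := by
        rintro a b ⟨ha, ha'⟩ ⟨hb, hb'⟩
        refine ⟨mul_mem ha hb, fun y hy => ?_⟩
        have e : a * b * y * (a * b)⁻¹ * y⁻¹ = a * (b * y * b⁻¹ * y⁻¹) * a⁻¹ * (a * y * a⁻¹ * y⁻¹) := by group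
        rw [e]
        exact mul_mem ((mem_normalizer_iff_conj.mp ha _).mp (hb' y hy)) (ha' y hy)
      one_mem' := ⟨one_mem _, fun y _ => by simp⟩
      inv_mem' := by
        rintro a ⟨ha, ha'⟩
        refine ⟨inv_mem ha, fun y hy => ?_⟩
        have h7 := ha' _ ((mem_normalizer_iff_conj.mp (inv_mem (hNY ha)) y).mp hy)
        have h8 := inv_mem h7
        have e : (a * (a⁻¹ * y * a⁻¹⁻¹) * a⁻¹ * (a⁻¹ * y * a⁻¹⁻¹)⁻¹)⁻¹ = a⁻¹ * y * a⁻¹⁻¹ * y⁻¹ := by group
        rw [e] at h8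
        exact h8 }
  have hTK : T ≤ K := fun t ht => ⟨h.syl.2.1 ht, hact t ht⟩
  obtain ⟨x, hx, hxT⟩ := h.ex
  have hxK : H80.cj x T ≤ K := by
    intro t ht
    have ht' := mem_cj.mp ht
    have htN : t ∈ normalizer (V : Set G) := by
      have : t = x * (x⁻¹ * t * x) * x⁻¹ := by group
      rw [this]
      exact mul_mem (mul_mem hx (h.syl.2.1 ht')) (inv_mem hx)
    refine ⟨htN, fun y hy => ?_⟩
    have hy' := (mem_normalizer_iff_conj.mp (inv_mem (hNY hx)) y).mp hy
    have h7 := hact _ ht' _ hy'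
    have h8 := (mem_normalizer_iff_conj.mp hx _).mp h7
    have e : x * (x⁻¹ * t * x * (x⁻¹ * y * x⁻¹⁻¹) * (x⁻¹ * t * x)⁻¹ * (x⁻¹ * y * x⁻¹⁻¹)⁻¹) * x⁻¹ =
        t * y * t⁻¹ * y⁻¹ := by group
    rwa [e] at h8
  have hNK : normalizer (V : Set G) ≤ K := by
    rw [← h.gen x hx hxT]
    exact sup_le hTK hxK
  exact h.le_of_trivial hG hY2 hVY (fun n hn y hy => (hNK hn).2 y hy)

/-- a vertex has at least `|Om T|^2` elements -/
theorem Ver.card_le (hG : IsCIT G) {T V : Subgroup G} (h : Ver T V) :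
    Nat.card (Om T) ^ 2 ≤ Nat.card V := by
  have hF := fpf hG h.vtx
  have hCT := h.centralizer_le hG
  have hnot := h.not_le hCT
  obtain ⟨t, ht, htC⟩ := SetLike.not_le_iff_exists.mp hnot
  let t' : normalizer (V : Set G) := ⟨t, h.syl.2.1 ht⟩
  have ht1 : (phi V).rangeRestrict t' ≠ 1 := fun hh =>
    htC ((phi_eq_one_iff V t').mp (congrArg Subtype.val hh))
  have hord : ∃ k, orderOf ((phi V).rangeRestrict t') = 2 ^ k := by
    obtain ⟨k, hk⟩ := orderOf_of_isPGroup h.syl.1 ht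
    have h1 : (phi V).rangeRestrict t' ^ (2 ^ k) = 1 := by
      rw [← map_pow]
      have : t' ^ (2 ^ k) = 1 := Subtype.ext (by
        rw [Subgroup.coe_pow, ← hk]; exact pow_orderOf_eq_one t)
      rw [this, map_one]
    obtain ⟨l, -, hl⟩ := (Nat.dvd_prime_pow Nat.prime_two).mp (orderOf_dvd_of_pow_eq_one h1)
    exact ⟨l, hl⟩
  obtain ⟨n, hn⟩ := exists_pow_two ht1 hord
  rw [← map_pow] at hn
  rw [← hF.card_fix_sq hn]
  apply Nat.pow_le_pow_left
  let f : Om T → Fix V ({(phi V).rangeRestrict (t' ^ n)} : Set (phi V).range) := fun z =>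
    ⟨⟨z, h.om z.2⟩, by
      rw [mem_Fix_singleton, smul_eq_iff]
      exact z.2.2.2 _ (by rw [Subgroup.coe_pow]; exact pow_mem ht n)⟩
  apply Nat.card_le_card_of_injective f
  intro a b hab
  exact Subtype.ext (congrArg (fun z => ((Subtype.val z : V) : G)) hab)

/-- the amalgam argument -/
theorem amalgam (hG : IsCIT G) {T : Subgroup G} (𝒲 : Set (Subgroup G)) {W0 : Subgroup G} (hW0 : W0 ∈ 𝒲)
    (hver : ∀ W ∈ 𝒲, Ver T W)
    (hinv : ∀ n ∈ normalizer (T : Set G), ∀ W ∈ 𝒲, cj n W ∈ 𝒲)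
    (hc : ∀ W ∈ 𝒲, ∀ W' ∈ 𝒲, NatV T W → ¬ NatV T W' →
      (∀ y ∈ centralizer (W : Set G), y * y = 1 → (∀ c ∈ centralizer (W : Set G), c * y = y * c) → y ∈ W) ∧
      ¬ normalizer (W : Set G) ≤ normalizer (W' : Set G))
    (hd : ∀ R : Subgroup G, R ≠ ⊥ → R ≤ T → (∀ W ∈ 𝒲, normalizer (W : Set G) ≤ normalizer (R : Set G)) →
      normalizer (T : Set G) ≤ normalizer (R : Set G) → False) :
    ∃ W ∈ 𝒲, ∃ W' ∈ 𝒲, NatV T W ∧ NatV T W' ∧ ¬ Cm W W' := by
  classical
  -- vertices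
  let Vx : Subgroup G → Prop := fun V => ∃ g : G, ∃ W ∈ 𝒲, V = cj g W
  have hVx_reach : ∀ (n : ℕ) (V V' : Subgroup G), Vx V → Reach 𝒲 n V V' → Vx V' := by
    intro n
    induction n with
    | zero => rintro V V' h rfl; exact h
    | succ n ih =>
      rintro V V' h ⟨U, ⟨g, W, hW, W', hW', h1, h2⟩, h3⟩
      exact ih U V' ⟨g, W', hW', h2⟩ h3
  have hVxtwo : ∀ V, Vx V → ∀ v ∈ V, v * v = 1 := by
    rintro V ⟨g, W, hW, rfl⟩
    exact ((hver W hW).cj g).vtx.two
  -- step 1: some noncommuting pair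
  have hex : ∃ n, ∃ V V', Vx V ∧ Reach 𝒲 n V V' ∧ ¬ Cm V V' := by
    by_contra hcon
    push Not at hcon
    have hall : ∀ (n : ℕ) (V V' : Subgroup G), Vx V → Reach 𝒲 n V V' → Cm V V' := by
      intro n V V' h1 h2
      exact hcon n V V' h1 h2
    have hW0x : Vx W0 := ⟨1, W0, hW0, (cj_one W0).symm⟩
    let U : Set G := {u | ∃ n, ∃ V', Reach 𝒲 n W0 V' ∧ u ∈ V'}
    have hUc : ∀ a ∈ U, ∀ b ∈ U, a * b = b * a := by
      rintro a ⟨n, V, hV, ha⟩ b ⟨m, V', hV', hb⟩
      obtain ⟨k, hk⟩ := hV.symm.trans hV'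
      exact hall k V V' (hVx_reach n _ _ hW0x hV) hk a ha b hb
    have hU2 : ∀ a ∈ U, a * a = 1 := by
      rintro a ⟨n, V, hV, ha⟩
      exact hVxtwo V (hVx_reach n _ _ hW0x hV) a ha
    set R : Subgroup G := Subgroup.closure U with hR
    have hR1 : R ≤ centralizer U := by
      rw [hR, closure_le]
      intro a ha
      exact mem_centralizer_iff.mpr fun b hb => hUc b hb a ha
    have hR2 : R ≤ centralizer (R : Set G) := by
      conv_lhs => rw [hR]
      rw [closure_le]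
      intro a ha
      exact mem_centralizer_iff.mpr fun b hb => (mem_centralizer_iff.mp (hR1 hb) a ha).symm
    have hRsq : ∀ r ∈ R, r * r = 1 := by
      intro r hr
      induction hr using Subgroup.closure_induction with
      | mem x hx => exact hU2 x hx
      | one => exact mul_one 1
      | mul x y hx hy ihx ihy =>
        have := mem_centralizer_iff.mp (hR2 hx) y hy
        calc x * y * (x * y) = x * (y * x) * y := by group
          _ = (x * x) * (y * y) := by rw [this]; group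
          _ = 1 := by rw [ihx, ihy, mul_one]
      | inv x hx ih =>
        rw [← mul_inv_rev, ih, inv_one]
    have hclos : ∀ x : G, (∀ n V', Reach 𝒲 n W0 V' → ∃ m, Reach 𝒲 m W0 (cj x V')) →
        ∀ r ∈ R, x * r * x⁻¹ ∈ R := by
      intro x hx r hr
      have h1 : R ≤ cj x⁻¹ R := by
        conv_lhs => rw [hR]
        rw [closure_le]
        rintro u ⟨n, V', hV', hu⟩
        obtain ⟨m, hm⟩ := hx n V' hV'
        show u ∈ cj x⁻¹ R
        rw [mem_cj, inv_inv]
        apply Subgroup.subset_closure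
        refine ⟨m, cj x V', hm, ?_⟩
        rw [mem_cj]
        have : x⁻¹ * (x * u * x⁻¹) * x = u := by group
        rw [this]; exact hu
      have h2 := mem_cj.mp (h1 hr)
      rwa [inv_inv] at h2
    apply hd R
    · intro hb
      apply (hver W0 hW0).vtx.ne
      rw [eq_bot_iff, ← hb]
      intro w hw
      exact subset_closure ⟨0, W0, rfl, hw⟩
    · refine le_trans ?_ ((hver W0 hW0).centralizer_le hG)
      intro r hr
      refine mem_centralizer_iff.mpr fun w hw => ?_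
      exact mem_centralizer_iff.mp (hR1 hr) w ⟨0, W0, rfl, hw⟩
    · intro W hW
      apply le_normalizer_of
      intro x hx
      apply hclos
      intro n V' hV'
      have a1 : Adj 𝒲 W0 W := ⟨1, W0, hW0, W, hW, (cj_one W0).symm, (cj_one W).symm⟩
      have a2 : Reach 𝒲 1 W W0 := ⟨W0, a1.symm, rfl⟩
      obtain ⟨k, hk⟩ := a2.trans hV'
      have hk' := hk.cj x
      rw [mem_normalizer_iff_cj.mp hx] at hk'
      exact Reach.trans (n := 1) (⟨W, a1, rfl⟩ : Reach 𝒲 1 W0 W) hk'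
    · apply le_normalizer_of
      intro x hx
      apply hclos
      intro n V' hV'
      have hW1 := hinv x hx W0 hW0
      have a1 : Adj 𝒲 W0 (cj x W0) := ⟨1, W0, hW0, cj x W0, hW1, (cj_one W0).symm, (cj_one _).symm⟩
      exact Reach.trans (n := 1) (⟨cj x W0, a1, rfl⟩ : Reach 𝒲 1 W0 (cj x W0)) (hV'.cj x)
  -- minimal distance
  obtain ⟨V0, Vn, hV0x, hreach, hne⟩ := Nat.find_spec hex
  have hmin : ∀ k < Nat.find hex, ∀ V V', Vx V → Reach 𝒲 k V V' → Cm V V' := by
    intro k hk V V' h1 h2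
    by_contra h3
    exact Nat.find_min hex hk ⟨V, V', h1, h2, h3⟩
  rcases hn : Nat.find hex with _ | m
  · rw [hn] at hreach
    exfalso
    apply hne
    have : V0 = Vn := hreach
    subst this
    intro a ha b hb
    exact comm_of_two (hVxtwo V0 hV0x) ha hb
  rw [hn] at hreach hmin
  rcases Nat.eq_zero_or_pos m with rfl | hm
  · -- adjacent
    obtain ⟨U, ⟨g, W, hW, W', hW', h1, h2⟩, h3⟩ := hreach
    have h3' : U = Vn := h3
    subst h3'
    have hneW : ¬ Cm W W' := by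
      intro hh
      apply hne
      intro a ha b hb
      rw [h1] at ha
      rw [h2] at hb
      have := hh _ (mem_cj.mp ha) _ (mem_cj.mp hb)
      calc a * b = g * (g⁻¹ * a * g * (g⁻¹ * b * g)) * g⁻¹ := by group
        _ = g * (g⁻¹ * b * g * (g⁻¹ * a * g)) * g⁻¹ := by rw [this]
        _ = b * a := by group
    obtain ⟨c1, c2, -⟩ := critical hG (hver W hW) (hver W' hW') ((hver W hW).le hG) ((hver W' hW').le hG) hneW
    exact ⟨W, hW, W', hW', c1, c2, hneW⟩
  exfalso
  have hreach0 := hreach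
  obtain ⟨V1, hadj1, hr1⟩ := hreach
  obtain ⟨Vm, hrm, hadjm⟩ := Reach.exists_snoc hreach0
  have hadj1' := hadj1
  have hadjm' := hadjm
  obtain ⟨g, W, hW, W1, hW1, hV0, hV1⟩ := hadj1'
  obtain ⟨g', U, hU, U', hU', hVm, hVn⟩ := hadjm'
  set T1 := cj g T with hT1
  set T2 := cj g' T with hT2
  have v0 : Ver T1 V0 := by rw [hV0]; exact (hver W hW).cj g
  have v1 : Ver T1 V1 := by rw [hV1]; exact (hver W1 hW1).cj g
  have vm : Ver T2 Vm := by rw [hVm]; exact (hver U hU).cj g'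
  have vn : Ver T2 Vn := by rw [hVn]; exact (hver U' hU').cj g'
  have hV1x : Vx V1 := ⟨g, W1, hW1, hV1⟩
  have hVmx : Vx Vm := ⟨g', U, hU, hVm⟩
  have c1n : Cm V1 Vn := hmin m (Nat.lt_succ_self m) _ _ hV1x hr1
  have c0m : Cm V0 Vm := hmin m (Nat.lt_succ_self m) _ _ hV0x hrm
  have hVnT1 : Vn ≤ T1 := c1n.symm.le.trans (v1.centralizer_le hG)
  have hV0T2 : V0 ≤ T2 := c0m.le.trans (vm.centralizer_le hG)
  obtain ⟨N0, Nn, hs1, hs2, e1, e2⟩ := critical hG v0 vn hV0T2 hVnT1 hne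
  obtain ⟨x, hx, hxT⟩ := N0.ex
  have hxV0 : cj x V0 = V0 := mem_normalizer_iff_cj.mp hx
  set T' := cj x T1 with hT'
  set V' := cj x V1 with hV'
  have v0' : Ver T' V0 := by
    have := v0.cj x
    rwa [hxV0] at this
  have v' : Ver T' V' := v1.cj x
  have adj' : Adj 𝒲 V' V0 := by
    have := hadj1.symm.cj x
    rwa [hxV0] at this
  have hV'x : Vx V' := ⟨x * g, W1, hW1, by rw [hV', hV1, cj_mul]⟩
  have N0' : NatV T' V0 := by
    have := N0.cj hG x
    rwa [hxV0] at this
  have cmn : Cm Vm Vn := hmin 1 (by omega) _ _ hVmx ⟨Vn, hadjm, rfl⟩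
  have c'0 : Cm V' V0 := hmin 1 (by omega) _ _ hV'x ⟨V0, adj', rfl⟩
  have hVne : V' ≠ V0 := by
    intro hh
    rw [hV', ← hxV0] at hh
    have := cj_injective x hh
    rw [this] at c1n
    exact hne c1n
  by_cases hcase : Cm V' Vm
  swap
  · -- Case A
    obtain ⟨Vm', hr', ⟨g'', Y1, hY1, Y2, hY2, hVm', hVm2⟩⟩ : ∃ Z, Reach 𝒲 (m - 1) V0 Z ∧ Adj 𝒲 Z Vm := by
      have : m = (m - 1) + 1 := by omega
      rw [this] at hrm
      exact Reach.exists_snoc hrm
    have vm3 : Ver (cj g'' T) Vm := by rw [hVm2]; exact (hver Y2 hY2).cj g''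
    have vm3' : Ver (cj g'' T) Vm' := by rw [hVm']; exact (hver Y1 hY1).cj g''
    have c1 : Cm V' Vm' := by
      apply hmin m (Nat.lt_succ_self m) _ _ hV'x
      have : m = (m - 1) + 1 := by omega
      rw [this]
      exact ⟨V0, adj', hr'⟩
    have hA1 : V' ≤ cj g'' T := c1.le.trans (vm3'.centralizer_le hG)
    have hA2 : Vm ≤ T' := c0m.symm.le.trans (v0'.centralizer_le hG)
    obtain ⟨-, -, -, -, e3, -⟩ := critical hG v' vm3 hA1 hA2 hcase
    have o1 : Om T' ≤ Vm := by rw [← e3]; exact inf_le_right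
    have o2 : Om T1 ≤ Vm := by rw [← e1, e2]; exact vm.om
    have hle : Om T1 ⊔ Om T' ≤ V0 := sup_le v0.om v0'.om
    have hdisj : Om T1 ⊓ Om T' = ⊥ := by
      rw [eq_bot_iff]
      intro z hz
      rw [Subgroup.mem_bot]
      exact N0.disj x hx hxT z (v0.om hz.1) (mem_centralizer_iff.mpr fun t ht => hz.1.2.2 t ht)
        (mem_centralizer_iff.mpr fun t ht => hz.2.2.2 t ht)
    have hcomm : ∀ a ∈ Om T1, ∀ b ∈ Om T', a * b = b * a := fun a ha b hb =>
      comm_of_two v0.vtx.two (v0.om ha) (v0'.om hb)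
    have hcard := card_sup_of_comm hcomm
    rw [hdisj, Subgroup.card_bot, mul_one] at hcard
    have hq : Nat.card (Om T') = Nat.card (Om T1) := by rw [hT', Om_cj, card_cj]
    have hV0eq : Om T1 ⊔ Om T' = V0 := by
      apply Subgroup.eq_of_le_of_card_ge hle
      rw [hcard, hq, N0.card_V, v0.inf_eq hG, pow_two]
    apply hne
    intro a ha b hb
    exact cmn a ((hV0eq ▸ sup_le o2 o1 : V0 ≤ Vm) ha) b hb
  · -- Case B
    set Y : Subgroup G := V' ⊔ V0 with hY
    have hYsq : ∀ y ∈ Y, y * y = 1 := sup_two v'.vtx.two v0.vtx.two c'0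
    have hV0N' : V0 ≤ normalizer (V' : Set G) := c'0.symm.le.trans (centralizer_le_normalizer' V')
    have hV'T2 : V' ≤ T2 := hcase.le.trans (vm.centralizer_le hG)
    have hYmem : ∀ u ∈ V', ∀ v ∈ V0, u * v ∈ Y := fun u hu v hv => mul_mem (mem_sup_left hu) (mem_sup_right hv)
    have hV0nC : V0 ≤ normalizer (centralizer (Vn : Set G) : Set G) :=
      hV0T2.trans (vn.syl.2.1.trans (normalizer_le_normalizer_centralizer Vn))
    have b1 : Vn ≤ normalizer (Y : Set G) := by
      apply le_normalizer_of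
      intro w hw y hy
      obtain ⟨u, hu, v, hv, rfl⟩ := (mem_sup_of_le_normalizer hV0N').mp hy
      have hwN : w ∈ normalizer (V0 : Set G) := v0.syl.2.1 (hVnT1 hw)
      have h5 : u ∈ centralizer (Vn : Set G) ⊔ V0 := by
        rw [sup_comm]; exact hs2 (hV'T2 hu)
      obtain ⟨c, hc, v2, hv2, huc⟩ := (mem_sup_of_le_normalizer hV0nC).mp h5
      have hcw := mem_centralizer_iff.mp hc w hw
      have e5 : w * (u * v) * w⁻¹ = u * (v2⁻¹ * (w * v2 * w⁻¹) * (w * v * w⁻¹)) := by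
        rw [← huc]
        calc w * (c * v2 * v) * w⁻¹ = (w * c) * v2 * v * w⁻¹ := by group
          _ = (c * w) * v2 * v * w⁻¹ := by rw [hcw]
          _ = _ := by group
      rw [e5]
      apply hYmem u hu
      exact mul_mem (mul_mem (inv_mem hv2) ((mem_normalizer_iff_conj.mp hwN v2).mp hv2))
        ((mem_normalizer_iff_conj.mp hwN v).mp hv)
    have b2 : T' ≤ normalizer (Y : Set G) := by
      apply le_normalizer_of
      intro t ht y hy
      obtain ⟨u, hu, v, hv, rfl⟩ := (mem_sup_of_le_normalizer hV0N').mp hy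
      have e5 : t * (u * v) * t⁻¹ = (t * u * t⁻¹) * (t * v * t⁻¹) := by group
      rw [e5]
      exact hYmem _ ((mem_normalizer_iff_conj.mp (v'.syl.2.1 ht) u).mp hu) _
        ((mem_normalizer_iff_conj.mp (v0'.syl.2.1 ht) v).mp hv)
    have b3 : T1 ≤ normalizer (Y : Set G) :=
      hs1.trans (sup_le b1 ((v0'.centralizer_le hG).trans b2))
    have hNY : normalizer (V0 : Set G) ≤ normalizer (Y : Set G) := by
      rw [← N0.gen x hx hxT]
      exact sup_le b3 b2
    by_cases hnat : NatV T' V'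
    · have h7 : Y ≤ V0 := by
        apply N0'.le_of_trivial' hG hYsq le_sup_right hNY
        intro t ht y hy
        obtain ⟨u, hu, v, hv, rfl⟩ := (mem_sup_of_le_normalizer hV0N').mp hy
        have h8 : t * u * t⁻¹ * u ∈ V0 := by
          apply v0'.om
          rw [← v'.inf_eq hG]
          refine ⟨V'.mul_mem ((mem_normalizer_iff_conj.mp (v'.syl.2.1 ht) u).mp hu) hu, hnat.quad t ht u hu⟩
        have htv : t * v * t⁻¹ ∈ V0 := (mem_normalizer_iff_conj.mp (v0'.syl.2.1 ht) v).mp hv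
        have hui : u⁻¹ = u := inv_of_two v'.vtx.two hu
        have e6 : t * (u * v) * t⁻¹ * (u * v)⁻¹ = (t * u * t⁻¹ * u) * (t * v * t⁻¹ * v⁻¹) := by
          have h9 := c'0 u hu _ (mul_mem htv (inv_mem hv))
          calc t * (u * v) * t⁻¹ * (u * v)⁻¹ = (t * u * t⁻¹) * ((t * v * t⁻¹ * v⁻¹) * u⁻¹) := by group
            _ = (t * u * t⁻¹) * (u * (t * v * t⁻¹ * v⁻¹)) := by rw [hui, h9]
            _ = _ := by group
        rw [e6]
        exact mul_mem h8 (mul_mem htv (inv_mem hv))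
      apply hVne
      apply Subgroup.eq_of_le_of_card_ge (le_sup_left.trans h7)
      rw [N0'.card_V, hnat.card_V, v0'.inf_eq hG, v'.inf_eq hG]
    · -- non natural neighbour
      have hWnat : NatV T W := by
        have := N0.cj hG g⁻¹
        rwa [hV0, hT1, cj_inv_cj, cj_inv_cj] at this
      have hW1nat : ¬ NatV T W1 := by
        intro hh
        apply hnat
        have := hh.cj hG (x * g)
        rwa [cj_mul, cj_mul, ← hT1, ← hV1] at this
      obtain ⟨hom, hnle⟩ := hc W hW W1 hW1 hWnat hW1nat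
      have hom0 : ∀ y ∈ centralizer (V0 : Set G), y * y = 1 →
          (∀ c ∈ centralizer (V0 : Set G), c * y = y * c) → y ∈ V0 := by
        intro y hy hy2 hyc
        rw [hV0, mem_cj]
        rw [hV0, cj_centralizer] at hy
        apply hom _ (mem_cj.mp hy)
        · calc g⁻¹ * y * g * (g⁻¹ * y * g) = g⁻¹ * (y * y) * g := by group
            _ = 1 := by rw [hy2]; group
        · intro c hc
          have h4 := hyc (g * c * g⁻¹) (by
            rw [hV0, cj_centralizer, mem_cj]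
            have : g⁻¹ * (g * c * g⁻¹) * g = c := by group
            rw [this]; exact hc)
          calc c * (g⁻¹ * y * g) = g⁻¹ * (g * c * g⁻¹ * y) * g := by group
            _ = g⁻¹ * (y * (g * c * g⁻¹)) * g := by rw [h4]
            _ = _ := by group
      have hnle0 : ¬ normalizer (V0 : Set G) ≤ normalizer (V' : Set G) := by
        intro hh
        apply hnle
        rw [← hxV0, hV', hV0, hV1, ← cj_mul, ← cj_mul, normalizer_cj, normalizer_cj, cj_le_cj_iff] at hh
        exact hh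
      by_cases hcc : Cm V' (centralizer (V0 : Set G))
      · apply hVne
        have h7 : V' ≤ V0 := by
          intro u hu
          exact hom0 u (c'0.le hu) (v'.vtx.two u hu) (fun c hc => (hcc u hu c hc).symm)
        apply Subgroup.eq_of_le_of_card_ge h7
        rw [N0'.card_V, v0'.inf_eq hG]
        exact v'.card_le hG
      · set N1 : Subgroup G := Subgroup.closure {y | ∃ c ∈ centralizer (V0 : Set G), ∃ u ∈ V', y = c * u * c⁻¹ * u⁻¹} with hN1
        have hCT' : centralizer (V0 : Set G) ≤ T' := v0'.centralizer_le hG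
        have hN1V : N1 ≤ V' := by
          rw [hN1, closure_le]
          rintro _ ⟨c, hc, u, hu, rfl⟩
          exact mul_mem ((mem_normalizer_iff_conj.mp (v'.syl.2.1 (hCT' hc)) u).mp hu) (inv_mem hu)
        have hN1ne : N1 ≠ ⊥ := by
          intro hb
          apply hcc
          intro u hu c hc
          have h8 : c * u * c⁻¹ * u⁻¹ ∈ N1 := subset_closure ⟨c, hc, u, hu, rfl⟩
          rw [hb, Subgroup.mem_bot, mul_inv_eq_one, mul_inv_eq_iff_eq_mul] at h8
          exact h8.symm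
        have hN1n : normalizer (V0 : Set G) ≤ normalizer (N1 : Set G) := by
          apply le_normalizer_of
          intro n hn r hr
          have h8 : N1 ≤ cj n⁻¹ N1 := by
            conv_lhs => rw [hN1]
            rw [closure_le]
            rintro _ ⟨c, hc, u, hu, rfl⟩
            rw [SetLike.mem_coe, mem_cj, inv_inv]
            have hc' : n * c * n⁻¹ ∈ centralizer (V0 : Set G) :=
              (mem_normalizer_iff_conj.mp (normalizer_le_normalizer_centralizer V0 hn) c).mp hc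
            have hu' : n * u * n⁻¹ ∈ Y := (mem_normalizer_iff_conj.mp (hNY hn) u).mp (mem_sup_left hu)
            obtain ⟨u2, hu2, v2, hv2, huv⟩ := (mem_sup_of_le_normalizer hV0N').mp hu'
            apply Subgroup.subset_closure
            refine ⟨n * c * n⁻¹, hc', u2, hu2, ?_⟩
            have h9 := mem_centralizer_iff.mp hc' v2 hv2
            have e7 : n * (c * u * c⁻¹ * u⁻¹) * n⁻¹ =
                (n * c * n⁻¹) * (n * u * n⁻¹) * (n * c * n⁻¹)⁻¹ * (n * u * n⁻¹)⁻¹ := by group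
            rw [e7, ← huv]
            set c' := n * c * n⁻¹ with hc'def
            calc c' * (u2 * v2) * c'⁻¹ * (u2 * v2)⁻¹ = c' * u2 * (v2 * c') * c'⁻¹ * c'⁻¹ * v2⁻¹ * u2⁻¹ := by group
              _ = c' * u2 * (c' * v2) * c'⁻¹ * c'⁻¹ * v2⁻¹ * u2⁻¹ := by rw [h9]
              _ = c' * u2 * c'⁻¹ * (c' * (c' * v2 * c'⁻¹) * c'⁻¹ * v2⁻¹) * u2⁻¹ := by group
              _ = c' * u2 * c'⁻¹ * u2⁻¹ := by
                  have h10 : c' * v2 * c'⁻¹ = v2 := by rw [← h9]; group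
                  rw [h10, h10]; group
          have h11 := mem_cj.mp (h8 hr)
          rwa [inv_inv] at h11
        obtain ⟨z, hz, hz1, hzc⟩ := exists_fixed_of_normalize v'.syl.1 (v'.vtx.isPGroup.to_le hN1V) hN1ne
          (v0'.syl.2.1.trans hN1n)
        have hzOm : z ∈ Om T' := ⟨v'.le hG (hN1V hz), v'.vtx.two z (hN1V hz), hzc⟩
        have hOmN1 : Om T' ≤ N1 := by
          intro z' hz'
          by_cases hz'1 : z' = 1
          · rw [hz'1]; exact one_mem _
          · obtain ⟨n, hn1, -, hn2⟩ := N0'.trans z (v0'.om hzOm) (mem_centralizer_iff.mpr hzc) hz1 z'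
              (v0'.om hz') (mem_centralizer_iff.mpr fun t ht => hz'.2.2 t ht) hz'1
            rw [← hn2]
            exact (mem_normalizer_iff_conj.mp (hN1n hn1) z).mp hz
        have h12 : V0 ≤ V' := (v0'.gen N1 hOmN1 hN1n).trans hN1V
        apply hnle0
        have : Y = V' := by rw [hY]; exact sup_eq_left.mpr h12
        rw [this] at hNY
        exact hNY

end Cfsg.Agent.CIT
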