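import Mathlib
import Cfsg.Agent.CIT.Amalgam

set_option autoImplicit false

/-!
# CIT groups VII: the structure of `T`
-/

namespace Cfsg.Agent.CIT

open Subgroup Cfsg.Agent.H80 Cfsg.Agent.H32

variable {G : Type*} [Group G] [Finite G]

/-- squares of the centralizer -/
def Sq (W : Subgroup G) : Subgroup G := closure {x | ∃ c ∈ centralizer (W : Set G), x = c * c}

omit [Finite G] in
theorem Sq_cj_le (W : Subgroup G) (g : G) : Sq (cj g W) ≤ cj g (Sq W) := by
  rw [Sq, closure_le]
  rintro _ ⟨c, hc, rfl⟩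
  rw [cj_centralizer] at hc
  rw [SetLike.mem_coe, mem_cj]
  apply Subgroup.subset_closure
  exact ⟨_, mem_cj.mp hc, by group⟩

omit [Finite G] in
theorem Sq_cj (W : Subgroup G) (g : G) : Sq (cj g W) = cj g (Sq W) := by
  apply le_antisymm (Sq_cj_le W g)
  rw [cj_le_iff]
  have := Sq_cj_le (cj g W) g⁻¹
  rwa [cj_inv_cj] at this

omit [Finite G] in
theorem normalizer_le_Sq (W : Subgroup G) : normalizer (W : Set G) ≤ normalizer (Sq W : Set G) := by
  intro x hx
  rw [mem_normalizer_iff_cj, ← Sq_cj, mem_normalizer_iff_cj.mp hx]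

omit [Finite G] in
theorem Sq_le (W : Subgroup G) : Sq W ≤ centralizer (W : Set G) := by
  rw [Sq, closure_le]
  rintro _ ⟨c, hc, rfl⟩
  exact mul_mem hc hc

omit [Finite G] in
theorem two_of_Sq {W : Subgroup G} (h : Sq W = ⊥) {c : G} (hc : c ∈ centralizer (W : Set G)) : c * c = 1 := by
  have : c * c ∈ Sq W := Subgroup.subset_closure ⟨c, hc, rfl⟩
  rwa [h, Subgroup.mem_bot] at this

/-- the situation in `T` -/
structure Pair (T W W' : Subgroup G) : Prop where
  nat : NatV T W
  nat' : NatV T W'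
  CW : centralizer (W : Set G) = W
  CW' : centralizer (W' : Set G) = W'
  inf : W ⊓ W' = Om T
  sup : W ⊔ W' = T
  ne : ¬ Cm W W'

omit [Finite G] in
theorem Pair.symm {T W W' : Subgroup G} (h : Pair T W W') : Pair T W' W where
  nat := h.nat'
  nat' := h.nat
  CW := h.CW'
  CW' := h.CW
  inf := by rw [inf_comm]; exact h.inf
  sup := by rw [sup_comm]; exact h.sup
  ne := fun hh => h.ne hh.symm

theorem Sq_le_of {T W W' : Subgroup G} (hG : IsCIT G) (h : Ver T W) (h' : Ver T W')
    (hs : T ≤ W ⊔ centralizer (W' : Set G)) {c : G} (hc : c ∈ centralizer (W : Set G)) :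
    ∃ w ∈ W, ∃ d ∈ centralizer (W : Set G) ⊓ centralizer (W' : Set G), c = w * d := by
  have hWn : W ≤ normalizer (centralizer (W' : Set G) : Set G) :=
    (h.le hG).trans (h'.syl.2.1.trans (normalizer_le_normalizer_centralizer W'))
  have h1 := hs (h.centralizer_le hG hc)
  rw [sup_comm] at h1
  obtain ⟨d, hd, w, hw, hdw⟩ := (mem_sup_of_le_normalizer hWn).mp h1
  have hwC : w ∈ centralizer (W : Set G) := h.vtx.le_centralizer hw
  have hdC : d ∈ centralizer (W : Set G) := by
    have : d = c * w⁻¹ := by rw [← hdw]; group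
    rw [this]; exact mul_mem hc (inv_mem hwC)
  refine ⟨w, hw, d, ⟨hdC, hd⟩, ?_⟩
  rw [← hdw]
  exact (mem_centralizer_iff.mp hdC w hw).symm

theorem Sq_le_Sq {T W W' : Subgroup G} (hG : IsCIT G) (h : Ver T W) (h' : Ver T W')
    (hs : T ≤ W ⊔ centralizer (W' : Set G)) : Sq W ≤ Sq W' := by
  rw [Sq, closure_le]
  rintro _ ⟨c, hc, rfl⟩
  obtain ⟨w, hw, d, hd, rfl⟩ := Sq_le_of hG h h' hs hc
  apply Subgroup.subset_closure
  refine ⟨d, hd.2, ?_⟩
  have h1 := mem_centralizer_iff.mp hd.1 w hw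
  calc w * d * (w * d) = w * (d * w) * d := by group
    _ = (w * w) * (d * d) := by rw [← h1]; group
    _ = d * d := by rw [h.vtx.two w hw, one_mul]

theorem centralizer_eq_of {T W W' : Subgroup G} (hG : IsCIT G) (h : Ver T W) (h' : Ver T W')
    (hN : NatV T W)
    (hs : T ≤ W ⊔ centralizer (W' : Set G)) (hs' : T ≤ W' ⊔ centralizer (W : Set G))
    (hsq : Sq W = ⊥) : centralizer (W : Set G) = W := by
  apply le_antisymm _ h.vtx.le_centralizer
  apply hN.le_of_trivial' hG (fun y hy => two_of_Sq hsq hy) h.vtx.le_centralizer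
    (normalizer_le_normalizer_centralizer W)
  intro t ht y hy
  have hab : ∀ a ∈ centralizer (W : Set G), ∀ b ∈ centralizer (W : Set G), a * b = b * a := fun a ha b hb =>
    comm_of_two (fun v hv => two_of_Sq hsq hv) ha hb
  have hWn : W' ≤ normalizer (centralizer (W : Set G) : Set G) :=
    (h'.le hG).trans (h.syl.2.1.trans (normalizer_le_normalizer_centralizer W))
  have ht' := hs' ht
  rw [sup_comm] at ht'
  obtain ⟨c, hc, w', hw', rfl⟩ := (mem_sup_of_le_normalizer hWn).mp ht'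
  obtain ⟨w, hw, d, hd, rfl⟩ := Sq_le_of hG h h' hs hy
  have hwN : w' ∈ normalizer (W : Set G) := h.syl.2.1 (h'.le hG hw')
  have h1 : w' * w * w'⁻¹ ∈ W := (mem_normalizer_iff_conj.mp hwN w).mp hw
  have h2 : w' * d * w'⁻¹ = d := by
    rw [mem_centralizer_iff.mp hd.2 w' hw']; group
  have h3 : c * (w' * w * w'⁻¹ * d) = (w' * w * w'⁻¹ * d) * c :=
    hab _ hc _ (mul_mem (h.vtx.le_centralizer h1) hd.1)
  have e : c * w' * (w * d) * (c * w')⁻¹ * (w * d)⁻¹ = w' * w * w'⁻¹ * w⁻¹ := by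
    calc c * w' * (w * d) * (c * w')⁻¹ * (w * d)⁻¹
        = c * (w' * w * w'⁻¹ * (w' * d * w'⁻¹)) * c⁻¹ * d⁻¹ * w⁻¹ := by group
      _ = c * (w' * w * w'⁻¹ * d) * c⁻¹ * d⁻¹ * w⁻¹ := by rw [h2]
      _ = _ := by rw [h3]; group
  rw [e]
  exact mul_mem h1 (inv_mem hw)

/-- the structure lemma -/
theorem struct (hG : IsCIT G) {T W W' : Subgroup G} (h : Ver T W) (h' : Ver T W') (hne : ¬ Cm W W') :
    Sq W = Sq W' ∧ (Sq W = ⊥ → Pair T W W') := by
  obtain ⟨N1, N2, s1, s2, e, -⟩ := critical hG h h' (h.le hG) (h'.le hG) hne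
  have hsq : Sq W = Sq W' := le_antisymm (Sq_le_Sq hG h h' s2) (Sq_le_Sq hG h' h s1)
  refine ⟨hsq, fun hb => ?_⟩
  have c1 := centralizer_eq_of hG h h' N1 s2 s1 hb
  have c2 := centralizer_eq_of hG h' h N2 s1 s2 (hsq ▸ hb)
  refine ⟨N1, N2, c1, c2, e, le_antisymm (sup_le (h.le hG) (h'.le hG)) ?_, hne⟩
  rw [c2] at s2
  exact s2

namespace Pair

variable {T W W' : Subgroup G}

omit [Finite G] in
theorem le (h : Pair T W W') : W ≤ T := by rw [← h.sup]; exact le_sup_left

omit [Finite G] in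
theorem le' (h : Pair T W W') : W' ≤ T := by rw [← h.sup]; exact le_sup_right

omit [Finite G] in
theorem Om_le (h : Pair T W W') : Om T ≤ W := by rw [← h.inf]; exact inf_le_left

omit [Finite G] in
theorem inf_eq (h : Pair T W W') : W ⊓ centralizer (T : Set G) = Om T := by
  ext x
  constructor
  · rintro ⟨h1, h2⟩
    exact ⟨h.le h1, h.nat.vtx.two x h1, fun t ht => mem_centralizer_iff.mp h2 t ht⟩
  · intro hx
    exact ⟨h.Om_le hx, mem_centralizer_iff.mpr fun t ht => hx.2.2 t ht⟩

omit [Finite G] in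
theorem card_W (h : Pair T W W') : Nat.card W = Nat.card (Om T) ^ 2 := by
  rw [h.nat.card_V, h.inf_eq]

omit [Finite G] in
theorem card_T (h : Pair T W W') : Nat.card T = Nat.card (Om T) ^ 3 := by
  rw [h.nat.card_T, h.inf_eq, h.CW]
  show _ * Nat.card W = _
  rw [h.card_W]; ring

/-- involutions of `T` lie in `W` or `W'` -/
theorem mem_or (h : Pair T W W') {t : G} (ht : t ∈ T) (ht2 : t * t = 1) : t ∈ W ∨ t ∈ W' := by
  by_contra hcon
  push Not at hcon
  have hn : W' ≤ normalizer (W : Set G) := h.le'.trans h.nat.syl.2.1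
  rw [← h.sup] at ht
  obtain ⟨w, hw, w', hw', rfl⟩ := (mem_sup_of_le_normalizer hn).mp ht
  have hw'W : w' ∉ W := fun hh => hcon.1 (mul_mem hw hh)
  have hwW' : w ∉ W' := fun hh => hcon.2 (mul_mem hh hw')
  have hcomm : w' * w = w * w' := by
    have h1 := inv_of_two h.nat.vtx.two hw
    have h2 := inv_of_two h.nat'.vtx.two hw'
    calc w' * w = w⁻¹ * (w * w' * (w * w')) * w'⁻¹ := by group
      _ = w * w' := by rw [ht2, h1, h2]; group
  have h3 := h.nat.fix w' (h.le' hw') (by rw [h.CW]; exact hw'W) w hw hcomm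
  have h4 : w ∈ W ⊓ centralizer (T : Set G) := ⟨hw, h3⟩
  rw [h.inf_eq, ← h.inf] at h4
  exact hwW' h4.2

/-- elementary abelian subgroups of `T` lie in `W` or `W'` -/
theorem le_or (h : Pair T W W') {A : Subgroup G} (hA : A ≤ T) (hA2 : ∀ a ∈ A, a * a = 1) :
    A ≤ W ∨ A ≤ W' := by
  by_contra hcon
  push Not at hcon
  obtain ⟨a, ha, haW⟩ := SetLike.not_le_iff_exists.mp hcon.1
  obtain ⟨b, hb, hbW⟩ := SetLike.not_le_iff_exists.mp hcon.2
  have ha' : a ∈ W' := (h.mem_or (hA ha) (hA2 a ha)).resolve_left haW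
  have hb' : b ∈ W := (h.mem_or (hA hb) (hA2 b hb)).resolve_right hbW
  rcases h.mem_or (hA (mul_mem ha hb)) (hA2 _ (mul_mem ha hb)) with h1 | h1
  · apply haW
    have : a = a * b * b⁻¹ := by group
    rw [this]; exact mul_mem h1 (inv_mem hb')
  · apply hbW
    have : b = a⁻¹ * (a * b) := by group
    rw [this]; exact mul_mem (inv_mem ha') h1

theorem eq_or (h : Pair T W W') {A : Subgroup G} (hA : A ≤ T) (hA2 : ∀ a ∈ A, a * a = 1)
    (hc : Nat.card (Om T) ^ 2 ≤ Nat.card A) : A = W ∨ A = W' := by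
  rcases h.le_or hA hA2 with h1 | h1
  · left; exact Subgroup.eq_of_le_of_card_ge h1 (by rw [h.card_W]; exact hc)
  · right; exact Subgroup.eq_of_le_of_card_ge h1 (by rw [h.symm.card_W]; exact hc)

omit [Finite G] in
theorem ne_symm (h : Pair T W W') : W ≠ W' := by
  rintro rfl
  exact h.ne fun a ha b hb => comm_of_two h.nat.vtx.two ha hb

/-- elements of `N(T)` permute `W` and `W'` -/
theorem cj_or (h : Pair T W W') {x : G} (hx : x ∈ normalizer (T : Set G)) :
    (cj x W = W ∧ cj x W' = W') ∨ (cj x W = W' ∧ cj x W' = W) := by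
  have key : ∀ {U U' : Subgroup G}, Pair T U U' → cj x U = U ∨ cj x U = U' := by
    intro U U' hU
    apply hU.eq_or
    · have := cj_mono x hU.le
      rwa [mem_normalizer_iff_cj.mp hx] at this
    · exact (hU.nat.vtx.cj x).two
    · rw [card_cj, hU.card_W]
  rcases key h with h1 | h1
  · rcases key h.symm with h2 | h2
    · exact Or.inl ⟨h1, h2⟩
    · exact absurd (cj_injective x (h1.trans h2.symm)) h.ne_symm
  · rcases key h.symm with h2 | h2
    · exact absurd (cj_injective x (h1.trans h2.symm)) h.ne_symm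
    · exact Or.inr ⟨h1, h2⟩

/-- an element of `N(T)` whose square-like powers return to it fixes `W` and `W'` -/
theorem cj_eq_of_odd (h : Pair T W W') {x : G} (hx : x ∈ normalizer (T : Set G)) (hodd : ¬ 2 ∣ orderOf x) :
    cj x W = W ∧ cj x W' = W' := by
  rcases h.cj_or hx with h1 | h1
  · exact h1
  exfalso
  have h2 : cj (x ^ 2) W = W := by rw [pow_two, cj_mul, h1.1, h1.2]
  have h3 : ∀ k : ℕ, cj ((x ^ 2) ^ k) W = W := by
    intro k
    induction k with
    | zero => rw [pow_zero, cj_one]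
    | succ k ih => rw [pow_succ, cj_mul, h2, ih]
  have h4 : orderOf x % 2 = 1 := by omega
  have h5 : x = (x ^ 2) ^ ((orderOf x + 1) / 2) := by
    rw [← pow_mul]
    have : 2 * ((orderOf x + 1) / 2) = orderOf x + 1 := by omega
    rw [this, pow_succ, pow_orderOf_eq_one, one_mul]
  have h6 : cj x W = W := by rw [h5]; exact h3 _
  rw [h1.1] at h6
  exact h.ne_symm h6.symm

end Pair

/-! ### counting -/

omit [Finite G] in
/-- orbit-stabilizer in set form -/
theorem card_orbit_set {X : Type*} {K D : Subgroup G} (f : G → X → X) (h1 : ∀ x, f 1 x = x)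
    (hm : ∀ a b x, f (a * b) x = f a (f b x)) (x : X) (S : Set X)
    (hS : ∀ s ∈ S, ∃ k ∈ K, f k x = s) (hinv : ∀ k ∈ K, f k x ∈ S)
    (hD : ∀ k, k ∈ D ↔ k ∈ K ∧ f k x = x) : Nat.card S * Nat.card D = Nat.card K := by
  choose c hc1 hc2 using hS
  rw [← Nat.card_prod]
  apply Nat.card_congr
  refine ⟨fun sd => ⟨c sd.1 sd.1.2 * sd.2, mul_mem (hc1 _ _) ((hD _).mp sd.2.2).1⟩,
    fun k => ⟨⟨f k x, hinv k k.2⟩, ⟨(c (f k x) (hinv k k.2))⁻¹ * k, ?_⟩⟩, ?_, ?_⟩
  · rw [hD]
    refine ⟨mul_mem (inv_mem (hc1 _ _)) k.2, ?_⟩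
    rw [hm]
    have e := congrArg (f (c (f k x) (hinv k k.2))⁻¹) (hc2 (f k x) (hinv k k.2))
    rw [← hm, inv_mul_cancel, h1] at e
    exact e.symm
  · rintro ⟨⟨s, hs⟩, ⟨d, hd⟩⟩
    have e : f (c s hs * d) x = s := by
      rw [hm, ((hD d).mp hd).2, hc2]
    apply Prod.ext
    · exact Subtype.ext e
    · apply Subtype.ext
      show (c (f (c s hs * d) x) _)⁻¹ * (c s hs * d) = d
      have : ∀ (s' : X) (hs' : s' ∈ S), s' = s → (c s' hs')⁻¹ * (c s hs * d) = d := by
        rintro s' hs' rfl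
        group
      exact this _ _ e
  · rintro ⟨k, hk⟩
    apply Subtype.ext
    show c (f k x) _ * ((c (f k x) _)⁻¹ * k) = k
    group

variable {T V : Subgroup G}

/-- `|N_{N(V)}(T)| = (q - 1) |T|` -/
theorem NatV.card_NT (hG : IsCIT G) (h : NatV T V) :
    Nat.card (normalizer (V : Set G) ⊓ normalizer (T : Set G) : Subgroup G) =
      (Nat.card (V ⊓ centralizer (T : Set G) : Subgroup G) - 1) * Nat.card T := by
  set Z : Subgroup G := V ⊓ centralizer (T : Set G) with hZ
  have hZne : ∃ z ∈ Z, z ≠ 1 := by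
    by_contra hcon
    push Not at hcon
    have : Z = ⊥ := by
      rw [eq_bot_iff]; intro z hz; exact hcon z hz
    have h1 := h.one_lt
    rw [← hZ, this, Subgroup.card_bot] at h1
    exact lt_irrefl _ h1
  obtain ⟨z, hz, hz1⟩ := hZne
  have key := card_orbit_set (K := normalizer (V : Set G) ⊓ normalizer (T : Set G)) (D := T)
    (fun a x => a * x * a⁻¹) (by simp) (by intro a b x; simp [mul_assoc]) z {w | w ∈ Z ∧ w ≠ 1} ?_ ?_ ?_
  · rw [← key]
    congr 1
    rw [← FPF.Off.card_ne_one (V := Z)]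
    apply Nat.card_congr
    refine ⟨fun z => ⟨⟨z, z.2.1⟩, fun h => z.2.2 (congrArg Subtype.val h)⟩,
      fun z => ⟨z.1, z.1.2, fun h => z.2 (Subtype.ext h)⟩, ?_, ?_⟩
    · intro z; rfl
    · intro z; rfl
  · rintro w ⟨hw, hw1⟩
    obtain ⟨n, hn1, hn2, hn3⟩ := h.trans z hz.1 hz.2 hz1 w hw.1 hw.2 hw1
    exact ⟨n, ⟨hn1, hn2⟩, hn3⟩
  · rintro k ⟨hk1, hk2⟩
    refine ⟨⟨(mem_normalizer_iff_conj.mp hk1 z).mp hz.1, ?_⟩, ?_⟩
    · show k * z * k⁻¹ ∈ centralizer (T : Set G)
      rw [← mem_normalizer_iff_cj.mp hk2, cj_centralizer, mem_cj]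
      have : k⁻¹ * (k * z * k⁻¹) * k = z := by group
      rw [this]; exact hz.2
    · intro hh
      apply hz1
      have : z = k⁻¹ * (k * z * k⁻¹) * k := by group
      rw [this, hh]; group
  · intro k
    constructor
    · intro hk
      refine ⟨⟨h.syl.2.1 hk, le_normalizer hk⟩, ?_⟩
      rw [mem_centralizer_iff.mp hz.2 k hk]; group
    · rintro ⟨⟨hk1, hk2⟩, hk3⟩
      -- the stabilizer is a 2-group
      let D : Subgroup G := (normalizer (V : Set G) ⊓ normalizer (T : Set G)) ⊓ centralizer ({z} : Set G)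
      have hD2 : IsPGroup 2 D := isPGroup_two_of fun d hd => by
        apply hG.order_of_comm hz1 (order_two_pow_of_sq (h.vtx.two z hz.1))
        exact mem_centralizer_singleton_iff.mp hd.2
      have hTD : T ≤ D := by
        intro t ht
        refine ⟨⟨h.syl.2.1 ht, le_normalizer ht⟩, ?_⟩
        refine mem_centralizer_singleton_iff.mpr ?_
        exact mem_centralizer_iff.mp hz.2 t ht
      have := h.syl.2.2 D hD2 (inf_le_left.trans inf_le_left) hTD
      rw [← this]
      refine ⟨⟨hk1, hk2⟩, ?_⟩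
      exact mem_centralizer_singleton_iff.mpr (mul_inv_eq_iff_eq_mul.mp hk3)

/-- the number of Sylow subgroups of `N(V)` other than `T` is `q` -/
theorem NatV.card_syl (hG : IsCIT G) (h : NatV T V) :
    Nat.card {U : Subgroup G | IsSylowIn 2 U (normalizer (V : Set G)) ∧ U ≠ T} =
      Nat.card (V ⊓ centralizer (T : Set G) : Subgroup G) := by
  haveI : Fact (Nat.Prime 2) := ⟨Nat.prime_two⟩
  set q := Nat.card (V ⊓ centralizer (T : Set G) : Subgroup G) with hq
  have key := card_orbit_set (K := normalizer (V : Set G)) (D := normalizer (V : Set G) ⊓ normalizer (T : Set G))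
    (fun a U => H80.cj a U) (fun U => cj_one U) (fun a b U => cj_mul a b U) T
    {U | IsSylowIn 2 U (normalizer (V : Set G))} ?_ ?_ ?_
  · rw [h.card_NT hG, h.card_N, h.card_T, ← hq] at key
    have h1 := h.one_lt
    rw [← hq] at h1
    have hposC : 0 < Nat.card (centralizer (V : Set G)) := Nat.card_pos
    obtain ⟨r, hr⟩ : ∃ r, q = r + 2 := ⟨q - 2, by omega⟩
    have h2 : Nat.card {U : Subgroup G | IsSylowIn 2 U (normalizer (V : Set G))} = q + 1 := by
      have e1 : q ^ 2 - 1 = (q + 1) * (q - 1) := by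
        rw [hr]
        have : (r + 2) ^ 2 = (r + 2 + 1) * (r + 2 - 1) + 1 := by
          rw [Nat.add_sub_assoc (by norm_num)]; ring
        omega
      rw [e1] at key
      have hpos : 0 < (q - 1) * (q * Nat.card (centralizer (V : Set G))) := by
        apply Nat.mul_pos (by omega) (Nat.mul_pos (by omega) hposC)
      apply Nat.eq_of_mul_eq_mul_right hpos
      rw [key]; ring
    have h3 : Nat.card {U : Subgroup G | IsSylowIn 2 U (normalizer (V : Set G)) ∧ U ≠ T} + 1 =
        Nat.card {U : Subgroup G | IsSylowIn 2 U (normalizer (V : Set G))} := by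
      have e2 : {U : Subgroup G | IsSylowIn 2 U (normalizer (V : Set G))} =
          insert T {U : Subgroup G | IsSylowIn 2 U (normalizer (V : Set G)) ∧ U ≠ T} := by
        ext U
        simp only [Set.mem_setOf_eq, Set.mem_insert_iff]
        constructor
        · intro hU
          by_cases hUT : U = T
          · exact Or.inl hUT
          · exact Or.inr ⟨hU, hUT⟩
        · rintro (rfl | hU)
          · exact h.syl
          · exact hU.1
      rw [e2, Nat.card_coe_set_eq, Nat.card_coe_set_eq, Set.ncard_insert_of_notMem]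
      simp
    omega
  · intro U hU
    exact h.syl.exists_conj hU
  · intro k hk
    show IsSylowIn 2 (H80.cj k T) (normalizer (V : Set G))
    have := h.syl.cj k
    rwa [cj_self_of_mem hk] at this
  · intro k
    rw [Subgroup.mem_inf, mem_normalizer_iff_cj (H := T)]

/-- an element of odd prime order normalizing `T` normalizes another Sylow subgroup -/
theorem NatV.exists_fixed_syl (hG : IsCIT G) (h : NatV T V) {k : G} (hkV : k ∈ normalizer (V : Set G))
    (hkT : k ∈ normalizer (T : Set G)) {p : ℕ} (hp : p.Prime) (hp2 : p ≠ 2) (hk : orderOf k = p) :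
    ∃ U, IsSylowIn 2 U (normalizer (V : Set G)) ∧ U ≠ T ∧ k ∈ normalizer (U : Set G) := by
  haveI : Fact p.Prime := ⟨hp⟩
  have hA : IsPGroup p (zpowers k) := by
    apply IsPGroup.of_card (n := 1)
    rw [Nat.card_zpowers, hk, pow_one]
  obtain ⟨U, ⟨hU1, hU2⟩, hU3⟩ := Cfsg.Agent.SigF.exists_fixed hA (fun a U => H80.cj a U) (fun U => cj_one U)
    (fun a b U => cj_mul a b U) {U : Subgroup G | IsSylowIn 2 U (normalizer (V : Set G)) ∧ U ≠ T} (by
      rintro a ha U ⟨hU1, hU2⟩
      have haV : a ∈ normalizer (V : Set G) := (zpowers_le.mpr hkV) ha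
      have haT : a ∈ normalizer (T : Set G) := (zpowers_le.mpr hkT) ha
      constructor
      · have := hU1.cj a
        rwa [cj_self_of_mem haV] at this
      · intro hh
        apply hU2
        have h2 : H80.cj a U = H80.cj a T := by rw [mem_normalizer_iff_cj.mp haT]; exact hh
        exact cj_injective a h2) (by
      rw [h.card_syl hG]
      obtain ⟨j, -, hj⟩ := h.exists_pow
      rw [hj]
      intro hd
      exact hp2 ((Nat.prime_dvd_prime_iff_eq hp Nat.prime_two).mp (hp.dvd_of_dvd_pow hd)))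
  refine ⟨U, hU1, hU2, ?_⟩
  rw [mem_normalizer_iff_cj]
  exact hU3 k (mem_zpowers k)

end Cfsg.Agent.CIT
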