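import Mathlib
import Cfsg.Agent.CIT.Struct

set_option autoImplicit false

/-!
# CIT groups VIII: `q = 2` or `q = 4`
-/

namespace Cfsg.Agent.CIT

open Subgroup Cfsg.Agent.H80 Cfsg.Agent.H32

variable {G : Type*} [Group G] [Finite G]

theorem eq_inf_centralizer (hG : IsCIT G) {K U : Subgroup G} (hU : IsSylowIn 2 U K) {v : G} (hv1 : v ≠ 1)
    (hv2 : v * v = 1) (hv : v ∈ centralizer (U : Set G)) : K ⊓ centralizer ({v} : Set G) = U := by
  apply hU.2.2
  · exact isPGroup_two_of fun d hd => hG.order_of_comm hv1 (order_two_pow_of_sq hv2)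
      (mem_centralizer_singleton_iff.mp hd.2)
  · exact inf_le_left
  · intro u hu
    exact ⟨hU.2.1 hu, mem_centralizer_singleton_iff.mpr (mem_centralizer_iff.mp hv u hu)⟩

theorem mem_of_comm' (hG : IsCIT G) {K U : Subgroup G} (hU : IsSylowIn 2 U K) {v x : G} (hv1 : v ≠ 1)
    (hv2 : v * v = 1) (hv : v ∈ centralizer (U : Set G)) (hxK : x ∈ K) (hx : x * v = v * x) : x ∈ U := by
  rw [← eq_inf_centralizer hG hU hv1 hv2 hv]
  exact ⟨hxK, mem_centralizer_singleton_iff.mpr hx⟩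

theorem syl_eq (hG : IsCIT G) {K U U' : Subgroup G} (hU : IsSylowIn 2 U K) (hU' : IsSylowIn 2 U' K) {v : G}
    (hv1 : v ≠ 1) (hv2 : v * v = 1) (hv : v ∈ centralizer (U : Set G)) (hv' : v ∈ centralizer (U' : Set G)) :
    U = U' := by
  rw [← eq_inf_centralizer hG hU hv1 hv2 hv, ← eq_inf_centralizer hG hU' hv1 hv2 hv']

omit [Finite G] in
theorem conj_mem_centralizer {x v : G} {U U' : Subgroup G} (hx : cj x U = U')
    (hv : v ∈ centralizer (U : Set G)) : x * v * x⁻¹ ∈ centralizer (U' : Set G) := by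
  rw [← hx, cj_centralizer, mem_cj]
  have : x⁻¹ * (x * v * x⁻¹) * x = v := by group
  rw [this]; exact hv

section
variable {T U V : Subgroup G}

theorem NatV.of_syl (hG : IsCIT G) (h : NatV T V) (hU : IsSylowIn 2 U (normalizer (V : Set G))) : NatV U V := by
  haveI : Fact (Nat.Prime 2) := ⟨Nat.prime_two⟩
  obtain ⟨x, hx, rfl⟩ := h.syl.exists_conj hU
  have := h.cj hG x
  rwa [mem_normalizer_iff_cj.mp hx] at this

theorem NatV.inf_syl (hG : IsCIT G) (h : NatV T V) (hU : IsSylowIn 2 U (normalizer (V : Set G))) (hne : U ≠ T) :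
    T ⊓ U ≤ centralizer (V : Set G) := by
  rintro t ⟨htT, htU⟩
  by_contra htC
  have hV := h.of_syl hG hU
  obtain ⟨z, hz, hz1⟩ : ∃ z ∈ V ⊓ centralizer (T : Set G), z ≠ 1 := by
    by_contra hcon
    push Not at hcon
    have : V ⊓ centralizer (T : Set G) = ⊥ := by
      rw [eq_bot_iff]; intro z hz; exact hcon z hz
    have h1 := h.one_lt
    rw [this, Subgroup.card_bot] at h1
    exact lt_irrefl _ h1
  have h2 := hV.fix t htU htC z hz.1 (mem_centralizer_iff.mp hz.2 t htT)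
  exact hne (syl_eq hG hU h.syl hz1 (h.vtx.two z hz.1) h2 hz.2)

theorem NatV.disj' (hG : IsCIT G) (h : NatV T V) (hU : IsSylowIn 2 U (normalizer (V : Set G))) (hne : U ≠ T)
    {v : G} (hv : v ∈ V) (h1 : v ∈ centralizer (T : Set G)) (h2 : v ∈ centralizer (U : Set G)) : v = 1 := by
  by_contra hv1
  exact hne (syl_eq hG hU h.syl hv1 (h.vtx.two v hv) h2 h1)

/-- a swapping element -/
theorem NatV.swap (hG : IsCIT G) (h : NatV T V) (hU : IsSylowIn 2 U (normalizer (V : Set G))) (hne : U ≠ T)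
    {z v t t' : G} (hz : z ∈ V) (hzT : z ∈ centralizer (T : Set G)) (hz1 : z ≠ 1)
    (hv : v ∈ V) (hvU : v ∈ centralizer (U : Set G)) (hv1 : v ≠ 1)
    (ht : t ∈ T) (ht' : t' ∈ U) (e1 : t * v * t⁻¹ = v * z) (e2 : t' * z * t'⁻¹ = z * v) :
    (t * t' * t) * z * (t * t' * t)⁻¹ = v ∧ (t * t' * t) * v * (t * t' * t)⁻¹ = z ∧
      H80.cj (t * t' * t) T = U ∧ H80.cj (t * t' * t) U = T ∧ t * t' * t ∈ normalizer (V : Set G) ∧
      (t * t' * t) * (t * t' * t) ∈ centralizer (V : Set G) := by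
  have tz : t * z * t⁻¹ = z := by rw [mem_centralizer_iff.mp hzT t ht]; group
  have tv : t' * v * t'⁻¹ = v := by rw [mem_centralizer_iff.mp hvU t' ht']; group
  have hzz := h.vtx.two z hz
  have hvv := h.vtx.two v hv
  have hzv : z * v = v * z := comm_of_two h.vtx.two hz hv
  have hn1 : (t * t' * t) * z * (t * t' * t)⁻¹ = v := by
    calc (t * t' * t) * z * (t * t' * t)⁻¹ = t * (t' * (t * z * t⁻¹) * t'⁻¹) * t⁻¹ := by group
      _ = t * (z * v) * t⁻¹ := by rw [tz, e2]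
      _ = (t * z * t⁻¹) * (t * v * t⁻¹) := by group
      _ = z * z * v := by rw [tz, e1, ← hzv]; group
      _ = v := by rw [hzz, one_mul]
  have hn2 : (t * t' * t) * v * (t * t' * t)⁻¹ = z := by
    calc (t * t' * t) * v * (t * t' * t)⁻¹ = t * (t' * (t * v * t⁻¹) * t'⁻¹) * t⁻¹ := by group
      _ = t * ((t' * v * t'⁻¹) * (t' * z * t'⁻¹)) * t⁻¹ := by rw [e1]; group
      _ = t * (v * (v * z)) * t⁻¹ := by rw [tv, e2, hzv]
      _ = t * (v * v * z) * t⁻¹ := by group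
      _ = z := by rw [hvv, one_mul, tz]
  have hnV : t * t' * t ∈ normalizer (V : Set G) :=
    mul_mem (mul_mem (h.syl.2.1 ht) (hU.2.1 ht')) (h.syl.2.1 ht)
  set n := t * t' * t with hn
  have hT : IsSylowIn 2 (H80.cj n T) (normalizer (V : Set G)) := by
    have := h.syl.cj n
    rwa [cj_self_of_mem hnV] at this
  have hU' : IsSylowIn 2 (H80.cj n U) (normalizer (V : Set G)) := by
    have := hU.cj n
    rwa [cj_self_of_mem hnV] at this
  have a1 : H80.cj n T = U := by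
    apply syl_eq hG hT hU hv1 hvv _ hvU
    have := conj_mem_centralizer (x := n) (U := T) rfl hzT
    rwa [hn1] at this
  have a2 : H80.cj n U = T := by
    apply syl_eq hG hU' h.syl hz1 hzz _ hzT
    have := conj_mem_centralizer (x := n) (U := U) rfl hvU
    rwa [hn2] at this
  refine ⟨hn1, hn2, a1, a2, hnV, ?_⟩
  apply h.inf_syl hG hU hne
  have hnn : n * n ∈ normalizer (V : Set G) := mul_mem hnV hnV
  constructor
  · apply mem_of_comm' hG h.syl hz1 hzz hzT hnn
    rw [← mul_inv_eq_iff_eq_mul]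
    calc n * n * z * (n * n)⁻¹ = n * (n * z * n⁻¹) * n⁻¹ := by group
      _ = z := by rw [hn1, hn2]
  · apply mem_of_comm' hG hU hv1 hvv hvU hnn
    rw [← mul_inv_eq_iff_eq_mul]
    calc n * n * v * (n * n)⁻¹ = n * (n * v * n⁻¹) * n⁻¹ := by group
      _ = v := by rw [hn2, hn1]

omit [Finite G] in
theorem NatV.exists_mem (h : NatV T V) : ∃ z ∈ V, z ∈ centralizer (T : Set G) ∧ z ≠ 1 := by
  by_contra hcon
  push Not at hcon
  have : V ⊓ centralizer (T : Set G) = ⊥ := by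
    rw [eq_bot_iff]; intro z hz; exact hcon z hz.1 hz.2
  have h1 := h.one_lt
  rw [this, Subgroup.card_bot] at h1
  exact lt_irrefl _ h1

/-- every element interchanging two Sylow subgroups squares into `C(V)` -/
theorem NatV.sq_mem (hG : IsCIT G) (h : NatV T V) (hU : IsSylowIn 2 U (normalizer (V : Set G))) (hne : U ≠ T)
    {m : G} (hm : m ∈ normalizer (V : Set G)) (h1 : H80.cj m T = U) (h2 : H80.cj m U = T) :
    m * m ∈ centralizer (V : Set G) := by
  have hV := h.of_syl hG hU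
  obtain ⟨z, hz, hzT, hz1⟩ := h.exists_mem
  set v := m * z * m⁻¹ with hvdef
  have hv : v ∈ V := (mem_normalizer_iff_conj.mp hm z).mp hz
  have hvU : v ∈ centralizer (U : Set G) := conj_mem_centralizer h1 hzT
  have hv1 : v ≠ 1 := by
    intro hh
    apply hz1
    have : z = m⁻¹ * v * m := by rw [hvdef]; group
    rw [this, hh]; group
  have hvT : v ∉ centralizer (T : Set G) := fun hh => hv1 (h.disj' hG hU hne hv hh hvU)
  have hzU : z ∉ centralizer (U : Set G) := fun hh => hz1 (h.disj' hG hU hne hz hzT hh)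
  obtain ⟨t, ht, e1⟩ := h.reg v hv hvT z hz hzT
  obtain ⟨t', ht', e2⟩ := hV.reg z hz hzU v hv hvU
  obtain ⟨n1, n2, n3, n4, n5, n6⟩ := h.swap hG hU hne hz hzT hz1 hv hvU hv1 ht ht' e1 e2
  set n := t * t' * t with hn
  set y := n⁻¹ * m with hy
  have hyV : y ∈ normalizer (V : Set G) := mul_mem (inv_mem n5) hm
  have hyT : y ∈ T := by
    apply mem_of_comm' hG h.syl hz1 (h.vtx.two z hz) hzT hyV
    rw [← mul_inv_eq_iff_eq_mul]
    calc y * z * y⁻¹ = n⁻¹ * (m * z * m⁻¹) * n := by rw [hy]; group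
      _ = n⁻¹ * (n * z * n⁻¹) * n := by rw [← hvdef, n1]
      _ = z := by group
  have hyU' : H80.cj y U = U := by
    rw [hy, cj_mul, h2, ← n4, cj_inv_cj]
  have hyv : y * v * y⁻¹ * v = 1 := by
    apply h.disj' hG hU hne
    · exact V.mul_mem ((mem_normalizer_iff_conj.mp hyV v).mp hv) hv
    · exact h.quad y hyT v hv
    · exact Subgroup.mul_mem _ (conj_mem_centralizer hyU' hvU) hvU
  have hyC : y ∈ centralizer (V : Set G) := by
    apply h.inf_syl hG hU hne
    refine ⟨hyT, ?_⟩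
    apply mem_of_comm' hG hU hv1 (h.vtx.two v hv) hvU hyV
    rw [← mul_inv_eq_iff_eq_mul, eq_inv_of_mul_eq_one_left hyv]
    exact inv_of_two h.vtx.two hv
  have hnC := normalizer_le_normalizer_centralizer V n5
  have e : m * m = n * n * (n⁻¹ * y * n⁻¹⁻¹) * y := by rw [hy]; group
  rw [e]
  exact mul_mem (mul_mem n6 ((mem_normalizer_iff_conj.mp (inv_mem hnC) y).mp hyC)) hyC

/-- `V` is the product of two root subgroups -/
theorem NatV.exists_mul (hG : IsCIT G) (h : NatV T V) (hU : IsSylowIn 2 U (normalizer (V : Set G))) (hne : U ≠ T)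
    {v : G} (hv : v ∈ V) : ∃ z ∈ V, z ∈ centralizer (T : Set G) ∧ ∃ u ∈ V, u ∈ centralizer (U : Set G) ∧
      z * u = v := by
  haveI : Fact (Nat.Prime 2) := ⟨Nat.prime_two⟩
  have hcomm : ∀ a ∈ V ⊓ centralizer (T : Set G), ∀ b ∈ V ⊓ centralizer (U : Set G), a * b = b * a :=
    fun a ha b hb => comm_of_two h.vtx.two ha.1 hb.1
  have h1 := card_sup_of_comm hcomm
  have h2 : (V ⊓ centralizer (T : Set G)) ⊓ (V ⊓ centralizer (U : Set G)) = ⊥ := by
    rw [eq_bot_iff]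
    rintro x ⟨hx1, hx2⟩
    exact h.disj' hG hU hne hx1.1 hx1.2 hx2.2
  have h3 : Nat.card (V ⊓ centralizer (U : Set G) : Subgroup G) =
      Nat.card (V ⊓ centralizer (T : Set G) : Subgroup G) := by
    obtain ⟨x, hx, rfl⟩ := h.syl.exists_conj hU
    rw [cj_centralizer, ← card_cj x (V ⊓ centralizer (T : Set G)), cj_inf, mem_normalizer_iff_cj.mp hx]
  rw [h2, Subgroup.card_bot, mul_one, h3, ← pow_two, ← h.card_V] at h1
  have h4 := Subgroup.eq_of_le_of_card_ge (sup_le inf_le_left inf_le_left :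
    (V ⊓ centralizer (T : Set G)) ⊔ (V ⊓ centralizer (U : Set G)) ≤ V) h1.ge
  rw [← h4] at hv
  have hn : V ⊓ centralizer (U : Set G) ≤ normalizer ((V ⊓ centralizer (T : Set G) : Subgroup G) : Set G) := by
    apply le_normalizer_of
    intro x hx r hr
    rw [← hcomm r hr x hx, mul_inv_cancel_right]; exact hr
  obtain ⟨z, hz, u, hu, hzu⟩ := (mem_sup_of_le_normalizer hn).mp hv
  exact ⟨z, hz.1, hz.2, u, hu.1, hu.2, hzu⟩

/-- the key relation: an element normalizing `T`, `U`, `V` acts on commutators inversely -/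
theorem NatV.key (hG : IsCIT G) (h : NatV T V) (hU : IsSylowIn 2 U (normalizer (V : Set G))) (hne : U ≠ T)
    {k : G} (hkV : k ∈ normalizer (V : Set G)) (hkT : k ∈ normalizer (T : Set G))
    (hkU : k ∈ normalizer (U : Set G)) {t v : G} (ht : t ∈ T) (hv : v ∈ V) :
    t * (k * v * k⁻¹) * t⁻¹ * (k * v * k⁻¹) = k⁻¹ * (t * v * t⁻¹ * v) * k := by
  have hV := h.of_syl hG hU
  have hkT' := mem_normalizer_iff_cj.mp hkT
  have hkU' := mem_normalizer_iff_cj.mp hkU
  by_cases htC : t ∈ centralizer (V : Set G)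
  · have e1 : ∀ w ∈ V, t * w * t⁻¹ * w = 1 := by
      intro w hw
      rw [← mem_centralizer_iff.mp htC w hw, mul_inv_cancel_right]
      exact h.vtx.two w hw
    rw [e1 v hv, e1 _ ((mem_normalizer_iff_conj.mp hkV v).mp hv)]; group
  -- first for `v` in the root subgroup of `U`
  have main : ∀ v ∈ V, v ∈ centralizer (U : Set G) →
      t * (k * v * k⁻¹) * t⁻¹ * (k * v * k⁻¹) = k⁻¹ * (t * v * t⁻¹ * v) * k := by
    obtain ⟨v0, hv0, hv0U, hv01⟩ := hV.exists_mem
    have hkvk : ∀ v ∈ V, v ∈ centralizer (U : Set G) → k * v * k⁻¹ ∈ V ∧ k * v * k⁻¹ ∈ centralizer (U : Set G) :=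
      fun v hv hvU => ⟨(mem_normalizer_iff_conj.mp hkV v).mp hv, conj_mem_centralizer hkU' hvU⟩
    set z0 := t * v0 * t⁻¹ * v0 with hz0
    have htV := h.syl.2.1 ht
    have hz0V : z0 ∈ V := V.mul_mem ((mem_normalizer_iff_conj.mp htV v0).mp hv0) hv0
    have hz0T : z0 ∈ centralizer (T : Set G) := h.quad t ht v0 hv0
    have hz01 : z0 ≠ 1 := by
      intro hh
      apply htC
      apply h.inf_syl hG hU hne
      refine ⟨ht, mem_of_comm' hG hU hv01 (h.vtx.two v0 hv0) hv0U htV ?_⟩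
      rw [← mul_inv_eq_iff_eq_mul, eq_inv_of_mul_eq_one_left hh]
      exact inv_of_two h.vtx.two hv0
    have e1 : t * v0 * t⁻¹ = v0 * z0 := by
      have : t * v0 * t⁻¹ = z0 * v0 := by
        rw [hz0, mul_assoc (t * v0 * t⁻¹) v0 v0, h.vtx.two v0 hv0, mul_one]
      rw [this]; exact comm_of_two h.vtx.two hz0V hv0
    have hz0U : z0 ∉ centralizer (U : Set G) := fun hh => hz01 (h.disj' hG hU hne hz0V hz0T hh)
    obtain ⟨t', ht', e2⟩ := hV.reg z0 hz0V hz0U v0 hv0 hv0U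
    obtain ⟨-, -, n3, n4, n5, n6⟩ := h.swap hG hU hne hz0V hz0T hz01 hv0 hv0U hv01 ht ht' e1 e2
    have hnv : ∀ v ∈ V, v ∈ centralizer (U : Set G) →
        (t * t' * t) * v * (t * t' * t)⁻¹ = t * v * t⁻¹ * v := by
      intro v hv hvU
      have hz : t * v * t⁻¹ * v ∈ V := V.mul_mem ((mem_normalizer_iff_conj.mp htV v).mp hv) hv
      have hzT := h.quad t ht v hv
      set z := t * v * t⁻¹ * v with hzdef
      have ht'V := hU.2.1 ht'
      have hu : t' * z * t'⁻¹ * z ∈ V := V.mul_mem ((mem_normalizer_iff_conj.mp ht'V z).mp hz) hz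
      have huU := hV.quad t' ht' z hz
      set u := t' * z * t'⁻¹ * z with hudef
      have hzz := h.vtx.two z hz
      have hvv := h.vtx.two v hv
      have e3 : t * v * t⁻¹ = z * v := by rw [hzdef, mul_assoc _ v v, hvv, mul_one]
      have e4 : t' * z * t'⁻¹ = u * z := by rw [hudef, mul_assoc _ z z, hzz, mul_one]
      have e5 : t' * v * t'⁻¹ = v := by rw [mem_centralizer_iff.mp hvU t' ht']; group
      have e6 : t * z * t⁻¹ = z := by rw [mem_centralizer_iff.mp hzT t ht]; group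
      have e7 : (t * t' * t) * v * (t * t' * t)⁻¹ = (t * u * t⁻¹) * v := by
        calc (t * t' * t) * v * (t * t' * t)⁻¹ = t * (t' * (t * v * t⁻¹) * t'⁻¹) * t⁻¹ := by group
          _ = t * ((t' * z * t'⁻¹) * (t' * v * t'⁻¹)) * t⁻¹ := by rw [e3]; group
          _ = (t * u * t⁻¹) * (t * z * t⁻¹) * (t * v * t⁻¹) := by rw [e4, e5]; group
          _ = (t * u * t⁻¹) * (z * z) * v := by rw [e6, e3]; group
          _ = _ := by rw [hzz, mul_one]
      have e8 : (t * t' * t) * v * (t * t' * t)⁻¹ ∈ centralizer (T : Set G) := conj_mem_centralizer n4 hvU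
      have e9 := h.quad t ht u hu
      have e10 : u * v = 1 := by
        apply h.disj' hG hU hne (V.mul_mem hu hv) _ (Subgroup.mul_mem _ huU hvU)
        have e11 : u * v = (t * u * t⁻¹ * u)⁻¹ * ((t * t' * t) * v * (t * t' * t)⁻¹) := by
          rw [e7]
          have hui := inv_of_two h.vtx.two hu
          calc u * v = u⁻¹ * v := by rw [hui]
            _ = _ := by group
        rw [e11]
        exact Subgroup.mul_mem _ (Subgroup.inv_mem _ e9) e8
      have e12 : u = v := by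
        rw [eq_inv_of_mul_eq_one_left e10]; exact inv_of_two h.vtx.two hv
      rw [e7, e12]
    set n := t * t' * t with hn
    have hkn : (k * n) * (k * n) ∈ centralizer (V : Set G) := by
      apply h.sq_mem hG hU hne (mul_mem hkV n5)
      · rw [cj_mul, n3, hkU']
      · rw [cj_mul, n4, hkT']
    intro v hv hvU
    obtain ⟨w1, w2⟩ := hkvk v hv hvU
    rw [← hnv _ w1 w2, ← hnv v hv hvU]
    set c := (k * n) * (k * n) * (n * n)⁻¹ with hc
    have hcC : c ∈ centralizer (V : Set G) := mul_mem hkn (inv_mem n6)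
    have hnvV : n * v * n⁻¹ ∈ V := (mem_normalizer_iff_conj.mp n5 v).mp hv
    have e13 := mem_centralizer_iff.mp hcC _ hnvV
    calc n * (k * v * k⁻¹) * n⁻¹ = k⁻¹ * (c * (n * v * n⁻¹)) * c⁻¹ * k := by rw [hc]; group
      _ = k⁻¹ * (n * v * n⁻¹) * k := by rw [← e13]; group
  obtain ⟨z, hz, hzT, u, hu, huU, rfl⟩ := h.exists_mul hG hU hne hv
  have hred : ∀ z ∈ V, z ∈ centralizer (T : Set G) → ∀ u ∈ V,
      t * (z * u) * t⁻¹ * (z * u) = t * u * t⁻¹ * u := by
    intro z hz hzT u hu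
    have e1 : t * z * t⁻¹ = z := by rw [mem_centralizer_iff.mp hzT t ht]; group
    have e2 : t * u * t⁻¹ ∈ V := (mem_normalizer_iff_conj.mp (h.syl.2.1 ht) u).mp hu
    have e3 := comm_of_two h.vtx.two hz e2
    calc t * (z * u) * t⁻¹ * (z * u) = (t * z * t⁻¹) * (t * u * t⁻¹) * z * u := by group
      _ = z * (t * u * t⁻¹) * z * u := by rw [e1]
      _ = (t * u * t⁻¹) * (z * z) * u := by rw [e3]; group
      _ = _ := by rw [h.vtx.two z hz, mul_one]
  have e4 : k * (z * u) * k⁻¹ = (k * z * k⁻¹) * (k * u * k⁻¹) := by group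
  rw [e4, hred _ ((mem_normalizer_iff_conj.mp hkV z).mp hz) (conj_mem_centralizer hkT' hzT) _
    ((mem_normalizer_iff_conj.mp hkV u).mp hu), hred z hz hzT u hu]
  exact main u hu huU

end

/-- Lemma E -/
theorem Pair.eq_three (hG : IsCIT G) {T W W' : Subgroup G} (h : Pair T W W') {k : G} {p : ℕ} (hp : p.Prime)
    (hp2 : p ≠ 2) (hk : orderOf k = p) (hkT : k ∈ normalizer (T : Set G)) : p = 3 := by
  have hodd : ¬ 2 ∣ orderOf k := by
    rw [hk]
    intro h2
    exact hp2 ((Nat.prime_dvd_prime_iff_eq Nat.prime_two hp).mp h2).symm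
  obtain ⟨hkW, hkW'⟩ := h.cj_eq_of_odd hkT hodd
  rw [← mem_normalizer_iff_cj] at hkW hkW'
  obtain ⟨U, hU1, hU2, hU3⟩ := h.nat.exists_fixed_syl hG hkW hkT hp hp2 hk
  obtain ⟨U', hU1', hU2', hU3'⟩ := h.nat'.exists_fixed_syl hG hkW' hkT hp hp2 hk
  have hne := h.ne
  unfold Cm at hne
  push Not at hne
  obtain ⟨w, hw, w', hw', hww⟩ := hne
  set c := w' * w * w'⁻¹ * w with hc
  have hcW : c ∈ W := W.mul_mem ((mem_normalizer_iff_conj.mp (h.nat.syl.2.1 (h.le' hw')) w).mp hw) hw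
  have hc1 : c ≠ 1 := by
    intro hh
    apply hww
    have h1 : w' * w * w'⁻¹ = w := by
      rw [eq_inv_of_mul_eq_one_left hh]; exact inv_of_two h.nat.vtx.two hw
    exact (mul_inv_eq_iff_eq_mul.mp h1).symm
  have hcc := h.nat.vtx.two c hcW
  have hci : c⁻¹ = c := inv_of_two h.nat.vtx.two hcW
  set x' := k * w' * k⁻¹ with hx'
  have hx'W : x' ∈ W' := (mem_normalizer_iff_conj.mp hkW' w').mp hw'
  have hkwW : k * w * k⁻¹ ∈ W := (mem_normalizer_iff_conj.mp hkW w).mp hw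
  have k1 := h.nat.key hG hU1 hU2 hkW hkT hU3 (h.le' hx'W) hw
  have k2 := h.nat'.key hG hU1' hU2' hkW' hkT hU3' (h.le hw) hw'
  rw [← hx'] at k2
  have wi := inv_of_two h.nat.vtx.two hw
  have w'i := inv_of_two h.nat'.vtx.two hw'
  have x'i := inv_of_two h.nat'.vtx.two hx'W
  -- `x' w x'⁻¹ w = k⁻¹ c k`
  have e1 : x' * w * x'⁻¹ * w = k⁻¹ * c * k := by
    calc x' * w * x'⁻¹ * w = (w⁻¹ * x'⁻¹⁻¹ * w⁻¹ * x'⁻¹)⁻¹ := by group
      _ = (w * x' * w⁻¹ * x')⁻¹ := by rw [inv_inv, x'i, wi]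
      _ = (k⁻¹ * (w * w' * w⁻¹ * w') * k)⁻¹ := by rw [k2]
      _ = k⁻¹ * (w'⁻¹ * w⁻¹⁻¹ * w'⁻¹ * w⁻¹) * k := by group
      _ = k⁻¹ * c * k := by rw [inv_inv, hc, w'i, wi]
  have e2 : x' * (k * w * k⁻¹) * x'⁻¹ * (k * w * k⁻¹) = k * c * k⁻¹ := by
    rw [hc, hx']; group
  rw [e2, e1] at k1
  have e3 : k ^ 3 * c = c * k ^ 3 := by
    have e4 : k ^ 3 = k * k * k := by rw [pow_succ, pow_two]
    rw [e4]
    calc k * k * k * c = k * k * (k * c * k⁻¹) * k := by group
      _ = k * k * (k⁻¹ * (k⁻¹ * c * k) * k) * k := by rw [k1]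
      _ = _ := by group
  obtain ⟨j, hj⟩ := hG.order_of_comm hc1 (order_two_pow_of_sq hcc) e3
  have h5 : orderOf (k ^ 3) ∣ p := by
    apply orderOf_dvd_of_pow_eq_one
    rw [← pow_mul, mul_comm, pow_mul, ← hk, pow_orderOf_eq_one, one_pow]
  have h6 : k ^ 3 = 1 := by
    rw [← orderOf_eq_one_iff]
    rcases Nat.eq_zero_or_pos j with rfl | hj0
    · rw [hj, pow_zero]
    · exfalso
      apply hodd
      rw [hk]
      exact (dvd_pow_self 2 hj0.ne').trans (hj ▸ h5)
  have h7 : p ∣ 3 := hk ▸ orderOf_dvd_of_pow_eq_one h6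
  exact (Nat.prime_dvd_prime_iff_eq hp Nat.prime_three).mp h7

theorem pow_two_eq (j b : ℕ) (hj : 1 ≤ j) (h : 2 ^ j = 3 ^ b + 1) : 2 ^ j = 2 ∨ 2 ^ j = 4 := by
  by_contra hcon
  push Not at hcon
  have hj3 : 3 ≤ j := by
    by_contra hlt
    have : j = 1 ∨ j = 2 := by omega
    rcases this with rfl | rfl
    · exact hcon.1 (by norm_num)
    · exact hcon.2 (by norm_num)
  have h8 : 8 ∣ 2 ^ j := by
    have : (2 : ℕ) ^ 3 ∣ 2 ^ j := pow_dvd_pow 2 hj3
    simpa using this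
  have h9 : 3 ^ b % 8 = 1 ∨ 3 ^ b % 8 = 3 := by
    clear h h8
    induction b with
    | zero => left; norm_num
    | succ b ih =>
      rw [pow_succ]
      omega
  omega

/-- `q = 2` or `q = 4` -/
theorem Pair.q_eq (hG : IsCIT G) {T W W' : Subgroup G} (h : Pair T W W') :
    Nat.card (Om T) = 2 ∨ Nat.card (Om T) = 4 := by
  have hN := h.nat.card_NT hG
  obtain ⟨j, hj1, hj⟩ := h.nat.exists_pow
  rw [h.inf_eq] at hN hj
  have h2 : 2 ≤ 2 ^ j := by
    calc 2 = 2 ^ 1 := by norm_num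
      _ ≤ 2 ^ j := Nat.pow_le_pow_right (by norm_num) hj1
  have h2d : 2 ∣ 2 ^ j := dvd_pow_self 2 (by omega)
  have hprime : ∀ p : ℕ, p.Prime → p ∣ 2 ^ j - 1 → p = 3 := by
    intro p hp hpd
    have hp2 : p ≠ 2 := by
      rintro rfl
      omega
    haveI : Fact p.Prime := ⟨hp⟩
    obtain ⟨x, hx⟩ := exists_prime_orderOf_dvd_card' (G := ↥(normalizer (W : Set G) ⊓ normalizer (T : Set G))) p (by
      rw [hN, hj]
      exact hpd.mul_right _)
    exact h.eq_three hG hp hp2 (k := (x : G)) (by rw [Subgroup.orderOf_coe, hx]) x.2.2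
  have h4 : ∃ b, 2 ^ j - 1 = 3 ^ b := by
    refine ⟨_, Nat.eq_prime_pow_of_unique_prime_dvd (by omega) ?_⟩
    intro d hd hdd
    exact hprime d hd hdd
  obtain ⟨b, hb⟩ := h4
  rw [hj]
  exact pow_two_eq j b hj1 (by omega)

end Cfsg.Agent.CIT
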