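import Mathlib
import Cfsg.Agent.CIT.LemE

set_option autoImplicit false

/-!
# CIT groups IX: the dichotomy
-/

namespace Cfsg.Agent.CIT

open Subgroup Cfsg.Agent.H80 Cfsg.Agent.H32

variable {G : Type*} [Group G] [Finite G]

/-- the Thompson subgroup -/
def JJ (T : Subgroup G) : Subgroup G := closure {x | ∃ A, maxEl T A ∧ x ∈ A}

omit [Finite G] in
theorem maxEl.le_JJ {T A : Subgroup G} (h : maxEl T A) : A ≤ JJ T :=
  fun _ hx => Subgroup.subset_closure ⟨A, h, hx⟩

omit [Finite G] in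
theorem JJ_le_of {T B : Subgroup G} (h : ∀ A, maxEl T A → A ≤ B) : JJ T ≤ B := by
  rw [JJ, closure_le]
  rintro x ⟨A, hA, hx⟩
  exact h A hA hx

omit [Finite G] in
theorem JJ_le (T : Subgroup G) : JJ T ≤ T := JJ_le_of fun _ hA => hA.1

omit [Finite G] in
theorem maxEl.cj {T A : Subgroup G} (h : maxEl T A) (g : G) : maxEl (H80.cj g T) (H80.cj g A) := by
  refine ⟨cj_mono g h.1, ?_, ?_⟩
  · intro a ha
    have := h.2.1 _ (mem_cj.mp ha)
    calc a * a = g * (g⁻¹ * a * g * (g⁻¹ * a * g)) * g⁻¹ := by group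
      _ = 1 := by rw [this]; group
  · intro B hB hB2
    rw [card_cj, ← card_cj g⁻¹ B]
    apply h.2.2
    · rw [cj_le_iff, inv_inv]; exact hB
    · intro b hb
      have := hB2 _ (by rw [mem_cj, inv_inv] at hb; exact hb)
      calc b * b = g⁻¹ * (g * b * g⁻¹ * (g * b * g⁻¹)) * g := by group
        _ = 1 := by rw [this]; group

omit [Finite G] in
theorem JJ_cj_le (T : Subgroup G) (g : G) : cj g (JJ T) ≤ JJ (cj g T) := by
  rw [cj_le_iff]
  apply JJ_le_of
  intro A hA
  rw [← cj_le_iff]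
  exact (hA.cj g).le_JJ

omit [Finite G] in
theorem JJ_cj (T : Subgroup G) (g : G) : JJ (cj g T) = cj g (JJ T) := by
  apply le_antisymm _ (JJ_cj_le T g)
  have := JJ_cj_le (cj g T) g⁻¹
  rw [cj_inv_cj, cj_le_iff, inv_inv] at this
  exact this

omit [Finite G] in
theorem normalizer_le_JJ (T : Subgroup G) : normalizer (T : Set G) ≤ normalizer (JJ T : Set G) := by
  intro x hx
  rw [mem_normalizer_iff_cj, ← JJ_cj, mem_normalizer_iff_cj.mp hx]

omit [Finite G] in
theorem normalizer_le_Om (T : Subgroup G) : normalizer (T : Set G) ≤ normalizer (Om T : Set G) := by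
  intro x hx
  rw [mem_normalizer_iff_cj, ← Om_cj, mem_normalizer_iff_cj.mp hx]

theorem exists_maxEl (T : Subgroup G) : ∃ A, maxEl T A := by
  classical
  obtain ⟨A, hA1, hA2⟩ := Set.exists_max_image {A : Subgroup G | A ≤ T ∧ ∀ a ∈ A, a * a = 1}
    (fun A => Nat.card A) (Set.toFinite _) ⟨⊥, bot_le, fun a ha => by
      rw [Subgroup.mem_bot.mp ha, mul_one]⟩
  exact ⟨A, hA1.1, hA1.2, fun B hB hB2 => hA2 B ⟨hB, hB2⟩⟩

omit [Finite G] in
/-- if all maximal elementary subgroups of `T` lie in `C ≤ T`, the Thompson subgroups agree -/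
theorem JJ_eq_of {T C : Subgroup G} (hC : C ≤ T) (h : ∀ A, maxEl T A → A ≤ C) (hex : ∃ A, maxEl T A) :
    JJ T = JJ C := by
  have key : ∀ A, maxEl T A ↔ maxEl C A := by
    intro A
    constructor
    · intro hA
      exact ⟨h A hA, hA.2.1, fun B hB hB2 => hA.2.2 B (hB.trans hC) hB2⟩
    · intro hA
      obtain ⟨A', hA'⟩ := hex
      refine ⟨hA.1.trans hC, hA.2.1, fun B hB hB2 => ?_⟩
      exact (hA'.2.2 B hB hB2).trans (hA.2.2 A' (h A' hA') hA'.2.1)
  unfold JJ
  congr 1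
  ext x
  constructor
  · rintro ⟨A, hA, hx⟩; exact ⟨A, (key A).mp hA, hx⟩
  · rintro ⟨A, hA, hx⟩; exact ⟨A, (key A).mpr hA, hx⟩

/-- the vertex attached to a local subgroup -/
def VL (T L : Subgroup G) : Subgroup G := closure {x | ∃ l ∈ L, ∃ z ∈ Om T, x = l * z * l⁻¹}

omit [Finite G] in
theorem Om_le_VL (T L : Subgroup G) : Om T ≤ VL T L := fun z hz =>
  Subgroup.subset_closure ⟨1, L.one_mem, z, hz, by group⟩

omit [Finite G] in
theorem VL_le {T L N : Subgroup G} (h1 : Om T ≤ N) (h2 : L ≤ normalizer (N : Set G)) : VL T L ≤ N := by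
  rw [VL, closure_le]
  rintro _ ⟨l, hl, z, hz, rfl⟩
  exact (mem_normalizer_iff_conj.mp (h2 hl) z).mp (h1 hz)

omit [Finite G] in
theorem le_normalizer_VL (T L : Subgroup G) : L ≤ normalizer (VL T L : Set G) := by
  apply le_normalizer_of
  intro x hx r hr
  have h8 : VL T L ≤ cj x⁻¹ (VL T L) := by
    conv_lhs => rw [VL]
    rw [closure_le]
    rintro _ ⟨l, hl, z, hz, rfl⟩
    rw [SetLike.mem_coe, mem_cj, inv_inv]
    apply Subgroup.subset_closure
    exact ⟨x * l, mul_mem hx hl, z, hz, by group⟩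
  have h11 := mem_cj.mp (h8 hr)
  rwa [inv_inv] at h11

theorem centralizer_le_of_syl (hG : IsCIT G) {R T : Subgroup G} (hR : R ≠ ⊥) (hR2 : IsPGroup 2 R)
    (hT : IsSylowIn 2 T (normalizer (R : Set G))) : centralizer (R : Set G) ≤ T := by
  haveI : Fact (Nat.Prime 2) := ⟨Nat.prime_two⟩
  have hCp : IsPGroup 2 (centralizer (R : Set G)) := hG.centralizer_isPGroup hR hR2
  have h1 : T ≤ normalizer (centralizer (R : Set G) : Set G) :=
    hT.2.1.trans (normalizer_le_normalizer_centralizer R)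
  have h2 : IsPGroup 2 (centralizer (R : Set G) ⊔ T : Subgroup G) := hCp.to_sup_of_normal_left' hT.1 h1
  have h3 := hT.2.2 _ h2 (sup_le (centralizer_le_normalizer' R) hT.2.1) le_sup_right
  rw [← h3]; exact le_sup_left

section VL
variable {T R : Subgroup G}

theorem VL_le_Om (hG : IsCIT G) (hR : R ≠ ⊥) (hRT : R ≤ T) (hT : IsSylowIn 2 T (normalizer (R : Set G))) :
    VL T (normalizer (R : Set G)) ≤ Om (centralizer (R : Set G)) := by
  have hCT := centralizer_le_of_syl hG hR (hT.1.to_le hRT) hT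
  apply VL_le
  · intro z hz
    refine ⟨mem_centralizer_iff.mpr fun r hr => hz.2.2 r (hRT hr), hz.2.1, fun c hc => hz.2.2 c (hCT hc)⟩
  · exact (normalizer_le_normalizer_centralizer R).trans (normalizer_le_Om _)

theorem VL_two (hG : IsCIT G) (hR : R ≠ ⊥) (hRT : R ≤ T) (hT : IsSylowIn 2 T (normalizer (R : Set G))) :
    ∀ v ∈ VL T (normalizer (R : Set G)), v * v = 1 := fun _ hv => (VL_le_Om hG hR hRT hT hv).2.1

theorem VL_le_T (hG : IsCIT G) (hR : R ≠ ⊥) (hRT : R ≤ T) (hT : IsSylowIn 2 T (normalizer (R : Set G))) :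
    VL T (normalizer (R : Set G)) ≤ T := fun _ hv =>
  centralizer_le_of_syl hG hR (hT.1.to_le hRT) hT (VL_le_Om hG hR hRT hT hv).1

theorem Om_ne_bot (hT : IsPGroup 2 T) (hne : T ≠ ⊥) : Om T ≠ ⊥ := by
  obtain ⟨z, hz, hz1, hzc⟩ := exists_fixed_of_normalize hT hT hne le_normalizer
  obtain ⟨n, hn⟩ := exists_pow_two hz1 (orderOf_of_isPGroup hT hz)
  intro hb
  have h1 : z ^ n ∈ Om T := by
    refine ⟨pow_mem hz n, ?_, fun t ht => ?_⟩
    · rw [← pow_two, ← hn, pow_orderOf_eq_one]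
    · have : Commute t z := hzc t ht
      exact this.pow_right n
  rw [hb, Subgroup.mem_bot] at h1
  rw [h1, orderOf_one] at hn
  norm_num at hn

theorem VL_ne_bot (hT : IsPGroup 2 T) (hne : T ≠ ⊥) (L : Subgroup G) : VL T L ≠ ⊥ := fun h =>
  Om_ne_bot hT hne (eq_bot_iff.mpr (h ▸ Om_le_VL T L))

theorem VL_vtx (hG : IsCIT G) (hR : R ≠ ⊥) (hRT : R ≤ T) (hT : IsSylowIn 2 T (normalizer (R : Set G)))
    (hT' : IsSylowIn 2 T (normalizer (VL T (normalizer (R : Set G)) : Set G))) :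
    Vtx (VL T (normalizer (R : Set G))) where
  two := VL_two hG hR hRT hT
  ne := VL_ne_bot hT.1 (fun h => hR (eq_bot_iff.mpr (h ▸ hRT))) _
  red := by
    haveI : Fact (Nat.Prime 2) := ⟨Nat.prime_two⟩
    intro N hN1 hN2 hN3
    have h1 : T ≤ normalizer (N : Set G) := hT'.2.1.trans hN2
    have h2 : IsPGroup 2 (N ⊔ T : Subgroup G) := hN3.to_sup_of_normal_left' hT'.1 h1
    have h3 := hT'.2.2 _ h2 (sup_le hN1 hT'.2.1) le_sup_right
    have hNT : N ≤ T := by rw [← h3]; exact le_sup_left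
    have h4 : VL T (normalizer (R : Set G)) ≤ centralizer (N : Set G) := by
      apply VL_le
      · intro z hz
        exact mem_centralizer_iff.mpr fun n hn => hz.2.2 n (hNT hn)
      · exact ((le_normalizer_VL T _).trans hN2).trans (normalizer_le_normalizer_centralizer N)
    intro n hn
    exact mem_centralizer_iff.mpr fun v hv => (mem_centralizer_iff.mp (h4 hv) n hn).symm

/-- the gen property -/
theorem VL_gen {N : Subgroup G} (h1 : Om T ≤ N)
    (h2 : normalizer (VL T (normalizer (R : Set G)) : Set G) ≤ normalizer (N : Set G)) :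
    VL T (normalizer (R : Set G)) ≤ N :=
  VL_le h1 ((le_normalizer_VL T _).trans h2)

theorem VL_ver (hG : IsCIT G) (hR : R ≠ ⊥) (hRT : R ≤ T) (hT : IsSylowIn 2 T (normalizer (R : Set G)))
    (hT' : IsSylowIn 2 T (normalizer (VL T (normalizer (R : Set G)) : Set G)))
    (hnc : ¬ normalizer (VL T (normalizer (R : Set G)) : Set G) ≤ normalizer (T : Set G)) :
    Ver T (VL T (normalizer (R : Set G))) where
  vtx := VL_vtx hG hR hRT hT hT'
  syl := hT'
  om := Om_le_VL T _
  gen := fun _ h1 h2 => VL_gen h1 h2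
  nc := hnc

/-- if the Thompson subgroup is not normal, then the vertex is natural -/
theorem VL_nat (hG : IsCIT G) (hR : R ≠ ⊥) (hRT : R ≤ T) (hT : IsSylowIn 2 T (normalizer (R : Set G)))
    (hT' : IsSylowIn 2 T (normalizer (VL T (normalizer (R : Set G)) : Set G)))
    (hJ : ¬ normalizer (R : Set G) ≤ normalizer (JJ T : Set G)) :
    NatV T (VL T (normalizer (R : Set G))) ∧ Ver T (VL T (normalizer (R : Set G))) ∧
      ∃ A, maxEl T A ∧ T ≤ A ⊔ centralizer (VL T (normalizer (R : Set G)) : Set G) := by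
  set V := VL T (normalizer (R : Set G)) with hV
  have hvtx := VL_vtx hG hR hRT hT hT'
  rw [← hV] at hvtx
  have hCT := centralizer_le_sylowIn hG hvtx hT'
  have h1 : ∃ A, maxEl T A ∧ ¬ A ≤ centralizer (V : Set G) := by
    by_contra hcon
    push Not at hcon
    apply hJ
    rw [JJ_eq_of hCT hcon (exists_maxEl T)]
    exact ((le_normalizer_VL T _).trans (normalizer_le_normalizer_centralizer V)).trans (normalizer_le_JJ _)
  obtain ⟨A, hA, hAC⟩ := h1
  obtain ⟨h2, A', hA', -, h3⟩ := nat_of_J hG hvtx hT' hA hAC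
  refine ⟨h2, ?_, A', hA', h3⟩
  refine VL_ver hG hR hRT hT hT' ?_
  obtain ⟨x, hx, hxT⟩ := h2.ex
  exact fun hh => hxT (hh hx)

end VL

/-- a noncommuting pair of vertices, with `T` Sylow in the normalizer of the squares, is a pair -/
theorem pair_of (hG : IsCIT G) {T W W' : Subgroup G} (h : Ver T W) (h' : Ver T W') (hne : ¬ Cm W W')
    (hS : ∀ R : Subgroup G, R ≠ ⊥ → R ≤ T → normalizer (W : Set G) ≤ normalizer (R : Set G) →
      IsSylowIn 2 T (normalizer (R : Set G))) : Pair T W W' := by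
  obtain ⟨h1, h2⟩ := struct hG h h' hne
  apply h2
  by_contra hb
  apply hne
  have hRT : Sq W ≤ T := (Sq_le W).trans (h.centralizer_le hG)
  have hT := hS (Sq W) hb hRT (normalizer_le_Sq W)
  have h3 := VL_two hG hb hRT hT
  have h4 : W ≤ VL T (normalizer (Sq W : Set G)) :=
    h.gen _ (Om_le_VL T _) ((normalizer_le_Sq W).trans (le_normalizer_VL T _))
  have h5 : W' ≤ VL T (normalizer (Sq W : Set G)) :=
    h'.gen _ (Om_le_VL T _) ((h1 ▸ normalizer_le_Sq W').trans (le_normalizer_VL T _))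
  intro a ha b hb
  exact comm_of_two h3 (h4 ha) (h5 hb)

end Cfsg.Agent.CIT
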