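import Mathlib
import Cfsg.Agent.CIT.Dich

set_option autoImplicit false

/-!
# CIT groups X: the two cases
-/

namespace Cfsg.Agent.CIT

open Subgroup Cfsg.Agent.H80 Cfsg.Agent.H32

variable {G : Type*} [Group G] [Finite G]

theorem Ver.card_of_nat (hG : IsCIT G) {T V : Subgroup G} (h : Ver T V) (h' : NatV T V) :
    Nat.card V = Nat.card (Om T) ^ 2 := by
  rw [h'.card_V, h.inf_eq hG]

/-- Case II -/
theorem caseII (hG : IsCIT G) {S : Subgroup G} (hS : ∀ X : Subgroup G, S ≤ X → IsSylowIn 2 S X)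
    {R1 : Subgroup G} (hR1 : R1 ≠ ⊥) (hR1S : R1 ≤ S) (hSR1 : S ≤ normalizer (R1 : Set G))
    (hJ : ¬ normalizer (R1 : Set G) ≤ normalizer (JJ S : Set G))
    {R2 : Subgroup G} (hR2 : R2 ≠ ⊥) (hR2S : R2 ≤ S) (hSR2 : S ≤ normalizer (R2 : Set G))
    (h12 : ¬ normalizer (R2 : Set G) ≤ normalizer (VL S (normalizer (R1 : Set G)) : Set G)) :
    ∃ W W', Pair S W W' := by
  set V1 := VL S (normalizer (R1 : Set G)) with hV1
  have hR1V1 : normalizer (R1 : Set G) ≤ normalizer (V1 : Set G) := le_normalizer_VL S _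
  have hSV1 : S ≤ normalizer (V1 : Set G) := hSR1.trans hR1V1
  obtain ⟨nat1, ver1, A, hA, hSA⟩ := VL_nat hG hR1 hR1S (hS _ hSR1) (hS _ hSV1) hJ
  rw [← hV1] at nat1 ver1 hSA
  have hfull : ∀ R : Subgroup G, R ≠ ⊥ → R ≤ S → normalizer (V1 : Set G) ≤ normalizer (R : Set G) →
      normalizer (R : Set G) ≤ normalizer (V1 : Set G) := by
    intro R hR hRS hle
    have hSR := hSV1.trans hle
    have hSV : S ≤ normalizer (VL S (normalizer (R : Set G)) : Set G) := hSR.trans (le_normalizer_VL S _)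
    obtain ⟨natR, verR, -⟩ := VL_nat hG hR hRS (hS _ hSR) (hS _ hSV)
      (fun hh => hJ ((hR1V1.trans hle).trans hh))
    have h1 : V1 ≤ VL S (normalizer (R : Set G)) :=
      ver1.gen _ (Om_le_VL S _) (hle.trans (le_normalizer_VL S _))
    have h2 : V1 = VL S (normalizer (R : Set G)) := by
      apply Subgroup.eq_of_le_of_card_ge h1
      rw [verR.card_of_nat hG natR, ver1.card_of_nat hG nat1]
    rw [h2]
    exact le_normalizer_VL S _
  have hcjS : ∀ r ∈ normalizer (S : Set G), cj r S = S := fun r hr => mem_normalizer_iff_cj.mp hr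
  have hpair : ∀ W W' : Subgroup G, Ver S W → Ver S W' → ¬ Cm W W' → ∃ W W', Pair S W W' := by
    intro W W' h1 h2 h3
    exact ⟨W, W', pair_of hG h1 h2 h3 (fun R _ _ hle => hS _ (h1.syl.2.1.trans hle))⟩
  have hverS : ∀ V : Subgroup G, Ver S V → ∀ r ∈ normalizer (S : Set G), Ver S (cj r V) := by
    intro V hV r hr
    have := hV.cj r
    rwa [hcjS r hr] at this
  have hnatS : ∀ V : Subgroup G, NatV S V → ∀ r ∈ normalizer (S : Set G), NatV S (cj r V) := by
    intro V hV r hr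
    have := hV.cj hG r
    rwa [hcjS r hr] at this
  by_cases hNS : normalizer (S : Set G) ≤ normalizer (V1 : Set G)
  swap
  · -- all conjugates of `V1`
    obtain ⟨W, ⟨r, hr, rfl⟩, W', ⟨r', hr', rfl⟩, -, -, hne⟩ := amalgam hG (T := S)
      {W | ∃ r ∈ normalizer (S : Set G), W = cj r V1} (W0 := V1) ⟨1, one_mem _, (cj_one _).symm⟩
      (by rintro _ ⟨r, hr, rfl⟩; exact hverS V1 ver1 r hr)
      (by
        rintro n hn _ ⟨r, hr, rfl⟩
        exact ⟨n * r, mul_mem hn hr, (cj_mul _ _ _).symm⟩)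
      (by
        rintro _ - _ ⟨r, hr, rfl⟩ - hh
        exact absurd (hnatS V1 nat1 r hr) hh)
      (by
        intro R hR hRS hle hle'
        apply hNS
        exact hle'.trans (hfull R hR hRS (hle V1 ⟨1, one_mem _, (cj_one _).symm⟩)))
    exact hpair _ _ (hverS V1 ver1 r hr) (hverS V1 ver1 r' hr') hne
  · set V2 := VL S (normalizer (R2 : Set G)) with hV2
    have hR2V2 : normalizer (R2 : Set G) ≤ normalizer (V2 : Set G) := le_normalizer_VL S _
    have hSV2 : S ≤ normalizer (V2 : Set G) := hSR2.trans hR2V2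
    have ver2 : Ver S V2 := by
      apply VL_ver hG hR2 hR2S (hS _ hSR2) (hS _ hSV2)
      intro hh
      apply h12
      exact (hR2V2.trans hh).trans hNS
    have h21 : ¬ normalizer (V2 : Set G) ≤ normalizer (V1 : Set G) := fun hh => h12 (hR2V2.trans hh)
    obtain ⟨W, hW, W', hW', -, -, hne⟩ := amalgam hG (T := S)
      {W | ∃ r ∈ normalizer (S : Set G), W = cj r V1 ∨ W = cj r V2} (W0 := V1)
      ⟨1, one_mem _, Or.inl (cj_one _).symm⟩
      (by
        rintro _ ⟨r, hr, rfl | rfl⟩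
        · exact hverS V1 ver1 r hr
        · exact hverS V2 ver2 r hr)
      (by
        rintro n hn _ ⟨r, hr, rfl | rfl⟩
        · exact ⟨n * r, mul_mem hn hr, Or.inl (cj_mul _ _ _).symm⟩
        · exact ⟨n * r, mul_mem hn hr, Or.inr (cj_mul _ _ _).symm⟩)
      (by
        rintro _ ⟨r, hr, hWr⟩ _ ⟨r', hr', hWr'⟩ hnat hnnat
        rcases hWr' with rfl | rfl
        · exact absurd (hnatS V1 nat1 r' hr') hnnat
        rcases hWr with rfl | rfl
        · have e1 : cj r V1 = V1 := mem_normalizer_iff_cj.mp (hNS hr)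
          rw [e1]
          refine ⟨fun y hy hy2 hyc => omega_center_of_J hG nat1 hA hSA hy hy2 hyc, ?_⟩
          intro hle
          have h3 : cj r' V2 ≠ ⊥ := (hverS V2 ver2 r' hr').vtx.ne
          have h4 : cj r' V2 ≤ S := (hverS V2 ver2 r' hr').le hG
          have h5 := hfull _ h3 h4 hle
          apply h21
          rw [normalizer_cj, cj_le_iff] at h5
          have h6 : cj r'⁻¹ (normalizer (V1 : Set G)) = normalizer (V1 : Set G) :=
            cj_self_of_mem (inv_mem (hNS hr'))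
          rw [h6] at h5
          exact h5
        · exfalso
          apply hnnat
          have h7 := hnatS _ hnat (r' * r⁻¹) (mul_mem hr' (inv_mem hr))
          rwa [cj_mul, cj_inv_cj] at h7)
      (by
        intro R hR hRS hle hle'
        apply h21
        exact (hle V2 ⟨1, one_mem _, Or.inr (cj_one _).symm⟩).trans
          (hfull R hR hRS (hle V1 ⟨1, one_mem _, Or.inl (cj_one _).symm⟩)))
    have hWver : Ver S W := by
      obtain ⟨r, hr, rfl | rfl⟩ := hW
      · exact hverS V1 ver1 r hr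
      · exact hverS V2 ver2 r hr
    have hWver' : Ver S W' := by
      obtain ⟨r, hr, rfl | rfl⟩ := hW'
      · exact hverS V1 ver1 r hr
      · exact hverS V2 ver2 r hr
    exact hpair _ _ hWver hWver' hne

/-- Case I -/
theorem caseI (hG : IsCIT G) {S M : Subgroup G} (hSyl : IsSylowIn 2 S M)
    (hM : ∀ R : Subgroup G, R ≠ ⊥ → R ≤ S → S ≤ normalizer (R : Set G) → normalizer (R : Set G) ≤ M)
    (hex : ∃ R : Subgroup G, R ≠ ⊥ ∧ IsPGroup 2 R ∧ R ≤ M ∧ ¬ normalizer (R : Set G) ≤ M) :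
    ∃ T W W', T ≤ S ∧ Pair T W W' := by
  classical
  haveI : Fact (Nat.Prime 2) := ⟨Nat.prime_two⟩
  obtain ⟨R, hR, hR2, hRM, hRN⟩ := hex
  let 𝒳 : Set (Subgroup G) := {T' | IsPGroup 2 T' ∧ T' ≤ M ∧ ∃ C : Subgroup G, C ≠ ⊥ ∧ C ≤ T' ∧
    T' ≤ normalizer (C : Set G) ∧ ¬ normalizer (C : Set G) ≤ M}
  obtain ⟨T0, ⟨hT0p, hT0M, C0, hC0, hC0T, hTC0, hNC0⟩, hmax⟩ := Set.exists_max_image 𝒳
    (fun A => Nat.card A) (Set.toFinite _) ⟨R, hR2, hRM, R, hR, le_rfl, le_normalizer, hRN⟩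
  obtain ⟨k, hk, hkS⟩ := hSyl.exists_conj_le hT0p hT0M
  set T := cj k T0 with hT
  set C := cj k C0 with hC
  have hTp : IsPGroup 2 T := isPGroup_cj hT0p k
  have hSM := hSyl.2.1
  have hTM : T ≤ M := hkS.trans hSM
  have hCne : C ≠ ⊥ := by
    intro hh
    apply hC0
    have := congrArg (cj k⁻¹) hh
    rw [hC, cj_inv_cj] at this
    rw [this, eq_bot_iff, cj_le_iff]
    exact bot_le
  have hCT : C ≤ T := cj_mono k hC0T
  have hTC : T ≤ normalizer (C : Set G) := by
    rw [hC, normalizer_cj]; exact cj_mono k hTC0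
  have hNC : ¬ normalizer (C : Set G) ≤ M := by
    intro hh
    apply hNC0
    rw [hC, normalizer_cj, cj_le_iff, cj_self_of_mem (inv_mem hk)] at hh
    exact hh
  have hstar : ∀ C' X : Subgroup G, C' ≠ ⊥ → IsPGroup 2 X → X ≤ M → C' ≤ X → X ≤ normalizer (C' : Set G) →
      Nat.card T < Nat.card X → normalizer (C' : Set G) ≤ M := by
    intro C' X h1 h2 h3 h4 h5 h6
    by_contra h7
    have := hmax X ⟨h2, h3, C', h1, h4, h5, h7⟩
    rw [hT, card_cj] at h6
    exact absurd h6 (not_lt.mpr this)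
  have hTS : T < S := by
    apply lt_of_le_of_ne hkS
    intro hh
    apply hNC
    exact hM C hCne (hh ▸ hCT) (hh ▸ hTC)
  obtain ⟨g, hgS, hgT, hgN⟩ := exists_mem_normalizer_of_lt hSyl.1 hTS
  set X := S ⊓ normalizer (T : Set G) with hX
  have hTX : T < X := by
    apply lt_of_le_of_ne (le_inf hTS.le le_normalizer)
    intro hh
    apply hgT
    rw [hh]; exact ⟨hgS, hgN⟩
  have hXp : IsPGroup 2 X := hSyl.1.to_le inf_le_left
  have hXM : X ≤ M := inf_le_left.trans hSM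
  have hXN : X ≤ normalizer (T : Set G) := inf_le_right
  have hcard : ∀ {A B : Subgroup G}, A < B → Nat.card A < Nat.card B := by
    intro A B h
    apply lt_of_le_of_ne (Subgroup.card_le_of_le h.le)
    intro hh
    exact h.ne (Subgroup.eq_of_le_of_card_ge h.le hh.ge)
  have hTne : T ≠ ⊥ := fun hh => hCne (eq_bot_iff.mpr (hh ▸ hCT))
  have hNT : normalizer (T : Set G) ≤ M := hstar T X hTne hXp hXM hTX.le hXN (hcard hTX)
  have hJne : JJ T ≠ ⊥ := by
    intro hh
    obtain ⟨A, hA⟩ := exists_maxEl T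
    have h1 : A = ⊥ := eq_bot_iff.mpr (hh ▸ hA.le_JJ)
    have h2 := hA.2.2 (Om T) (fun z hz => hz.1) (fun z hz => hz.2.1)
    rw [h1, Subgroup.card_bot] at h2
    exact Om_ne_bot hTp hTne (Subgroup.eq_bot_of_card_le _ h2)
  have hNJ : normalizer (JJ T : Set G) ≤ M :=
    hstar (JJ T) X hJne hXp hXM ((JJ_le T).trans hTX.le) (hXN.trans (normalizer_le_JJ T)) (hcard hTX)
  have hsyl : ∀ C' : Subgroup G, C' ≠ ⊥ → C' ≤ T → T ≤ normalizer (C' : Set G) →
      ¬ normalizer (C' : Set G) ≤ M → IsSylowIn 2 T (normalizer (C' : Set G)) := by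
    intro C' h1 h2 h3 h4
    refine ⟨hTp, h3, fun D hD hDN hTD => ?_⟩
    by_contra hne
    have hlt : T < D := lt_of_le_of_ne hTD (Ne.symm hne)
    obtain ⟨x, hxD, hxT, hxN⟩ := exists_mem_normalizer_of_lt hD hlt
    apply h4
    have hlt' : T < D ⊓ normalizer (T : Set G) := by
      apply lt_of_le_of_ne (le_inf hTD le_normalizer)
      intro hh
      apply hxT
      rw [hh]; exact ⟨hxD, hxN⟩
    exact hstar C' (D ⊓ normalizer (T : Set G)) h1 (hD.to_le inf_le_left) (inf_le_right.trans hNT)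
      (h2.trans hlt'.le) (inf_le_left.trans hDN) (hcard hlt')
  have hSylC := hsyl C hCne hCT hTC hNC
  set V1 := VL T (normalizer (C : Set G)) with hV1
  have hCV1 : normalizer (C : Set G) ≤ normalizer (V1 : Set G) := le_normalizer_VL T _
  have hV1M : ¬ normalizer (V1 : Set G) ≤ M := fun hh => hNC (hCV1.trans hh)
  have hSylV : IsSylowIn 2 T (normalizer (V1 : Set G)) :=
    hsyl V1 (VL_ne_bot hTp hTne _) (VL_le_T hG hCne hCT hSylC) (hTC.trans hCV1) hV1M
  obtain ⟨nat1, ver1, -⟩ := VL_nat hG hCne hCT hSylC hSylV (fun hh => hNC (hh.trans hNJ))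
  rw [← hV1] at nat1 ver1
  have hcjT : ∀ r ∈ normalizer (T : Set G), cj r T = T := fun r hr => mem_normalizer_iff_cj.mp hr
  have hverT : ∀ r ∈ normalizer (T : Set G), Ver T (cj r V1) := by
    intro r hr
    have := ver1.cj r
    rwa [hcjT r hr] at this
  have hnatT : ∀ r ∈ normalizer (T : Set G), NatV T (cj r V1) := by
    intro r hr
    have := nat1.cj hG r
    rwa [hcjT r hr] at this
  obtain ⟨W, ⟨r, hr, rfl⟩, W', ⟨r', hr', rfl⟩, -, -, hne⟩ := amalgam hG (T := T)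
    {W | ∃ r ∈ normalizer (T : Set G), W = cj r V1} (W0 := V1) ⟨1, one_mem _, (cj_one _).symm⟩
    (by rintro _ ⟨r, hr, rfl⟩; exact hverT r hr)
    (by
      rintro n hn _ ⟨r, hr, rfl⟩
      exact ⟨n * r, mul_mem hn hr, (cj_mul _ _ _).symm⟩)
    (by
      rintro _ - _ ⟨r, hr, rfl⟩ - hh
      exact absurd (hnatT r hr) hh)
    (by
      intro R hR hRT hle hle'
      apply hV1M
      exact (hle V1 ⟨1, one_mem _, (cj_one _).symm⟩).trans
        (hstar R X hR hXp hXM (hRT.trans hTX.le) (hXN.trans hle') (hcard hTX)))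
  refine ⟨T, _, _, hTS.le, pair_of hG (hverT r hr) (hverT r' hr') hne ?_⟩
  intro R hR hRT hle
  apply hsyl R hR hRT ((hverT r hr).syl.2.1.trans hle)
  intro hh
  apply hV1M
  have h1 := hle.trans hh
  rw [normalizer_cj, cj_le_iff, cj_self_of_mem (inv_mem (hNT hr))] at h1
  exact h1

/-- the dichotomy: a strongly embedded 2-local subgroup, or a pair -/
theorem dich (hG : IsCIT G) (S : Sylow 2 G) (hne : (S : Subgroup G) ≠ ⊥) :
    (∃ Q : Subgroup G, Q ≠ ⊥ ∧ Q ≤ (S : Subgroup G) ∧ (S : Subgroup G) ≤ normalizer (Q : Set G) ∧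
      ∀ R : Subgroup G, R ≠ ⊥ → IsPGroup 2 R → R ≤ normalizer (Q : Set G) →
        normalizer (R : Set G) ≤ normalizer (Q : Set G)) ∨
    ∃ T W W', T ≤ (S : Subgroup G) ∧ Pair T W W' := by
  have hS : ∀ X : Subgroup G, (S : Subgroup G) ≤ X → IsSylowIn 2 (S : Subgroup G) X :=
    fun X hX => isSylowIn_of_le S hX
  have key : ∀ Q : Subgroup G, Q ≠ ⊥ → Q ≤ (S : Subgroup G) → (S : Subgroup G) ≤ normalizer (Q : Set G) →
      (∀ R : Subgroup G, R ≠ ⊥ → R ≤ (S : Subgroup G) → (S : Subgroup G) ≤ normalizer (R : Set G) →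
        normalizer (R : Set G) ≤ normalizer (Q : Set G)) →
      (∃ Q : Subgroup G, Q ≠ ⊥ ∧ Q ≤ (S : Subgroup G) ∧ (S : Subgroup G) ≤ normalizer (Q : Set G) ∧
        ∀ R : Subgroup G, R ≠ ⊥ → IsPGroup 2 R → R ≤ normalizer (Q : Set G) →
          normalizer (R : Set G) ≤ normalizer (Q : Set G)) ∨
      ∃ T W W', T ≤ (S : Subgroup G) ∧ Pair T W W' := by
    intro Q hQ hQS hSQ hM
    by_cases hex : ∃ R : Subgroup G, R ≠ ⊥ ∧ IsPGroup 2 R ∧ R ≤ normalizer (Q : Set G) ∧
        ¬ normalizer (R : Set G) ≤ normalizer (Q : Set G)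
    · right
      exact caseI hG (hS _ hSQ) hM hex
    · left
      push Not at hex
      exact ⟨Q, hQ, hQS, hSQ, hex⟩
  have hJne : JJ (S : Subgroup G) ≠ ⊥ := by
    intro hh
    obtain ⟨A, hA⟩ := exists_maxEl (S : Subgroup G)
    have h1 : A = ⊥ := eq_bot_iff.mpr (hh ▸ hA.le_JJ)
    have h2 := hA.2.2 (Om (S : Subgroup G)) (fun z hz => hz.1) (fun z hz => hz.2.1)
    rw [h1, Subgroup.card_bot] at h2
    exact Om_ne_bot S.2 hne (Subgroup.eq_bot_of_card_le _ h2)
  by_cases hα : ∀ R : Subgroup G, R ≠ ⊥ → R ≤ (S : Subgroup G) → (S : Subgroup G) ≤ normalizer (R : Set G) →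
      normalizer (R : Set G) ≤ normalizer (JJ (S : Subgroup G) : Set G)
  · exact key _ hJne (JJ_le _) (le_normalizer.trans (normalizer_le_JJ _)) hα
  · push Not at hα
    obtain ⟨R1, hR1, hR1S, hSR1, hJ⟩ := hα
    have hSV1 := hSR1.trans (le_normalizer_VL (S : Subgroup G) (normalizer (R1 : Set G)))
    by_cases hβ : ∀ R : Subgroup G, R ≠ ⊥ → R ≤ (S : Subgroup G) → (S : Subgroup G) ≤ normalizer (R : Set G) →
        normalizer (R : Set G) ≤ normalizer (VL (S : Subgroup G) (normalizer (R1 : Set G)) : Set G)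
    · exact key _ (VL_ne_bot S.2 hne _) (VL_le_T hG hR1 hR1S (hS _ hSR1)) hSV1 hβ
    · push Not at hβ
      obtain ⟨R2, hR2, hR2S, hSR2, h12⟩ := hβ
      right
      obtain ⟨W, W', h⟩ := caseII hG hS hR1 hR1S hSR1 hJ hR2 hR2S hSR2 h12
      exact ⟨S, W, W', le_rfl, h⟩

end Cfsg.Agent.CIT
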