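import Mathlib

set_option autoImplicit false

/-!
# The norm trick for Frobenius groups `E⟨y⟩` acting with `1 + g + ... + g^(l-1) = 0` for `g` outside `E`
-/

namespace Cfsg.Agent.CIT.NormTr

open Finset

/-- a map of `E` -/
theorem shift_bij {K : Type*} [Group K] {E : Subgroup K} [Finite E] (hE : ∀ a ∈ E, ∀ b ∈ E, a * b = b * a)
    {g : K} (hg : ∀ e ∈ E, g * e * g⁻¹ ∈ E) (hfix : ∀ e ∈ E, g * e * g⁻¹ = e → e = 1) :
    Function.Bijective (fun e : E => (⟨e.1 * (g * e.1⁻¹ * g⁻¹), mul_mem e.2 (hg _ (inv_mem e.2))⟩ : E)) := by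
  rw [← Finite.injective_iff_bijective]
  intro a b hab
  have h1 : a.1 * (g * a.1⁻¹ * g⁻¹) = b.1 * (g * b.1⁻¹ * g⁻¹) := congrArg Subtype.val hab
  have h2 : g * (b.1⁻¹ * a.1) * g⁻¹ = b.1⁻¹ * a.1 := by
    have h3 : b.1⁻¹ * a.1 = (g * b.1⁻¹ * g⁻¹) * (g * a.1⁻¹ * g⁻¹)⁻¹ := by
      rw [eq_mul_inv_iff_mul_eq, mul_assoc, h1, inv_mul_cancel_left]
    rw [h3]
    calc g * (g * b.1⁻¹ * g⁻¹ * (g * a.1⁻¹ * g⁻¹)⁻¹) * g⁻¹
        = g * (b.1⁻¹ * a.1) * g⁻¹ := by rw [← h3]
      _ = g * b.1⁻¹ * g⁻¹ * (g * a.1⁻¹ * g⁻¹)⁻¹ := by group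
  have h3 := hfix _ (mul_mem (inv_mem b.2) a.2) h2
  exact Subtype.ext (inv_mul_eq_one.1 h3).symm

/-- the abelian case -/
theorem abel {K A : Type*} [Group K] [CommGroup A] {E : Subgroup K} [Finite E]
    (hE : ∀ a ∈ E, ∀ b ∈ E, a * b = b * a) {y : K} (hy : ∀ (i : ℕ), ∀ e ∈ E, y ^ i * e * (y ^ i)⁻¹ ∈ E)
    {l : ℕ} (hl : 0 < l) (hfix : ∀ i, 0 < i → i < l → ∀ e ∈ E, y ^ i * e * (y ^ i)⁻¹ = e → e = 1)
    (φ : K →* MulAut A) (hA : ∀ a : A, a ^ Nat.card E = 1 → a = 1)
    (H : ∀ a : A, ∀ e ∈ E, ∏ i ∈ range l, φ ((e * y * e⁻¹) ^ i) a = 1) :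
    ∀ e ∈ E, ∀ a : A, φ e a = a := by
  classical
  haveI : Fintype E := Fintype.ofFinite E
  have hc : Nat.card E = Fintype.card E := Nat.card_eq_fintype_card
  -- the trace
  set T : A → A := fun a => ∏ e : E, φ e.1 a with hT
  have hTinv : ∀ e ∈ E, ∀ a, φ e (T a) = T a := by
    intro e he a
    rw [hT]
    simp only [map_prod]
    rw [← Equiv.prod_comp (Equiv.mulLeft (⟨e, he⟩ : E)) (fun x : E => φ x.1 a)]
    refine prod_congr rfl fun x _ => ?_
    simp only [Equiv.coe_mulLeft, Subgroup.coe_mul, map_mul, MulAut.mul_apply]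
  have hmid : ∀ i, 0 < i → i < l → ∀ a, ∏ e : E, φ ((e.1 * y * e.1⁻¹) ^ i) a = T (φ (y ^ i) a) := by
    intro i hi hil a
    have hb := shift_bij hE (hy i) (hfix i hi hil)
    change _ = ∏ e : E, φ e.1 (φ (y ^ i) a)
    rw [← (Equiv.ofBijective _ hb).prod_comp (fun x : E => φ x.1 (φ (y ^ i) a))]
    refine prod_congr rfl fun x _ => ?_
    simp only [Equiv.ofBijective_apply]
    rw [← MulAut.mul_apply, ← map_mul]
    congr 1
    congr 1
    rw [conj_pow]
    group
  have hkey : ∀ a, a ^ Fintype.card E * ∏ i ∈ (range l).erase 0, T (φ (y ^ i) a) = 1 := by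
    intro a
    have h1 : ∏ e : E, ∏ i ∈ range l, φ ((e.1 * y * e.1⁻¹) ^ i) a = 1 :=
      prod_eq_one fun e _ => H a e.1 e.2
    rw [prod_comm, ← mul_prod_erase (range l) _ (mem_range.2 hl)] at h1
    have h2 : ∏ e : E, φ ((e.1 * y * e.1⁻¹) ^ 0) a = a ^ Fintype.card E := by
      simp [Finset.card_univ]
    rw [h2] at h1
    rw [← h1]
    congr 1
    refine prod_congr rfl fun i hi => ?_
    rw [mem_erase, mem_range] at hi
    exact (hmid i (Nat.pos_of_ne_zero hi.1) hi.2 a).symm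
  intro e he a
  have h1 : φ e (a ^ Fintype.card E) = a ^ Fintype.card E := by
    have h2 := hkey a
    rw [mul_eq_one_iff_eq_inv] at h2
    rw [h2, map_inv, map_prod]
    congr 1
    exact prod_congr rfl fun i _ => hTinv e he _
  have h2 : (φ e a * a⁻¹) ^ Nat.card E = 1 := by
    rw [hc, mul_pow, ← map_pow, h1, inv_pow, mul_inv_cancel]
  exact mul_inv_eq_one.1 (hA _ h2)

/-- the power of a product -/
theorem mul_pow_eq {Γ A : Type*} [Group Γ] [CommGroup A] (φ : Γ →* MulAut A) (ι : A →* Γ)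
    (hι : ∀ (g : Γ) (a : A), ι (φ g a) = g * ι a * g⁻¹) (x : A) (g : Γ) (n : ℕ) :
    (ι x * g) ^ n = ι (∏ i ∈ range n, φ (g ^ i) x) * g ^ n := by
  induction n with
  | zero => simp
  | succ n ih =>
    rw [pow_succ, ih, prod_range_succ, map_mul, hι]
    group

/-- The general case. -/
theorem gen {K : Type*} [Group K] {E : Subgroup K} [Finite E]
    (hE : ∀ a ∈ E, ∀ b ∈ E, a * b = b * a) {y : K} (hy : ∀ (i : ℕ), ∀ e ∈ E, y ^ i * e * (y ^ i)⁻¹ ∈ E)
    {l : ℕ} (hl : 0 < l) (hfix : ∀ i, 0 < i → i < l → ∀ e ∈ E, y ^ i * e * (y ^ i)⁻¹ = e → e = 1)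
    {p : ℕ} [Fact p.Prime] (hc : (Nat.card E).Coprime p) :
    ∀ (n : ℕ) {Γ : Type*} [Group Γ] [Finite Γ] (f : K →* Γ) (X : Subgroup Γ) [X.Normal] (_ : IsPGroup p X)
      (_ : Nat.card X ≤ n)
      (_ : ∀ x ∈ X, ∀ e ∈ E, (x * f (e * y * e⁻¹)) ^ l = 1), ∀ e ∈ E, ∀ x ∈ X, f e * x * (f e)⁻¹ = x := by
  intro n
  induction n with
  | zero =>
    intro Γ _ _ f X _ hX hn
    have := Nat.card_pos (α := X)
    omega
  | succ n ih =>
    intro Γ _ _ f X _ hX hn H
    rcases eq_or_ne X ⊥ with rfl | hX1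
    · intro e _ x hx
      rw [Subgroup.mem_bot] at hx
      subst hx
      simp
    -- the centre
    set Z : Subgroup Γ := (Subgroup.center X).map X.subtype with hZ
    haveI hZn : Z.Normal := by
      rw [hZ]; infer_instance
    have hZc : ∀ a b : Z, a * b = b * a := by
      have : IsMulCommutative Z := by rw [hZ]; infer_instance
      exact fun a b => mul_comm' a b
    letI cg : CommGroup Z := { (inferInstance : Group Z) with mul_comm := hZc }
    have hZX : Z ≤ X := Subgroup.map_subtype_le _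
    have hZ1 : Z ≠ ⊥ := by
      intro h
      haveI : Nontrivial X := (Subgroup.nontrivial_iff_ne_bot X).2 hX1
      have h1 := hX.bot_lt_center
      rw [hZ, (Subgroup.map_eq_bot_iff_of_injective _ X.subtype_injective)] at h
      exact h1.ne' h
    have hZp : IsPGroup p Z := hX.to_le hZX
    -- coprime
    have hcop : ∀ z ∈ X, z ^ Nat.card E = 1 → z = 1 := by
      intro z hz h
      obtain ⟨k, hk⟩ := hX ⟨z, hz⟩
      have h1 : z ^ p ^ k = 1 := congrArg Subtype.val hk
      have h2 := orderOf_dvd_of_pow_eq_one h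
      have h3 := orderOf_dvd_of_pow_eq_one h1
      have h4 : (Nat.card E).Coprime (p ^ k) := hc.pow_right k
      exact orderOf_eq_one_iff.1 (Nat.eq_one_of_dvd_coprimes h4 h2 h3)
    have hyl : ∀ e ∈ E, (f (e * y * e⁻¹)) ^ l = 1 := by
      intro e he
      have := H 1 (one_mem _) e he
      rwa [one_mul] at this
    have hZf : ∀ e ∈ E, ∀ z ∈ Z, f e * z * (f e)⁻¹ = z := by
      have h1 := abel (A := Z) hE hy hl hfix ((MulAut.conjNormal (H := Z)).comp f) (by
        intro a ha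
        apply Subtype.ext
        exact hcop _ (hZX a.2) (congrArg Subtype.val ha)) (by
        intro a e he
        apply Subtype.ext
        have h2 := mul_pow_eq (MulAut.conjNormal (H := Z)) Z.subtype
          (fun g a => MulAut.conjNormal_apply g a) a (f (e * y * e⁻¹)) l
        rw [Subgroup.subtype_apply, H _ (hZX a.2) e he, hyl e he, mul_one] at h2
        refine Eq.trans ?_ h2.symm
        simp only [MonoidHom.comp_apply, map_pow, Subgroup.subtype_apply])
      intro e he z hz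
      have h2 := congrArg Subtype.val (h1 e he ⟨z, hz⟩)
      rwa [MonoidHom.comp_apply, MulAut.conjNormal_apply] at h2
    -- the quotient
    haveI : (X.map (QuotientGroup.mk' Z)).Normal := Subgroup.Normal.map ‹_› _ (QuotientGroup.mk'_surjective Z)
    have hcard : Nat.card (X.map (QuotientGroup.mk' Z)) ≤ n := by
      have h1 : Nat.card (X.map (QuotientGroup.mk' Z)) * Nat.card Z = Nat.card X := by
        rw [← Subgroup.relIndex_ker, QuotientGroup.ker_mk', Subgroup.relIndex,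
          ← Nat.card_congr (Subgroup.subgroupOfEquivOfLe hZX).toEquiv, mul_comm]
        exact Subgroup.card_mul_index _
      have h2 : 1 < Nat.card Z := by
        rw [Subgroup.one_lt_card_iff_ne_bot]; exact hZ1
      have h3 : 0 < Nat.card (X.map (QuotientGroup.mk' Z)) := Nat.card_pos
      nlinarith
    have h1 := ih ((QuotientGroup.mk' Z).comp f) (X.map (QuotientGroup.mk' Z)) (hX.map _) hcard (by
      rintro _ ⟨x, hx, rfl⟩ e he
      rw [MonoidHom.comp_apply, ← map_mul, ← map_pow, H x hx e he, map_one])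
    intro e he x hx
    have h2 := h1 e he _ (Subgroup.mem_map_of_mem _ hx)
    have h3 : f e * x * (f e)⁻¹ * x⁻¹ ∈ Z := by
      rw [← QuotientGroup.eq_one_iff]
      rw [MonoidHom.comp_apply, ← map_inv, ← map_mul, ← map_mul] at h2
      have h4 : (QuotientGroup.mk' Z) (f e * x * (f e)⁻¹ * x⁻¹) = 1 := by
        rw [map_mul, h2, map_inv, mul_inv_cancel]
      exact h4
    set u := f e * x * (f e)⁻¹ * x⁻¹ with hu
    have h4 : ∀ k : ℕ, (f e) ^ k * x * ((f e) ^ k)⁻¹ = u ^ k * x := by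
      intro k
      induction k with
      | zero => simp
      | succ k ihk =>
        have h5 : f e * u ^ k * (f e)⁻¹ = u ^ k := hZf e he _ (pow_mem h3 k)
        have h6 : f e * x * (f e)⁻¹ = u * x := by rw [hu, inv_mul_cancel_right]
        calc (f e) ^ (k + 1) * x * ((f e) ^ (k + 1))⁻¹ = f e * ((f e) ^ k * x * ((f e) ^ k)⁻¹) * (f e)⁻¹ := by
              rw [pow_succ']; group
          _ = (f e * u ^ k * (f e)⁻¹) * (f e * x * (f e)⁻¹) := by rw [ihk]; group
          _ = u ^ k * (u * x) := by rw [h5, h6]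
          _ = u ^ (k + 1) * x := by rw [pow_succ]; exact (mul_assoc _ _ _).symm
    have h5 : (f e) ^ Nat.card E = 1 := by
      rw [← map_pow]
      have : (⟨e, he⟩ : E) ^ Nat.card E = 1 := pow_card_eq_one'
      have h6 : e ^ Nat.card E = 1 := congrArg Subtype.val this
      rw [h6, map_one]
    have h6 := h4 (Nat.card E)
    rw [h5, one_mul, inv_one, mul_one] at h6
    have h7 : u ^ Nat.card E = 1 := by
      have : u ^ Nat.card E * x = 1 * x := by rw [one_mul]; exact h6.symm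
      exact mul_right_cancel this
    have h8 := hcop u (hZX h3) h7
    rw [hu] at h8
    exact mul_inv_eq_one.1 h8

end Cfsg.Agent.CIT.NormTr
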