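import Mathlib
import Cfsg.Agent.CIT.NormTr

set_option autoImplicit false

/-!
# Groups in which centralizers of involutions have exponent `2p` (class (D)), I
-/

namespace Cfsg.Agent.CIT.TwoP

open Subgroup

universe u

/-- 2-elements are involutions, centralizers of involutions and of elements of order `p` have exponent dividing
`2p`. -/
structure DG (G : Type*) [Group G] (p : ℕ) : Prop where
  prime : p.Prime
  ne2 : p ≠ 2
  exp2 : ∀ x : G, (∃ k, x ^ 2 ^ k = 1) → x * x = 1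
  cen2 : ∀ t x : G, orderOf t = 2 → x * t = t * x → orderOf x ∣ 2 * p
  cenp : ∀ y x : G, orderOf y = p → x * y = y * x → orderOf x ∣ 2 * p

theorem mem_of_pow {G : Type*} [Group G] {K : Subgroup G} {x : G} {m n : ℕ} (hmn : Nat.Coprime m n)
    (h1 : x ^ m ∈ K) (h2 : x ^ n ∈ K) : x ∈ K := by
  have h := Nat.gcd_eq_gcd_ab m n
  rw [hmn] at h
  have e : x = (x ^ m) ^ (m.gcdA n) * (x ^ n) ^ (m.gcdB n) := by
    rw [← zpow_natCast x m, ← zpow_natCast x n, ← zpow_mul, ← zpow_mul, ← zpow_add, ← h]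
    simp
  rw [e]
  exact mul_mem (zpow_mem h1 _) (zpow_mem h2 _)

/-- a subgroup containing all elements of prime power order of `⟨g⟩` contains `g` -/
theorem mem_of_pp {G : Type*} [Group G] [Finite G] {H : Subgroup G} : ∀ (n : ℕ) (g : G), orderOf g ≤ n →
    (∀ l : ℕ, l.Prime → ∀ x ∈ zpowers g, (∃ k, x ^ l ^ k = 1) → x ∈ H) → g ∈ H := by
  intro n
  induction n with
  | zero =>
    intro g hg
    have := orderOf_pos g
    omega
  | succ n ih =>
    intro g hg h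
    rcases eq_or_ne (orderOf g) 1 with h1 | h1
    · rw [orderOf_eq_one_iff.1 h1]; exact one_mem _
    obtain ⟨l, hl, hlg⟩ := Nat.exists_prime_and_dvd h1
    obtain ⟨k, m, hm, hk⟩ := Nat.exists_eq_pow_mul_and_not_dvd (orderOf_pos g).ne' l hl.ne_one
    have hmpos : 0 < m := by
      rcases Nat.eq_zero_or_pos m with rfl | h
      · exact absurd (dvd_zero l) hm
      · exact h
    have hk0 : k ≠ 0 := by
      rintro rfl
      rw [pow_zero, one_mul] at hk
      exact hm (hk ▸ hlg)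
    have hcop : Nat.Coprime (l ^ k) m := (Nat.Coprime.pow_left k ((Nat.Prime.coprime_iff_not_dvd hl).2 hm))
    refine mem_of_pow hcop ?_ ?_
    · apply ih
      · rw [orderOf_pow_of_dvd (pow_ne_zero _ hl.ne_zero) (by rw [hk]; exact dvd_mul_right _ _), hk,
          Nat.mul_div_cancel_left _ (pow_pos hl.pos _)]
        have h2 : 2 ≤ l ^ k := by
          calc 2 ≤ l := hl.two_le
            _ = l ^ 1 := (pow_one l).symm
            _ ≤ l ^ k := Nat.pow_le_pow_right hl.pos (Nat.one_le_iff_ne_zero.2 hk0)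
        have h3 : l ^ k * m ≤ n + 1 := hk ▸ hg
        nlinarith
      · intro l' hl' x hx hx'
        exact h l' hl' x (zpowers_le.2 (pow_mem (mem_zpowers g) _) hx) hx'
    · refine h l hl _ (pow_mem (mem_zpowers g) _) ⟨k, ?_⟩
      rw [← pow_mul, mul_comm, ← hk, pow_orderOf_eq_one]

theorem mem_of_pp' {G : Type*} [Group G] [Finite G] {H : Subgroup G} {g : G}
    (h : ∀ l : ℕ, l.Prime → ∀ x ∈ zpowers g, (∃ k, x ^ l ^ k = 1) → x ∈ H) : g ∈ H :=
  mem_of_pp _ g le_rfl h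

variable {G : Type u} [Group G] [Finite G] {p : ℕ}

namespace DG

theorem odd (h : DG G p) : Odd p := h.prime.odd_of_ne_two h.ne2

/-- elements of `p`-power order have order dividing `p` -/
theorem expp (h : DG G p) {x : G} (hx : ∃ k, x ^ p ^ k = 1) : x ^ p = 1 := by
  obtain ⟨k, hk⟩ := hx
  obtain ⟨j, hj, hjx⟩ := (Nat.dvd_prime_pow h.prime).1 (orderOf_dvd_of_pow_eq_one hk)
  rcases Nat.lt_or_ge j 2 with h2 | h2
  · apply orderOf_dvd_iff_pow_eq_one.1
    rw [hjx]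
    calc p ^ j ∣ p ^ 1 := pow_dvd_pow _ (by omega)
      _ = p := pow_one p
  · exfalso
    have h3 : orderOf (x ^ p ^ (j - 1)) = p := by
      rw [orderOf_pow_of_dvd (pow_ne_zero _ h.prime.ne_zero) (by rw [hjx]; exact pow_dvd_pow _ (by omega)), hjx,
        Nat.pow_div (by omega) h.prime.pos]
      have : j - (j - 1) = 1 := by omega
      rw [this, pow_one]
    have h4 := h.cenp _ x h3 ((Commute.refl x).pow_right _).eq
    rw [hjx] at h4
    have h5 : p ^ 2 ∣ 2 * p := (pow_dvd_pow _ h2).trans h4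
    rw [pow_two] at h5
    have h6 := Nat.dvd_of_mul_dvd_mul_right h.prime.pos h5
    exact h.ne2 ((Nat.prime_dvd_prime_iff_eq h.prime Nat.prime_two).1 h6)

theorem pgroup_pow (h : DG G p) {X : Subgroup G} (hX : IsPGroup p X) {x : G} (hx : x ∈ X) : x ^ p = 1 := by
  obtain ⟨k, hk⟩ := hX ⟨x, hx⟩
  exact h.expp ⟨k, congrArg Subtype.val hk⟩

theorem order_of_pow (h : DG G p) {x : G} (hx : x ^ p = 1) (h1 : x ≠ 1) : orderOf x = p := by
  haveI := Fact.mk h.prime
  exact orderOf_eq_prime hx h1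

theorem order_two {x : G} (hx : x * x = 1) (h1 : x ≠ 1) : orderOf x = 2 := by
  haveI := Fact.mk Nat.prime_two
  exact orderOf_eq_prime (by rw [pow_two]; exact hx) h1

/-- an element of prime order `l ≠ 2, p` commutes with no involution -/
theorem no_comm2 (h : DG G p) {l : ℕ} (hl : l.Prime) (h2 : l ≠ 2) (hp : l ≠ p) {y : G} (hy : orderOf y = l) {t : G}
    (ht : t * t = 1) (hc : y * t = t * y) : t = 1 := by
  by_contra h1
  have h3 := h.cen2 t y (order_two ht h1) hc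
  rw [hy] at h3
  rcases (Nat.Prime.dvd_mul hl).1 h3 with h4 | h4
  · exact h2 ((Nat.prime_dvd_prime_iff_eq hl Nat.prime_two).1 h4)
  · exact hp ((Nat.prime_dvd_prime_iff_eq hl h.prime).1 h4)

theorem no_commp (h : DG G p) {l : ℕ} (hl : l.Prime) (h2 : l ≠ 2) (hp : l ≠ p) {y : G} (hy : orderOf y = l) {t : G}
    (ht : t ^ p = 1) (hc : y * t = t * y) : t = 1 := by
  by_contra h1
  have h3 := h.cenp t y (h.order_of_pow ht h1) hc
  rw [hy] at h3
  rcases (Nat.Prime.dvd_mul hl).1 h3 with h4 | h4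
  · exact h2 ((Nat.prime_dvd_prime_iff_eq hl Nat.prime_two).1 h4)
  · exact hp ((Nat.prime_dvd_prime_iff_eq hl h.prime).1 h4)

/-- the hypothesis of the norm lemma -/
theorem xg_pow (h : DG G p) {X : Subgroup G} (hX : IsPGroup p X) {g : G} (hg : g ∈ normalizer (X : Set G))
    {l : ℕ} (hl : l.Prime) (h2 : l ≠ 2) (hgl : orderOf g = l) {x : G} (hx : x ∈ X) : (x * g) ^ l = 1 := by
  rcases eq_or_ne l p with rfl | hp
  · haveI := Fact.mk hl
    have h1 : IsPGroup l (zpowers g) := IsPGroup.of_card (n := 1) (by rw [Nat.card_zpowers, hgl, pow_one])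
    have h3 : IsPGroup l (X ⊔ zpowers g : Subgroup G) :=
      hX.to_sup_of_normal_left' h1 (zpowers_le.2 hg)
    exact h.pgroup_pow h3 (mul_mem (mem_sup_left hx) (mem_sup_right (mem_zpowers g)))
  · have hgX : ∀ u ∈ X, g * u * g⁻¹ ∈ X := fun u hu => (mem_normalizer_iff.1 hg u).1 hu
    have hb : Function.Bijective (fun u : X => (⟨u.1⁻¹ * (g * u.1 * g⁻¹), mul_mem (inv_mem u.2) (hgX _ u.2)⟩ : X)) := by
      rw [← Finite.injective_iff_bijective]
      intro a b hab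
      have h1 : a.1⁻¹ * (g * a.1 * g⁻¹) = b.1⁻¹ * (g * b.1 * g⁻¹) := congrArg Subtype.val hab
      have h3 : g * (a.1 * b.1⁻¹) = (a.1 * b.1⁻¹) * g := by
        have h4 : g * (a.1 * b.1⁻¹) * g⁻¹ = a.1 * b.1⁻¹ := by
          calc g * (a.1 * b.1⁻¹) * g⁻¹ = (g * a.1 * g⁻¹) * (g * b.1 * g⁻¹)⁻¹ := by group
            _ = (a.1 * (b.1⁻¹ * (g * b.1 * g⁻¹))) * (g * b.1 * g⁻¹)⁻¹ := by rw [← h1]; group
            _ = a.1 * b.1⁻¹ := by group
        exact mul_inv_eq_iff_eq_mul.1 h4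
      have h5 := h.no_commp hl h2 hp hgl (h.pgroup_pow hX (mul_mem a.2 (inv_mem b.2))) h3
      exact Subtype.ext (mul_inv_eq_one.1 h5)
    obtain ⟨u, hu⟩ := hb.2 ⟨x, hx⟩
    have h1 : u.1⁻¹ * (g * u.1 * g⁻¹) = x := congrArg Subtype.val hu
    have h3 : x * g = u.1⁻¹ * g * (u.1⁻¹)⁻¹ := by rw [← h1]; group
    rw [h3, conj_pow, ← hgl, pow_orderOf_eq_one, mul_one, mul_inv_cancel]

/-- `[S, y]` centralizes `X`: `S` an elementary abelian 2-group, `y` of odd prime order -/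
theorem comm_prime (h : DG G p) {S X : Subgroup G} (hS : ∀ s ∈ S, s * s = 1) (hX : IsPGroup p X)
    (hSX : S ≤ normalizer (X : Set G)) {y : G} (hyX : y ∈ normalizer (X : Set G)) (hyS : y ∈ normalizer (S : Set G))
    {l : ℕ} (hl : l.Prime) (h2 : l ≠ 2) (hyl : orderOf y = l) :
    ∀ s ∈ S, s * (y * s⁻¹ * y⁻¹) ∈ centralizer (X : Set G) := by
  have hinv : ∀ s ∈ S, s⁻¹ = s := fun s hs => inv_eq_of_mul_eq_one_left (hS s hs)
  have hcomm : ∀ a ∈ S, ∀ b ∈ S, a * b = b * a := by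
    intro a ha b hb
    have h1 := hinv _ (mul_mem ha hb)
    rw [mul_inv_rev, hinv a ha, hinv b hb] at h1
    exact h1.symm
  have hyS' : ∀ s ∈ S, y * s * y⁻¹ ∈ S := fun s hs => (mem_normalizer_iff.1 hyS s).1 hs
  set N := normalizer (X : Set G) with hN
  -- the subgroup `[S, y]` of `N`
  let E : Subgroup N :=
    { carrier := {e | ∃ s ∈ S, (e : G) = s * (y * s⁻¹ * y⁻¹)}
      one_mem' := ⟨1, one_mem _, by simp⟩
      mul_mem' := by
        rintro a b ⟨s, hs, ha⟩ ⟨t, ht, hb⟩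
        refine ⟨s * t, mul_mem hs ht, ?_⟩
        rw [Subgroup.coe_mul, ha, hb, mul_inv_rev]
        have h1 := hcomm _ (hyS' _ (inv_mem hs)) t ht
        have h3 := hcomm _ (hyS' _ (inv_mem hs)) _ (hyS' _ (inv_mem ht))
        calc s * (y * s⁻¹ * y⁻¹) * (t * (y * t⁻¹ * y⁻¹)) = s * ((y * s⁻¹ * y⁻¹) * t) * (y * t⁻¹ * y⁻¹) := by group
          _ = s * t * ((y * s⁻¹ * y⁻¹) * (y * t⁻¹ * y⁻¹)) := by rw [h1]; group
          _ = s * t * ((y * t⁻¹ * y⁻¹) * (y * s⁻¹ * y⁻¹)) := by rw [h3]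
          _ = s * t * (y * (t⁻¹ * s⁻¹) * y⁻¹) := by group
      inv_mem' := by
        rintro a ⟨s, hs, ha⟩
        refine ⟨s⁻¹, inv_mem hs, ?_⟩
        rw [Subgroup.coe_inv, ha, mul_inv_rev, hcomm _ (inv_mem (hyS' _ (inv_mem hs))) _ (inv_mem hs)]
        group }
  have hES : ∀ e ∈ E, (e : G) ∈ S := by
    rintro e ⟨s, hs, he⟩
    rw [he]; exact mul_mem hs (hyS' _ (inv_mem hs))
  haveI := Fact.mk h.prime
  haveI := Fact.mk Nat.prime_two
  have hE2 : IsPGroup 2 E := by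
    intro e
    refine ⟨1, ?_⟩
    apply Subtype.ext
    apply Subtype.ext
    rw [pow_one, pow_two]
    exact hS _ (hES e.1 e.2)
  have hcop : (Nat.card E).Coprime p := by
    obtain ⟨n, hn⟩ := IsPGroup.iff_card.1 hE2
    rw [hn]
    exact Nat.Coprime.pow_left n ((Nat.coprime_primes Nat.prime_two h.prime).2 h.ne2.symm)
  set y' : N := ⟨y, hyX⟩ with hy'
  have hyE : ∀ e ∈ E, y' * e * y'⁻¹ ∈ E := by
    rintro e ⟨s, hs, he⟩
    refine ⟨y * s * y⁻¹, hyS' s hs, ?_⟩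
    rw [Subgroup.coe_mul, Subgroup.coe_mul, he, Subgroup.coe_inv]
    change y * (s * (y * s⁻¹ * y⁻¹)) * y⁻¹ = _
    group
  have hyEi : ∀ (i : ℕ), ∀ e ∈ E, y' ^ i * e * (y' ^ i)⁻¹ ∈ E := by
    intro i
    induction i with
    | zero => intro e he; simpa using he
    | succ i ih =>
      intro e he
      have := hyE _ (ih e he)
      rw [pow_succ']
      have e1 : y' * y' ^ i * e * (y' * y' ^ i)⁻¹ = y' * (y' ^ i * e * (y' ^ i)⁻¹) * y'⁻¹ := by group
      rwa [e1]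
  -- `y` acts fixed point freely on `E`
  have hfix0 : ∀ e ∈ E, y * (e : G) = e * y → e = 1 := by
    rintro e ⟨s, hs, he⟩ hye
    have heS := hES e ⟨s, hs, he⟩
    have h1 : y * s * y⁻¹ = (e : G) * s := by
      have h3 : (e : G)⁻¹ = (y * s * y⁻¹) * s⁻¹ := by rw [he]; group
      rw [hinv _ heS] at h3
      rw [h3]; group
    have h3 : ∀ k : ℕ, y ^ k * s * (y ^ k)⁻¹ = (e : G) ^ k * s := by
      intro k
      induction k with
      | zero => simp
      | succ k ih =>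
        have h4 : y * (e : G) ^ k * y⁻¹ = (e : G) ^ k := by
          have : Commute y (e : G) := hye
          rw [(this.pow_right k).eq, mul_inv_cancel_right]
        calc y ^ (k + 1) * s * (y ^ (k + 1))⁻¹ = y * (y ^ k * s * (y ^ k)⁻¹) * y⁻¹ := by
              rw [pow_succ']; group
          _ = y * (e : G) ^ k * y⁻¹ * (y * s * y⁻¹) := by rw [ih]; group
          _ = (e : G) ^ (k + 1) * s := by rw [h4, h1, pow_succ, mul_assoc]
    have h4 := h3 l
    rw [← hyl, pow_orderOf_eq_one, hyl, one_mul, inv_one, mul_one] at h4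
    have h5 : (e : G) ^ l = 1 := by
      have : (e : G) ^ l * s = 1 * s := by rw [one_mul]; exact h4.symm
      exact mul_right_cancel this
    obtain ⟨m, hm⟩ := hl.odd_of_ne_two h2
    rw [hm, pow_succ, pow_mul, pow_two, hS _ heS, one_pow, one_mul] at h5
    exact Subtype.ext h5
  have hfix : ∀ i, 0 < i → i < l → ∀ e ∈ E, y' ^ i * e * (y' ^ i)⁻¹ = e → e = 1 := by
    intro i hi hil e he hye
    apply hfix0 e he
    have h1 : y ^ i * (e : G) = e * y ^ i := by
      have := congrArg Subtype.val (mul_inv_eq_iff_eq_mul.1 hye)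
      exact this
    have h3 : y ^ i ∈ centralizer ({(e : G)} : Set G) := by
      rw [mem_centralizer_singleton_iff]
      exact h1
    have h4 : y ^ l ∈ centralizer ({(e : G)} : Set G) := by
      rw [← hyl, pow_orderOf_eq_one]; exact one_mem _
    have h5 : Nat.Coprime i l := by
      rw [Nat.coprime_comm, Nat.Prime.coprime_iff_not_dvd hl]
      intro hd
      exact absurd (Nat.le_of_dvd hi hd) (by omega)
    have h6 := mem_of_pow h5 h3 h4
    rw [mem_centralizer_singleton_iff] at h6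
    exact h6
  have key := NormTr.gen (K := N) (E := E) (by
      intro a ha b hb
      exact Subtype.ext (hcomm _ (hES a ha) _ (hES b hb))) hyEi hl.pos hfix hcop (Nat.card (X.subgroupOf N))
      (MonoidHom.id N) (X.subgroupOf N) (hX.comap_subtype) le_rfl (by
      intro x hx e he
      apply Subtype.ext
      have h1 : orderOf ((e : G) * y * (e : G)⁻¹) = l := by
        rw [← hyl]
        exact (MulAut.conj (e : G)).orderOf_eq y
      have h3 := h.xg_pow hX (g := (e : G) * y * (e : G)⁻¹)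
        (mul_mem (mul_mem e.2 hyX) (inv_mem e.2)) hl h2 h1 (mem_subgroupOf.1 hx)
      exact h3)
  intro s hs
  rw [mem_centralizer_iff]
  intro x hx
  have h1 := key ⟨s * (y * s⁻¹ * y⁻¹), mul_mem (hSX hs) (hSX (hyS' _ (inv_mem hs)))⟩ ⟨s, hs, rfl⟩
    ⟨x, le_normalizer hx⟩ (mem_subgroupOf.2 hx)
  have h3 := congrArg Subtype.val (mul_inv_eq_iff_eq_mul.1 h1)
  exact h3.symm

/-- `[S, N(S) ∩ N(X)]` centralizes `X`. -/
theorem comm_all (h : DG G p) {S X : Subgroup G} (hS : ∀ s ∈ S, s * s = 1) (hX : IsPGroup p X)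
    (hSX : S ≤ normalizer (X : Set G)) (hSyl : ∀ x ∈ normalizer (S : Set G), (∃ k, x ^ 2 ^ k = 1) → x ∈ S) {g : G}
    (hgX : g ∈ normalizer (X : Set G)) (hgS : g ∈ normalizer (S : Set G)) :
    ∀ s ∈ S, s * (g * s⁻¹ * g⁻¹) ∈ centralizer (X : Set G) := by
  have hinv : ∀ s ∈ S, s⁻¹ = s := fun s hs => inv_eq_of_mul_eq_one_left (hS s hs)
  have hcomm : ∀ a ∈ S, ∀ b ∈ S, a * b = b * a := by
    intro a ha b hb
    have h1 := hinv _ (mul_mem ha hb)
    rw [mul_inv_rev, hinv a ha, hinv b hb] at h1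
    exact h1.symm
  have hnc : ∀ g ∈ normalizer (X : Set G), ∀ c ∈ centralizer (X : Set G), g * c * g⁻¹ ∈ centralizer (X : Set G) := by
    intro g hg c hc
    rw [mem_centralizer_iff]
    intro x hx
    have h1 : g⁻¹ * x * g ∈ (X : Set G) := by
      have := (mem_normalizer_iff.1 (inv_mem hg) x).1 hx
      rwa [inv_inv] at this
    have h2 := mem_centralizer_iff.1 hc _ h1
    calc x * (g * c * g⁻¹) = g * (g⁻¹ * x * g * c) * g⁻¹ := by group
      _ = g * (c * (g⁻¹ * x * g)) * g⁻¹ := by rw [h2]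
      _ = g * c * g⁻¹ * x := by group
  let H : Subgroup G :=
    { carrier := {g | g ∈ normalizer (X : Set G) ∧ g ∈ normalizer (S : Set G) ∧
        ∀ s ∈ S, s * (g * s⁻¹ * g⁻¹) ∈ centralizer (X : Set G)}
      one_mem' := ⟨one_mem _, one_mem _, fun s _ => by simp [one_mem]⟩
      mul_mem' := by
        rintro a b ⟨ha1, ha2, ha3⟩ ⟨hb1, hb2, hb3⟩
        refine ⟨mul_mem ha1 hb1, mul_mem ha2 hb2, fun s hs => ?_⟩
        have h1 : s * (a * b * s⁻¹ * (a * b)⁻¹) = (s * (a * s⁻¹ * a⁻¹)) * (a * (s * (b * s⁻¹ * b⁻¹)) * a⁻¹) := by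
          group
        rw [h1]
        exact mul_mem (ha3 s hs) (hnc a ha1 _ (hb3 s hs))
      inv_mem' := by
        rintro a ⟨ha1, ha2, ha3⟩
        refine ⟨inv_mem ha1, inv_mem ha2, fun s hs => ?_⟩
        have h1 := hnc _ (inv_mem ha1) _ (inv_mem (ha3 s hs))
        have h3 : a⁻¹ * (s * (a * s⁻¹ * a⁻¹))⁻¹ * a⁻¹⁻¹ = (s * (a⁻¹ * s⁻¹ * a⁻¹⁻¹)) := by
          have h4 : a⁻¹ * (s * (a * s⁻¹ * a⁻¹))⁻¹ * a⁻¹⁻¹ = s * (a⁻¹ * s⁻¹ * a⁻¹⁻¹) := by group
          exact h4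
        rwa [h3] at h1 }
  suffices hg : g ∈ H from hg.2.2
  apply mem_of_pp'
  rintro l hl x hx ⟨k, hk⟩
  have hxX : x ∈ normalizer (X : Set G) := zpowers_le.2 hgX hx
  have hxS : x ∈ normalizer (S : Set G) := zpowers_le.2 hgS hx
  refine ⟨hxX, hxS, fun s hs => ?_⟩
  rcases eq_or_ne l 2 with rfl | h2
  · have h1 := hSyl x hxS ⟨k, hk⟩
    have h3 : s * (x * s⁻¹ * x⁻¹) = 1 := by
      rw [hcomm x h1 _ (inv_mem hs)]; group
    rw [h3]; exact one_mem _
  rcases eq_or_ne x 1 with rfl | hx1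
  · simp [one_mem]
  rcases eq_or_ne l p with rfl | hp
  · exact h.comm_prime hS hX hSX hxX hxS hl h2 (h.order_of_pow (h.expp ⟨k, hk⟩) hx1) s hs
  -- a power of order `l`
  obtain ⟨j, hj, hjx⟩ := (Nat.dvd_prime_pow hl).1 (orderOf_dvd_of_pow_eq_one hk)
  have hj0 : j ≠ 0 := by
    rintro rfl
    rw [pow_zero, orderOf_eq_one_iff] at hjx
    exact hx1 hjx
  set x0 := x ^ l ^ (j - 1) with hx0
  have h3 : orderOf x0 = l := by
    rw [hx0, orderOf_pow_of_dvd (pow_ne_zero _ hl.ne_zero) (by rw [hjx]; exact pow_dvd_pow _ (by omega)), hjx,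
      Nat.pow_div (by omega) hl.pos]
    have : j - (j - 1) = 1 := by omega
    rw [this, pow_one]
  have h4 := h.comm_prime hS hX hSX (pow_mem hxX _) (pow_mem hxS _) hl h2 h3
  -- `S = [S, x0]`
  have hx0S : ∀ s ∈ S, x0 * s * x0⁻¹ ∈ S := fun s hs => (mem_normalizer_iff.1 (pow_mem hxS _) s).1 hs
  have hb : Function.Bijective (fun u : S => (⟨u.1 * (x0 * u.1⁻¹ * x0⁻¹), mul_mem u.2 (hx0S _ (inv_mem u.2))⟩ : S)) := by
    refine NormTr.shift_bij hcomm hx0S ?_
    intro e he hee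
    exact h.no_comm2 hl h2 hp h3 (hS e he) (mul_inv_eq_iff_eq_mul.1 hee)
  have h5 : ∀ s ∈ S, s ∈ centralizer (X : Set G) := by
    intro s hs
    obtain ⟨u, hu⟩ := hb.2 ⟨s, hs⟩
    have h6 : u.1 * (x0 * u.1⁻¹ * x0⁻¹) = s := congrArg Subtype.val hu
    rw [← h6]
    exact h4 _ u.2
  exact mul_mem (h5 s hs) (h5 _ ((mem_normalizer_iff.1 hxS _).1 (inv_mem hs)))

end DG

end Cfsg.Agent.CIT.TwoP
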