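import Mathlib
import Cfsg.Agent.H30.BendH
import Cfsg.Agent.H37.RankOnePSL
import Cfsg.Agent.H21.AbelSylow
import Cfsg.Agent.CIT.TwoP1

set_option autoImplicit false

/-!
# Groups in which centralizers of involutions have exponent `2p` (class (D)), II: strongly embedded subgroups
-/

namespace Cfsg.Agent.CIT.TwoP

open Subgroup

universe u

variable {G : Type u} [Group G] [Finite G]

open Cfsg.Agent.H30.Bend in
/-- a simple group with a 2-closed strongly embedded subgroup all of whose 2-elements are involutions -/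
theorem psl_of_se [IsSimpleGroup G] (hna : ∃ a b : G, a * b ≠ b * a) {H : Subgroup G}
    (hH : Cfsg.IsStronglyEmbedded H) (hcl : TwoClosed H) (he : ∀ x : G, (∃ k, x ^ 2 ^ k = 1) → x * x = 1) :
    ∃ (F : Type) (_ : Field F) (_ : Fintype F), (∃ n : ℕ, 2 ≤ n ∧ Fintype.card F = 2 ^ n) ∧
      Nonempty (G ≃* Matrix.ProjectiveSpecialLinearGroup (Fin 2) F) := by
  have hΩ := bh_of_stronglyEmbedded hH
  have hT := tc_of_twoClosed hcl
  have h2 := comm2_of_simple hna hΩ.ex
  obtain ⟨a, b, hab⟩ := hΩ.nt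
  obtain ⟨t, ht, hta, htb⟩ := hΩ.exists_swap' hab
  have hS := rankOne oddSolv.{u} hΩ hT h2 ht (a := a) (by rw [hta]; exact hab.symm)
  have h2' : ∃ x y : G, x ≠ 1 ∧ y ≠ 1 ∧ x ≠ y ∧ x * x = 1 ∧ y * y = 1 ∧ x * y = y * x := by
    obtain ⟨s, t, hs, ht, hst, hc⟩ := h2
    exact ⟨s, t, StrEmb.ne_one hs, StrEmb.ne_one ht, hst, StrEmb.mul_self_eq_one hs, StrEmb.mul_self_eq_one ht, hc⟩
  obtain ⟨C, hC, hcyc, hn⟩ := H38.OddTrans.inverted_cyclic hS h2' (Cfsg.Agent.FT.solvable_of_odd hS.odd_card)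
  obtain ⟨L, hL, hodd, F, i1, i2, hF, -, ⟨e⟩⟩ := H37.RankOne.psl_of_elementary hS h2' hC hcyc hn
    (fun x hx => he x hx.2)
  rcases hL.eq_bot_or_eq_top with h | h
  · exfalso
    rw [h, Subgroup.index_bot] at hodd
    have h6 : 2 ∣ Nat.card G := ht ▸ orderOf_dvd_natCard t
    exact (Nat.not_even_iff_odd.2 hodd) (even_iff_two_dvd.2 h6)
  · subst h
    exact ⟨F, i1, i2, hF, ⟨Subgroup.topEquiv.symm.trans e⟩⟩

/-- conjugates -/
theorem mem_norm_of_le {S : Subgroup G} {g : G} (h : ∀ s ∈ S, g * s * g⁻¹ ∈ S) : g ∈ normalizer (S : Set G) := by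
  rw [mem_normalizer_iff]
  have hb : Function.Bijective (fun s : S => (⟨g * s.1 * g⁻¹, h _ s.2⟩ : S)) := by
    rw [← Finite.injective_iff_bijective]
    intro a b hab
    have h1 : g * a.1 * g⁻¹ = g * b.1 * g⁻¹ := congrArg Subtype.val hab
    exact Subtype.ext (mul_left_cancel (mul_right_cancel h1))
  intro s
  refine ⟨fun hs => h s hs, fun hs => ?_⟩
  obtain ⟨u, hu⟩ := hb.2 ⟨_, hs⟩
  have h1 : g * u.1 * g⁻¹ = g * s * g⁻¹ := congrArg Subtype.val hu
  have h2 : u.1 = s := mul_left_cancel (mul_right_cancel h1)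
  rw [← h2]; exact u.2

/-- if the centralizers of the involutions of `S` normalize `S`, then `G` is `PSL₂(2ⁿ)` -/
theorem psl_of_cent [IsSimpleGroup G] (hna : ∃ a b : G, a * b ≠ b * a)
    (he : ∀ x : G, (∃ k, x ^ 2 ^ k = 1) → x * x = 1) {S : Subgroup G} (hS : ∀ s ∈ S, s * s = 1) (hS1 : S ≠ ⊥)
    (hSyl : ∀ x ∈ normalizer (S : Set G), (∃ k, x ^ 2 ^ k = 1) → x ∈ S)
    (hcent : ∀ a ∈ S, a ≠ 1 → centralizer ({a} : Set G) ≤ normalizer (S : Set G)) :
    ∃ (F : Type) (_ : Field F) (_ : Fintype F), (∃ n : ℕ, 2 ≤ n ∧ Fintype.card F = 2 ^ n) ∧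
      Nonempty (G ≃* Matrix.ProjectiveSpecialLinearGroup (Fin 2) F) := by
  have hinv : ∀ s ∈ S, s⁻¹ = s := fun s hs => inv_eq_of_mul_eq_one_left (hS s hs)
  have hcomm : ∀ a ∈ S, ∀ b ∈ S, a * b = b * a := by
    intro a ha b hb
    have h1 := hinv _ (mul_mem ha hb)
    rw [mul_inv_rev, hinv a ha, hinv b hb] at h1
    exact h1.symm
  obtain ⟨s0, hs0, hs01⟩ : ∃ s ∈ S, s ≠ 1 := by
    by_contra hcon
    push Not at hcon
    exact hS1 ((Subgroup.eq_bot_iff_forall S).2 hcon)
  apply psl_of_se hna (H := normalizer (S : Set G)) _ _ he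
  · refine ⟨?_, ?_, ?_⟩
    · intro htop
      have hn : S.Normal := normalizer_eq_top_iff.1 htop
      rcases hn.eq_bot_or_eq_top with h | h
      · exact hS1 h
      · obtain ⟨a, b, hab⟩ := hna
        exact hab (hcomm a (h ▸ mem_top a) b (h ▸ mem_top b))
    · have h1 : orderOf s0 ∣ Nat.card ↥(normalizer (S : Set G)) :=
        Subgroup.orderOf_dvd_natCard _ (le_normalizer hs0)
      rw [DG.order_two (hS s0 hs0) hs01] at h1
      exact even_iff_two_dvd.2 h1
    · intro g hg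
      rw [← Nat.not_even_iff_odd]
      intro hev
      haveI := Fact.mk Nat.prime_two
      obtain ⟨⟨t, ht12⟩, ht⟩ := exists_prime_orderOf_dvd_card' 2 (even_iff_two_dvd.1 hev)
      rw [Subgroup.orderOf_mk] at ht
      obtain ⟨ht1, ht2⟩ := Subgroup.mem_inf.1 ht12
      have htt : t * t = 1 := by rw [← pow_two, ← ht, pow_orderOf_eq_one]
      have ht1' : t ≠ 1 := by
        rintro rfl
        rw [orderOf_one] at ht
        omega
      have htS : t ∈ S := hSyl t ht1 ⟨1, by rw [pow_one, pow_two, htt]⟩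
      obtain ⟨n, hn, hnt⟩ := ht2
      rw [MulEquiv.coe_toMonoidHom, MulAut.conj_apply] at hnt
      have hnn : n = g⁻¹ * t * g := by rw [← hnt]; group
      have hnS : n ∈ S := by
        apply hSyl n hn
        refine ⟨1, ?_⟩
        rw [hnn, pow_one, pow_two]
        calc g⁻¹ * t * g * (g⁻¹ * t * g) = g⁻¹ * (t * t) * g := by group
          _ = 1 := by rw [htt]; group
      apply hg
      apply mem_norm_of_le
      intro s hs
      apply hSyl
      · apply hcent t htS ht1'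
        rw [mem_centralizer_singleton_iff, ← hnt]
        calc g * s * g⁻¹ * (g * n * g⁻¹) = g * (s * n) * g⁻¹ := by group
          _ = g * (n * s) * g⁻¹ := by rw [hcomm s hs n hnS]
          _ = g * n * g⁻¹ * (g * s * g⁻¹) := by group
      · refine ⟨1, ?_⟩
        rw [pow_one, pow_two]
        calc g * s * g⁻¹ * (g * s * g⁻¹) = g * (s * s) * g⁻¹ := by group
          _ = 1 := by rw [hS s hs]; group
  · intro x hx y hy hx2 hy2
    refine ⟨1, ?_⟩
    rw [pow_one, pow_two]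
    exact hS _ (mul_mem (hSyl x hx hx2) (hSyl y hy hy2))

/-- in a group without subgroups of index 2 whose Sylow 2-subgroup `S` is elementary abelian, `S = [S, N(S)]`. -/
theorem syl_eq_comm (hG : ∀ H : Subgroup G, H.index ≠ 2) (S : Sylow 2 G) (hS : ∀ s ∈ (S : Subgroup G), s * s = 1)
    (C : Subgroup G) (hCS : C ≤ (S : Subgroup G))
    (hC : ∀ g ∈ normalizer ((S : Subgroup G) : Set G), ∀ s ∈ (S : Subgroup G), s * (g * s⁻¹ * g⁻¹) ∈ C) :
    C = (S : Subgroup G) := by
  haveI := Fact.mk Nat.prime_two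
  have hinv : ∀ s ∈ (S : Subgroup G), s⁻¹ = s := fun s hs => inv_eq_of_mul_eq_one_left (hS s hs)
  have hcomm : ∀ a ∈ (S : Subgroup G), ∀ b ∈ (S : Subgroup G), a * b = b * a := by
    intro a ha b hb
    have h1 := hinv _ (mul_mem ha hb)
    rw [mul_inv_rev, hinv a ha, hinv b hb] at h1
    exact h1.symm
  by_contra hne
  -- a hyperplane
  obtain ⟨n, hn⟩ := IsPGroup.iff_card.1 S.2
  obtain ⟨m, hm⟩ := IsPGroup.iff_card.1 ((S.2.to_le hCS).comap_subtype (K := (S : Subgroup G)))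
  have hcard : Nat.card (C.subgroupOf (S : Subgroup G)) = Nat.card C :=
    Nat.card_congr (Subgroup.subgroupOfEquivOfLe hCS).toEquiv
  have hmn : m < n := by
    have h1 : Nat.card C < Nat.card (S : Subgroup G) := by
      refine lt_of_le_of_ne (Nat.card_mono (Set.toFinite _) hCS) ?_
      intro h
      exact hne (SetLike.coe_injective (Set.eq_of_subset_of_ncard_le hCS (by
        rw [← Nat.card_coe_set_eq, ← Nat.card_coe_set_eq]; exact h.ge)))
    rw [← hcard, hn] at h1
    change Nat.card (C.comap (S : Subgroup G).subtype) < _ at h1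
    rw [hm] at h1
    exact (Nat.pow_lt_pow_iff_right (by norm_num)).1 h1
  obtain ⟨E, hE, hCE⟩ := Sylow.exists_subgroup_card_pow_prime_le (G := (S : Subgroup G)) 2 (n := m) (m := n - 1)
    (by rw [hn]; exact pow_dvd_pow _ (by omega)) (C.comap (S : Subgroup G).subtype) hm (by omega)
  set E' : Subgroup G := E.map (S : Subgroup G).subtype with hE'
  have hES : E' ≤ S := map_subtype_le _
  have hidx : E'.relIndex (S : Subgroup G) = 2 := by
    have h1 : E'.subgroupOf (S : Subgroup G) = E := by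
      rw [hE', Subgroup.subgroupOf, comap_map_eq_self_of_injective (S : Subgroup G).subtype_injective]
    rw [Subgroup.relIndex, h1]
    have h2 := Subgroup.card_mul_index E
    rw [hE, hn] at h2
    have h3 : 2 ^ n = 2 ^ (n - 1) * 2 := by rw [← pow_succ]; congr 1; omega
    rw [h3] at h2
    exact Nat.eq_of_mul_eq_mul_left (by positivity) h2
  have hlt : ∃ t ∈ (S : Subgroup G), t ∉ E' := by
    by_contra hcon
    push Not at hcon
    have : E'.relIndex (S : Subgroup G) = 1 := Subgroup.relIndex_eq_one.2 hcon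
    omega
  obtain ⟨t, ht, htE⟩ := hlt
  obtain ⟨g, hg, hgt⟩ := Cfsg.Agent.H21.exists_conj_mem_hyperplane hG S
    ⟨⟨fun a b => Subtype.ext (hcomm _ a.2 _ b.2)⟩⟩ (S : Subgroup G) E' le_rfl le_rfl hidx ht
  apply htE
  have h1 : t * (g * t⁻¹ * g⁻¹) ∈ E' := by
    have h2 := hC g hg t ht
    exact ⟨⟨_, hCS h2⟩, hCE h2, rfl⟩
  have h2 := mul_mem h1 hgt
  have h3 : t * (g * t⁻¹ * g⁻¹) * (g * t * g⁻¹) = t := by group
  rwa [h3] at h2

end Cfsg.Agent.CIT.TwoP
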