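import Mathlib
import Cfsg.Agent.SigO.Con2
import Cfsg.Agent.SigF.PC
import Cfsg.Agent.SigF.Bal1
import Cfsg.Agent.Asch.PaQb
import Cfsg.Agent.CIT.TwoP2

set_option autoImplicit false

/-!
# Groups in which centralizers of involutions have exponent `2p` (class (D)), III: rank at least 3
-/

namespace Cfsg.Agent.CIT.TwoP

open Subgroup Cfsg.Agent.H36.PConstr Cfsg.Agent.SigF Cfsg.Agent.H32.SFB

universe u

variable {G : Type u} [Group G] [Finite G] {p : ℕ}

/-- Frattini argument: a solvable group `C` with abelian Sylow 2-subgroup `P` is `N_C(P) O(C)` -/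
theorem norm_sup_core {C : Type u} [Group C] [Finite C] (hsol : Group.IsSolvable C) (P : Sylow 2 C)
    (hP : ∀ a ∈ (P : Subgroup C), ∀ b ∈ (P : Subgroup C), a * b = b * a) :
    normalizer ((P : Subgroup C) : Set C) ⊔ Cfsg.pPrimeCore 2 C = ⊤ := by
  haveI := Fact.mk Nat.prime_two
  set N := Cfsg.pPrimeCore 2 C with hN
  have hc : CharP 2 (C ⧸ N) := isPConstrained_iff.1 (SigF.PC.isPConstrained_of_isSolvable hsol)
  set π := QuotientGroup.mk' N with hπ
  have hsurj : Function.Surjective π := QuotientGroup.mk'_surjective N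
  set Q : Sylow 2 (C ⧸ N) := P.mapSurjective hsurj with hQ
  have hQc : (Q : Subgroup (C ⧸ N)) = (P : Subgroup C).map π := rfl
  have h1 : (Q : Subgroup (C ⧸ N)) ≤ Cfsg.pCore 2 (C ⧸ N) := by
    refine le_trans ?_ hc
    intro x hx
    rw [mem_centralizer_iff]
    intro y hy
    have hy' := Solv.pCore_le_sylow Q hy
    rw [hQc] at hx hy'
    obtain ⟨a, ha, rfl⟩ := hx
    obtain ⟨b, hb, rfl⟩ := hy'
    rw [← map_mul, ← map_mul, hP a ha b hb]
  have h2 : (Q : Subgroup (C ⧸ N)) = Cfsg.pCore 2 (C ⧸ N) := le_antisymm h1 (Solv.pCore_le_sylow Q)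
  have h3 : ((P : Subgroup C) ⊔ N).Normal := by
    have h4 : ((P : Subgroup C).map π).comap π = (P : Subgroup C) ⊔ N := by
      rw [Subgroup.comap_map_eq, hπ, QuotientGroup.ker_mk']
    rw [← h4, ← hQc, h2]
    infer_instance
  have h4 := Sylow.normalizer_sup_eq_top' (N := (P : Subgroup C) ⊔ N) P le_sup_left
  rw [eq_top_iff, ← h4]
  exact sup_le le_sup_left (sup_le (le_normalizer.trans le_sup_left) le_sup_right)

namespace DG

/-- a subgroup all of whose elements have order dividing `2p` is solvable -/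
theorem solv (h : DG G p) {C : Subgroup G} (hC : ∀ x ∈ C, orderOf x ∣ 2 * p) : Group.IsSolvable C := by
  obtain ⟨k, m, hm, hk⟩ := Nat.exists_eq_pow_mul_and_not_dvd (Nat.card_pos (α := C)).ne' 2 (by norm_num)
  have hm0 : m ≠ 0 := by rintro rfl; simp at hm
  have h1 : ∀ {d : ℕ}, d.Prime → d ∣ m → d = p := by
    intro d hd hdm
    haveI := Fact.mk hd
    obtain ⟨x, hx⟩ := exists_prime_orderOf_dvd_card' (G := C) d (hk ▸ dvd_mul_of_dvd_right hdm _)
    have h2 := hC x.1 x.2
    rw [Subgroup.orderOf_coe, hx] at h2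
    rcases (Nat.Prime.dvd_mul hd).1 h2 with h3 | h3
    · exfalso
      rw [(Nat.prime_dvd_prime_iff_eq hd Nat.prime_two).1 h3] at hdm
      exact hm hdm
    · exact (Nat.prime_dvd_prime_iff_eq hd h.prime).1 h3
  have h2 := Nat.eq_prime_pow_of_unique_prime_dvd hm0 h1
  exact Asch.PaQb.aux 2 p Nat.prime_two h.prime _ C k _ rfl (by rw [hk, ← h2])

theorem cent_ord (h : DG G p) {t : G} (ht : t * t = 1) (h1 : t ≠ 1) :
    ∀ x ∈ centralizer ({t} : Set G), orderOf x ∣ 2 * p := by
  intro x hx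
  rw [mem_centralizer_singleton_iff] at hx
  exact h.cen2 t x (order_two ht h1) hx

/-- `C(t) = (C(t) ∩ N(S)) O(C(t))` -/
theorem cent_factor (h : DG G p) (S : Sylow 2 G) (hS : ∀ s ∈ (S : Subgroup G), s * s = 1) {C : Subgroup G}
    (hC : ∀ x ∈ C, orderOf x ∣ 2 * p) (hSC : (S : Subgroup G) ≤ C) {c : G} (hc : c ∈ C) :
    ∃ n ∈ normalizer ((S : Subgroup G) : Set G), n ∈ C ∧ ∃ k ∈ (Cfsg.pPrimeCore 2 C).map C.subtype, c = n * k := by
  have hinv : ∀ s ∈ (S : Subgroup G), s⁻¹ = s := fun s hs => inv_eq_of_mul_eq_one_left (hS s hs)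
  have hcomm : ∀ a ∈ (S : Subgroup G), ∀ b ∈ (S : Subgroup G), a * b = b * a := by
    intro a ha b hb
    have h1 := hinv _ (mul_mem ha hb)
    rw [mul_inv_rev, hinv a ha, hinv b hb] at h1
    exact h1.symm
  have h1 := norm_sup_core (h.solv hC) (S.subtype hSC) (by
    intro a ha b hb
    exact Subtype.ext (hcomm _ ha _ hb))
  have h2 : (⟨c, hc⟩ : C) ∈ normalizer (((S.subtype hSC : Sylow 2 C) : Subgroup C) : Set C) ⊔ Cfsg.pPrimeCore 2 C := by
    rw [h1]; exact mem_top _
  rw [mem_sup_of_normal_right] at h2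
  obtain ⟨n, hn, k, hk, hnk⟩ := h2
  refine ⟨n.1, ?_, n.2, k.1, ⟨k, hk, rfl⟩, (congrArg Subtype.val hnk).symm⟩
  apply mem_norm_of_le
  intro s hs
  exact (mem_normalizer_iff.1 hn ⟨s, hSC hs⟩).1 hs

/-- an `S`-invariant subgroup of odd order is a `p`-group -/
theorem pgroup_of_inv (h : DG G p) {E R : Subgroup G} (hE : Cfsg.IsElementaryAbelian 2 E) (hE2 : 2 ^ 2 ≤ Nat.card E)
    (hR : ¬ 2 ∣ Nat.card R) (hER : E ≤ normalizer (R : Set G)) : IsPGroup p R := by
  haveI := Fact.mk Nat.prime_two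
  haveI := Fact.mk h.prime
  have key : ∀ {d : ℕ}, d.Prime → d ∣ Nat.card R → d = p := by
    intro q hq hqR
    by_contra hqp
    haveI := Fact.mk hq
    obtain ⟨Q, hQ, hEQ⟩ := exists_inv_isSyl (isPGroup_of_elem hE) hR hER q
    have hq2 : q ≠ 2 := by rintro rfl; exact hR hqR
    have h2Q : ¬ 2 ∣ Nat.card Q := fun hd => hR (hd.trans (Subgroup.card_dvd_of_le hQ.le))
    have h1 : (⊥ : Subgroup G) = Q := by
      refine eq_of_fixed_le hE hE2 h2Q hEQ bot_le ?_
      rintro a ha ha1 x ⟨hxQ, hxa⟩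
      rw [mem_bot]
      by_contra hx1
      have h3 := h.cent_ord (by have := hE.2 a ha; rwa [pow_two] at this) ha1 x hxa
      obtain ⟨k, hk⟩ := hQ.isPGroup ⟨x, hxQ⟩
      have h4 : orderOf x ∣ q ^ k := orderOf_dvd_of_pow_eq_one (congrArg Subtype.val hk)
      have h5 : Nat.Coprime (2 * p) (q ^ k) := by
        apply Nat.Coprime.pow_right
        apply Nat.Coprime.mul_left
        · exact (Nat.coprime_primes Nat.prime_two hq).2 hq2.symm
        · exact (Nat.coprime_primes h.prime hq).2 (Ne.symm hqp)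
      exact hx1 (orderOf_eq_one_iff.1 (Nat.eq_one_of_dvd_coprimes h5 h3 h4))
    have h3 := hQ.not_dvd_relIndex
    rw [← h1, Subgroup.relIndex_bot_left] at h3
    exact h3 hqR
  rw [IsPGroup.iff_card]
  exact ⟨_, Nat.eq_prime_pow_of_unique_prime_dvd (Nat.card_pos (α := R)).ne' key⟩

end DG

/-- rank at least 3 -/
theorem rank_three [IsSimpleGroup G] (hna : ∃ a b : G, a * b ≠ b * a) (h : DG G p) (S : Sylow 2 G)
    (hS3 : 2 ^ 3 ≤ Nat.card S) :
    ∃ (F : Type) (_ : Field F) (_ : Fintype F), (∃ n : ℕ, 2 ≤ n ∧ Fintype.card F = 2 ^ n) ∧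
      Nonempty (G ≃* Matrix.ProjectiveSpecialLinearGroup (Fin 2) F) := by
  haveI := Fact.mk Nat.prime_two
  haveI := Fact.mk h.prime
  have hS : ∀ s ∈ (S : Subgroup G), s * s = 1 := by
    intro s hs
    obtain ⟨k, hk⟩ := S.2 ⟨s, hs⟩
    exact h.exp2 s ⟨k, congrArg Subtype.val hk⟩
  have hinv : ∀ s ∈ (S : Subgroup G), s⁻¹ = s := fun s hs => inv_eq_of_mul_eq_one_left (hS s hs)
  have hcomm : ∀ a ∈ (S : Subgroup G), ∀ b ∈ (S : Subgroup G), a * b = b * a := by
    intro a ha b hb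
    have h1 := hinv _ (mul_mem ha hb)
    rw [mul_inv_rev, hinv a ha, hinv b hb] at h1
    exact h1.symm
  have hSE : Cfsg.IsElementaryAbelian 2 (S : Subgroup G) :=
    ⟨⟨⟨fun a b => Subtype.ext (hcomm _ a.2 _ b.2)⟩⟩, fun s hs => by rw [pow_two, hS s hs]⟩
  have hSyl : ∀ x ∈ normalizer ((S : Subgroup G) : Set G), (∃ k, x ^ 2 ^ k = 1) → x ∈ (S : Subgroup G) := by
    rintro x hx ⟨k, hk⟩
    have h1 : IsPGroup 2 (zpowers x) := by
      obtain ⟨j, hj, hjx⟩ := (Nat.dvd_prime_pow Nat.prime_two).1 (orderOf_dvd_of_pow_eq_one hk)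
      exact IsPGroup.of_card (n := j) (by rw [Nat.card_zpowers, hjx])
    have h2 : IsPGroup 2 ((S : Subgroup G) ⊔ zpowers x : Subgroup G) :=
      S.2.to_sup_of_normal_left' h1 (zpowers_le.2 hx)
    have h3 := S.3 h2 le_sup_left
    rw [← h3]
    exact mem_sup_right (mem_zpowers x)
  have hScent : ∀ a ∈ (S : Subgroup G), (S : Subgroup G) ≤ centralizer ({a} : Set G) := by
    intro a ha b hb
    rw [mem_centralizer_singleton_iff]
    exact hcomm b hb a ha
  -- the signalizer functor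
  set θ : G → Subgroup G := fun a => Cfsg.centralizerPPrimeCore 2 a with hθ
  have hcompl : Complete 2 θ (S : Subgroup G) := by
    refine SigO.complete_two hSE hS3 (fun a _ _ => Bal1.cppc_le a) (fun a _ _ => Bal1.cppc_not_dvd a)
      (fun a ha _ => Bal1.cppc_normal' (hScent a ha)) ?_
    intro a ha ha1 b hb hb1
    refine Bal1.balance_of_pConstrained (hcomm a ha b hb) ?_ ?_
    · exact (isPGroup_of_elem hSE).to_le (zpowers_le.2 ha)
    · exact SigF.PC.isPConstrained_of_isSolvable (h.solv (h.cent_ord (hS b hb) hb1))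
  set W0 := W θ (S : Subgroup G) with hW0
  have hWp : IsPGroup p W0 := h.pgroup_of_inv hSE (le_trans (by norm_num) hS3) hcompl.1 hcompl.2.2
  -- `N(S)` normalizes `W0`
  have hNW : normalizer ((S : Subgroup G) : Set G) ≤ normalizer (W0 : Set G) := by
    intro g hg
    apply mem_norm_of_le
    intro w hw
    have h1 : W0 ≤ W0.comap (MulAut.conj g).toMonoidHom := by
      conv_lhs => rw [hW0]
      refine W_le ?_
      intro a ha ha1 x hx
      have hga : g * a * g⁻¹ ∈ (S : Subgroup G) := (mem_normalizer_iff.1 hg a).1 ha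
      have hga1 : g * a * g⁻¹ ≠ 1 := by rwa [ne_eq, conj_eq_one_iff]
      rw [mem_comap]
      have h2 : (θ a).map (MulAut.conj g).toMonoidHom ≤ θ (g * a * g⁻¹) := by
        refine Bal1.le_cppc ?_ ?_ ?_
        · rintro _ ⟨y, hy, rfl⟩
          have h3 := Bal1.cppc_le a hy
          rw [mem_centralizer_singleton_iff] at h3 ⊢
          change g * y * g⁻¹ * (g * a * g⁻¹) = g * a * g⁻¹ * (g * y * g⁻¹)
          calc g * y * g⁻¹ * (g * a * g⁻¹) = g * (y * a) * g⁻¹ := by group
            _ = g * (a * y) * g⁻¹ := by rw [h3]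
            _ = g * a * g⁻¹ * (g * y * g⁻¹) := by group
        · intro c hc
          rw [mem_centralizer_singleton_iff] at hc
          have hc' : g⁻¹ * c * g ∈ centralizer ({a} : Set G) := by
            rw [mem_centralizer_singleton_iff]
            calc g⁻¹ * c * g * a = g⁻¹ * (c * (g * a * g⁻¹)) * g := by group
              _ = g⁻¹ * (g * a * g⁻¹ * c) * g := by rw [hc]
              _ = a * (g⁻¹ * c * g) := by group
          have h3 := Bal1.centralizer_le_normalizer_cppc (p := 2) a hc'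
          apply mem_norm_of_le
          rintro _ ⟨y, hy, rfl⟩
          refine ⟨g⁻¹ * c * g * y * (g⁻¹ * c * g)⁻¹, (mem_normalizer_iff.1 h3 y).1 hy, ?_⟩
          change g * (g⁻¹ * c * g * y * (g⁻¹ * c * g)⁻¹) * g⁻¹ = c * (g * y * g⁻¹) * c⁻¹
          group
        · rw [card_map_of_injective (MulAut.conj g).injective]
          exact Bal1.cppc_coprime a
      exact le_W hga hga1 (h2 ⟨x, hx, rfl⟩)
    exact h1 hw
  -- `S` centralizes `W0`
  have hG2 : ∀ H : Subgroup G, H.index ≠ 2 := by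
    intro H hH
    haveI := normal_of_index_eq_two hH
    rcases (inferInstance : H.Normal).eq_bot_or_eq_top with h1 | h1
    · subst h1
      rw [index_bot] at hH
      have h2 : Nat.card S ∣ Nat.card G := Subgroup.card_subgroup_dvd_card _
      rw [hH] at h2
      have := Nat.le_of_dvd (by norm_num) h2
      omega
    · subst h1
      rw [index_top] at hH
      omega
  have hSW : (S : Subgroup G) ⊓ centralizer (W0 : Set G) = S := by
    apply syl_eq_comm hG2 S hS _ inf_le_left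
    intro g hg s hs
    refine ⟨mul_mem hs ((mem_normalizer_iff.1 hg _).1 (inv_mem hs)), ?_⟩
    exact h.comm_all hS hWp hcompl.2.2 hSyl (hNW hg) hg s hs
  have hWS : ∀ w ∈ W0, ∀ s ∈ (S : Subgroup G), w * s = s * w := by
    intro w hw s hs
    rw [← hSW] at hs
    exact mem_centralizer_iff.1 hs.2 w hw
  apply psl_of_cent hna h.exp2 hS _ hSyl
  · intro a ha ha1 c hc
    obtain ⟨n, hn, -, k, hk, rfl⟩ := h.cent_factor S hS (h.cent_ord (hS a ha) ha1) (hScent a ha) hc
    refine mul_mem hn ?_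
    apply mem_norm_of_le
    intro s hs
    have hkW : k ∈ W0 := le_W ha ha1 hk
    rw [hWS k hkW s hs, mul_inv_cancel_right]
    exact hs
  · intro h1
    have h2 : Nat.card (S : Subgroup G) = 1 := by rw [h1]; exact card_bot
    change 2 ^ 3 ≤ Nat.card (S : Subgroup G) at hS3
    omega

end Cfsg.Agent.CIT.TwoP
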