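import Mathlib
import Cfsg.Agent.CIT.TwoP3
import Cfsg.Agent.S0508

set_option autoImplicit false

/-!
# Groups in which centralizers of involutions have exponent `2p` (class (D)), IV: rank 2
-/

namespace Cfsg.Agent.CIT.TwoP

open Subgroup Cfsg.Agent.SigF

universe u

variable {G : Type u} [Group G] [Finite G] {p : ℕ}

/-- the odd core of a subgroup -/
def cor (L : Subgroup G) : Subgroup G := (Cfsg.pPrimeCore 2 L).map L.subtype

theorem cor_le (L : Subgroup G) : cor L ≤ L := map_subtype_le _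

theorem cor_odd (L : Subgroup G) : ¬ 2 ∣ Nat.card (cor L) := by
  rw [cor, card_map_of_injective L.subtype_injective]
  intro h
  have := Solv.pPrimeCore_card_coprime (G := L) 2
  exact (Nat.Prime.coprime_iff_not_dvd Nat.prime_two).1 this.symm h

theorem norm_cor (L : Subgroup G) : normalizer (L : Set G) ≤ normalizer (cor L : Set G) :=
  H49.normalizer_le_normalizer_map_of_char _ _

theorem le_norm_cor (L : Subgroup G) : L ≤ normalizer (cor L : Set G) :=
  le_normalizer.trans (norm_cor L)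

theorem odd_of_mem {R : Subgroup G} (hR : ¬ 2 ∣ Nat.card R) {x : G} (hx : x ∈ R) : Odd (orderOf x) := by
  rw [← Nat.not_even_iff_odd, even_iff_two_dvd]
  exact fun h => hR (h.trans (Subgroup.orderOf_dvd_natCard _ hx))

theorem odd_of_pgroup (h : DG G p) {R : Subgroup G} (hR : IsPGroup p R) : ¬ 2 ∣ Nat.card R := by
  haveI := Fact.mk h.prime
  obtain ⟨n, hn⟩ := IsPGroup.iff_card.1 hR
  rw [hn]
  intro h2
  exact h.ne2 ((Nat.prime_dvd_prime_iff_eq Nat.prime_two h.prime).1 (Nat.prime_two.dvd_of_dvd_pow h2)).symm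

/-- a subgroup in which Burnside's theorem applies -/
theorem burn {S : Sylow 2 G} {L : Subgroup G} (hSL : (S : Subgroup G) ≤ L)
    (hc : ∀ g ∈ L, g ∈ normalizer ((S : Subgroup G) : Set G) → ∀ s ∈ (S : Subgroup G), g * s = s * g) :
    (∀ x ∈ L, Odd (orderOf x) → x ∈ cor L) ∧ ∀ x ∈ L, ∃ r ∈ cor L, ∃ s ∈ (S : Subgroup G), x = r * s := by
  haveI := Fact.mk Nat.prime_two
  set P : Sylow 2 L := S.subtype hSL with hP
  have hPc : normalizer ((P : Subgroup L) : Set L) ≤ centralizer ((P : Subgroup L) : Set L) := by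
    intro g hg
    rw [mem_centralizer_iff]
    intro s hs
    apply Subtype.ext
    refine (hc g.1 g.2 ?_ s.1 hs).symm
    apply mem_norm_of_le
    intro t ht
    exact (mem_normalizer_iff.1 hg ⟨t, hSL ht⟩).1 ht
  set N := (MonoidHom.transferSylow P hPc).ker with hN
  have hcomp := MonoidHom.ker_transferSylow_isComplement' P hPc
  have hnd := MonoidHom.not_dvd_card_ker_transferSylow P hPc
  have hNcore : N ≤ Cfsg.pPrimeCore 2 L :=
    Solv.le_pPrimeCore inferInstance (((Nat.Prime.coprime_iff_not_dvd Nat.prime_two).2 hnd).symm)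
  constructor
  · intro x hx hodd
    refine ⟨⟨x, hx⟩, hNcore ?_, rfl⟩
    have h1 : MonoidHom.transferSylow P hPc ⟨x, hx⟩ = 1 := by
      obtain ⟨k, hk⟩ := P.2 (MonoidHom.transferSylow P hPc ⟨x, hx⟩)
      have h2 := orderOf_dvd_of_pow_eq_one hk
      have h3 : orderOf (MonoidHom.transferSylow P hPc ⟨x, hx⟩) ∣ orderOf x := by
        rw [← Subgroup.orderOf_mk x hx]; exact orderOf_map_dvd _ _
      have h4 : Nat.Coprime (2 ^ k) (orderOf x) := Nat.Coprime.pow_left k (Nat.coprime_two_left.2 hodd)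
      exact orderOf_eq_one_iff.1 (Nat.eq_one_of_dvd_coprimes h4 h2 h3)
    exact MonoidHom.mem_ker.2 h1
  · intro x hx
    obtain ⟨⟨n, s⟩, hns⟩ := hcomp.2 ⟨x, hx⟩
    refine ⟨n.1.1, ⟨n.1, hNcore n.2, rfl⟩, s.1.1, s.2, ?_⟩
    exact (congrArg Subtype.val hns).symm

theorem odd_part {x : G} : ∃ k m : ℕ, orderOf x = 2 ^ k * m ∧ Odd m ∧ Nat.Coprime (2 ^ k) m := by
  obtain ⟨k, m, hm, hkm⟩ := Nat.exists_eq_pow_mul_and_not_dvd (orderOf_pos x).ne' 2 (by norm_num)
  have hodd : Odd m := by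
    rw [← Nat.not_even_iff_odd, even_iff_two_dvd]; exact hm
  exact ⟨k, m, hkm, hodd, Nat.Coprime.pow_left k (Nat.coprime_two_left.2 hodd)⟩

/-- the basic data -/
structure R2 (G : Type u) [Group G] [Finite G] (p : ℕ) (S : Sylow 2 G) : Prop extends DG G p where
  card4 : Nat.card S = 4

namespace R2

variable {S : Sylow 2 G}

theorem sq (_ : R2 G p S) : ∀ s ∈ (S : Subgroup G), s * s = 1 := by
  rename_i h
  intro s hs
  obtain ⟨k, hk⟩ := S.2 ⟨s, hs⟩
  exact h.exp2 s ⟨k, congrArg Subtype.val hk⟩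

theorem comm (h : R2 G p S) : ∀ a ∈ (S : Subgroup G), ∀ b ∈ (S : Subgroup G), a * b = b * a := by
  have hinv : ∀ s ∈ (S : Subgroup G), s⁻¹ = s := fun s hs => inv_eq_of_mul_eq_one_left (h.sq s hs)
  intro a ha b hb
  have h1 := hinv _ (mul_mem ha hb)
  rw [mul_inv_rev, hinv a ha, hinv b hb] at h1
  exact h1.symm

theorem inv (h : R2 G p S) : ∀ s ∈ (S : Subgroup G), s⁻¹ = s :=
  fun s hs => inv_eq_of_mul_eq_one_left (h.sq s hs)

theorem elem (h : R2 G p S) : Cfsg.IsElementaryAbelian 2 (S : Subgroup G) :=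
  ⟨⟨⟨fun a b => Subtype.ext (h.comm _ a.2 _ b.2)⟩⟩, fun s hs => by rw [pow_two, h.sq s hs]⟩

theorem syl (_ : R2 G p S) : ∀ x ∈ normalizer ((S : Subgroup G) : Set G), (∃ k, x ^ 2 ^ k = 1) → x ∈ (S : Subgroup G) := by
  haveI := Fact.mk Nat.prime_two
  rintro x hx ⟨k, hk⟩
  have h1 : IsPGroup 2 (zpowers x) := by
    obtain ⟨j, hj, hjx⟩ := (Nat.dvd_prime_pow Nat.prime_two).1 (orderOf_dvd_of_pow_eq_one hk)
    exact IsPGroup.of_card (n := j) (by rw [Nat.card_zpowers, hjx])
  have h2 : IsPGroup 2 ((S : Subgroup G) ⊔ zpowers x : Subgroup G) :=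
    S.2.to_sup_of_normal_left' h1 (zpowers_le.2 hx)
  have h3 := S.3 h2 le_sup_left
  rw [← h3]
  exact mem_sup_right (mem_zpowers x)

theorem S_cent (h : R2 G p S) : ∀ a ∈ (S : Subgroup G), (S : Subgroup G) ≤ centralizer ({a} : Set G) := by
  intro a ha b hb
  rw [mem_centralizer_singleton_iff]
  exact h.comm b hb a ha

/-- three distinct nonidentity elements -/
theorem mul_eq (h : R2 G p S) {a b c : G} (ha : a ∈ (S : Subgroup G)) (hb : b ∈ (S : Subgroup G))
    (hc : c ∈ (S : Subgroup G)) (ha1 : a ≠ 1) (hb1 : b ≠ 1) (hc1 : c ≠ 1) (hab : a ≠ b) (hac : c ≠ a)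
    (hbc : c ≠ b) : c = a * b := by
  classical
  haveI : Fintype (S : Subgroup G) := Fintype.ofFinite _
  by_contra hne
  have h1 : ({1, ⟨a, ha⟩, ⟨b, hb⟩, ⟨c, hc⟩, ⟨a * b, mul_mem ha hb⟩} : Finset (S : Subgroup G)).card ≤ 4 := by
    rw [← h.card4, Nat.card_eq_fintype_card]
    exact Finset.card_le_univ _
  have hab1 : a * b ≠ 1 := by
    intro h2
    apply hab
    rw [mul_eq_one_iff_eq_inv, h.inv b hb] at h2
    exact h2
  rw [Finset.card_insert_of_notMem, Finset.card_insert_of_notMem, Finset.card_insert_of_notMem,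
    Finset.card_insert_of_notMem, Finset.card_singleton] at h1
  · omega
  · simp only [Finset.mem_singleton, Subtype.mk.injEq]; exact hne
  · simp only [Finset.mem_insert, Finset.mem_singleton, Subtype.mk.injEq, not_or]
    refine ⟨fun h2 => hbc h2.symm, fun h2 => ha1 ?_⟩
    exact mul_eq_right.1 h2.symm
  · simp only [Finset.mem_insert, Finset.mem_singleton, Subtype.mk.injEq, not_or]
    refine ⟨hab, fun h2 => hac h2.symm, fun h2 => hb1 ?_⟩
    exact mul_eq_left.1 h2.symm
  · simp only [Finset.mem_insert, Finset.mem_singleton, not_or]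
    refine ⟨fun h2 => ha1 (congrArg Subtype.val h2).symm, fun h2 => hb1 (congrArg Subtype.val h2).symm,
      fun h2 => hc1 (congrArg Subtype.val h2).symm, fun h2 => hab1 (congrArg Subtype.val h2).symm⟩

/-- a subgroup containing two distinct involutions of `S` contains `S` -/
theorem le_of_two (h : R2 G p S) {K : Subgroup G} {a b : G} (ha : a ∈ (S : Subgroup G)) (hb : b ∈ (S : Subgroup G))
    (ha1 : a ≠ 1) (hb1 : b ≠ 1) (hab : a ≠ b) (haK : a ∈ K) (hbK : b ∈ K) : (S : Subgroup G) ≤ K := by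
  intro c hc
  rcases eq_or_ne c 1 with rfl | hc1
  · exact one_mem _
  rcases eq_or_ne c a with rfl | hca
  · exact haK
  rcases eq_or_ne c b with rfl | hcb
  · exact hbK
  rw [h.mul_eq ha hb hc ha1 hb1 hc1 hab hca hcb]
  exact mul_mem haK hbK

theorem exists_ne (h : R2 G p S) {a : G} : ∃ b ∈ (S : Subgroup G), b ≠ 1 ∧ b ≠ a := by
  classical
  by_contra hcon
  push Not at hcon
  have h1 : ∀ b : (S : Subgroup G), b = 1 ∨ (b : G) = a := by
    intro b
    by_cases hb : b = 1
    · exact Or.inl hb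
    · exact Or.inr (hcon b b.2 (fun h => hb (Subtype.ext h)))
  haveI : Fintype (S : Subgroup G) := Fintype.ofFinite _
  have h4 := h.card4
  have h2 : ((S : Subgroup G) : Set G) ⊆ {1, a} := by
    intro b hb
    rcases h1 ⟨b, hb⟩ with h3 | h3
    · left; exact congrArg Subtype.val h3
    · right; exact h3
  have h3 := Set.ncard_le_ncard h2 (Set.toFinite _)
  have h5 : ((S : Subgroup G) : Set G).ncard = 4 := by
    rw [← Nat.card_coe_set_eq]; exact h4
  have h6 := Set.ncard_insert_le (1 : G) {a}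
  rw [Set.ncard_singleton] at h6
  omega

/-- an element of `N(S)` fixing an involution of `S` centralizes `S` -/
theorem fix (h : R2 G p S) {g a : G} (hg : g ∈ normalizer ((S : Subgroup G) : Set G)) (ha : a ∈ (S : Subgroup G))
    (ha1 : a ≠ 1) (hga : g * a = a * g) : ∀ s ∈ (S : Subgroup G), g * s = s * g := by
  have hconj : ∀ s ∈ (S : Subgroup G), g * s * g⁻¹ ∈ (S : Subgroup G) := fun s hs => (mem_normalizer_iff.1 hg s).1 hs
  obtain ⟨b, hb, hb1, hba⟩ := h.exists_ne (a := a)
  suffices hgb : g * b = b * g by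
    have h1 : (S : Subgroup G) ≤ centralizer ({g} : Set G) :=
      h.le_of_two ha hb ha1 hb1 hba.symm (by rw [mem_centralizer_singleton_iff]; exact hga.symm)
        (by rw [mem_centralizer_singleton_iff]; exact hgb.symm)
    intro s hs
    have := mem_centralizer_singleton_iff.1 (h1 hs)
    exact this.symm
  by_contra hne
  -- `g b g⁻¹ = a b`
  have h1 : g * b * g⁻¹ = a * b := by
    apply h.mul_eq ha hb (hconj b hb) ha1 hb1
    · rwa [ne_eq, conj_eq_one_iff]
    · exact hba.symm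
    · intro h2
      apply hba
      have h3 : g * b = a * g := mul_inv_eq_iff_eq_mul.1 h2
      rw [← hga] at h3
      exact mul_left_cancel h3
    · intro h2
      exact hne (mul_inv_eq_iff_eq_mul.1 h2)
  have h2 : g * a * g⁻¹ = a := mul_inv_eq_iff_eq_mul.2 hga
  have h3 : g ^ 2 ∈ centralizer ({b} : Set G) := by
    rw [mem_centralizer_singleton_iff, ← mul_inv_eq_iff_eq_mul]
    calc g ^ 2 * b * (g ^ 2)⁻¹ = g * (g * b * g⁻¹) * g⁻¹ := by rw [pow_two]; group
      _ = g * (a * b) * g⁻¹ := by rw [h1]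
      _ = (g * a * g⁻¹) * (g * b * g⁻¹) := by group
      _ = b := by rw [h1, h2, ← mul_assoc, h.sq a ha, one_mul]
  obtain ⟨k, m, hkm, hodd, hcop⟩ := odd_part (x := g)
  have h4 : g ^ m ∈ (S : Subgroup G) := by
    apply h.syl _ (pow_mem hg _)
    exact ⟨k, by rw [← pow_mul, mul_comm, ← hkm, pow_orderOf_eq_one]⟩
  have h5 : g ^ m ∈ centralizer ({b} : Set G) := by
    rw [mem_centralizer_singleton_iff]
    exact h.comm _ h4 b hb
  have h6 : g ∈ centralizer ({b} : Set G) := mem_of_pow (Nat.coprime_two_left.2 hodd) h3 h5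
  rw [mem_centralizer_singleton_iff] at h6
  exact hne h6

/-- (F1) an invariant `p`-group normalized by an element acting nontrivially on `S` is centralized by `S` -/
theorem f1 (h : R2 G p S) {X : Subgroup G} (hX : IsPGroup p X) (hSX : (S : Subgroup G) ≤ normalizer (X : Set G))
    {g : G} (hg : g ∈ normalizer ((S : Subgroup G) : Set G)) (hgX : g ∈ normalizer (X : Set G)) {s : G}
    (hs : s ∈ (S : Subgroup G)) (hgs : g * s ≠ s * g) : (S : Subgroup G) ≤ centralizer (X : Set G) := by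
  have hconj : ∀ s ∈ (S : Subgroup G), g * s * g⁻¹ ∈ (S : Subgroup G) := fun s hs => (mem_normalizer_iff.1 hg s).1 hs
  have h1 := h.comm_all h.sq hX hSX h.syl hgX hg s hs
  set e := s * (g * s⁻¹ * g⁻¹) with he
  have heS : e ∈ (S : Subgroup G) := mul_mem hs (hconj _ (inv_mem hs))
  have he1 : e ≠ 1 := by
    intro h2
    apply hgs
    rw [he, h.inv s hs, mul_eq_one_iff_inv_eq, h.inv s hs] at h2
    exact (mul_inv_eq_iff_eq_mul.1 h2.symm)
  have h2 : g * e * g⁻¹ ∈ centralizer (X : Set G) := by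
    rw [mem_centralizer_iff]
    intro x hx
    have h3 : g⁻¹ * x * g ∈ X := by
      have := (mem_normalizer_iff.1 (inv_mem hgX) x).1 hx
      rwa [inv_inv] at this
    have h4 := mem_centralizer_iff.1 h1 _ h3
    calc x * (g * e * g⁻¹) = g * (g⁻¹ * x * g * e) * g⁻¹ := by group
      _ = g * (e * (g⁻¹ * x * g)) * g⁻¹ := by rw [h4]
      _ = g * e * g⁻¹ * x := by group
  refine h.le_of_two heS (hconj e heS) he1 (by rwa [ne_eq, conj_eq_one_iff]) ?_ h1 h2
  intro h3
  exact hgs (h.fix hg heS he1 (mul_inv_eq_iff_eq_mul.1 h3.symm) s hs)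

/-- an element of odd order of `N(S)` acting nontrivially -/
theorem exists_rho (h : R2 G p S) (hG2 : ∀ H : Subgroup G, H.index ≠ 2) :
    ∃ g ∈ normalizer ((S : Subgroup G) : Set G), Odd (orderOf g) ∧
      ∀ a ∈ (S : Subgroup G), a ≠ 1 → g * a ≠ a * g := by
  obtain ⟨g, hg, s, hs, hgs⟩ : ∃ g ∈ normalizer ((S : Subgroup G) : Set G), ∃ s ∈ (S : Subgroup G), g * s ≠ s * g := by
    by_contra hcon
    push Not at hcon
    have h1 := syl_eq_comm hG2 S h.sq ⊥ bot_le (by
      intro g hg s hs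
      rw [mem_bot, h.inv s hs, hcon g hg s hs, mul_inv_cancel_right, h.sq s hs])
    have h2 := h.card4
    change Nat.card (S : Subgroup G) = 4 at h2
    rw [← h1, card_bot] at h2
    omega
  obtain ⟨k, m, hkm, hodd, hcop⟩ := odd_part (x := g)
  refine ⟨g ^ 2 ^ k, pow_mem hg _, ?_, ?_⟩
  · rw [orderOf_pow_of_dvd (by positivity) (by rw [hkm]; exact dvd_mul_right _ _), hkm,
      Nat.mul_div_cancel_left _ (by positivity)]
    exact hodd
  · intro a ha ha1 hga
    apply hgs
    have h1 := h.fix (pow_mem hg _) ha ha1 hga s hs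
    have h2 : g ^ m ∈ (S : Subgroup G) := by
      apply h.syl _ (pow_mem hg _)
      exact ⟨k, by rw [← pow_mul, mul_comm, ← hkm, pow_orderOf_eq_one]⟩
    have h3 := h.comm _ h2 s hs
    have h6 : g ∈ centralizer ({s} : Set G) := mem_of_pow hcop
      (by rw [mem_centralizer_singleton_iff]; exact h1) (by rw [mem_centralizer_singleton_iff]; exact h3)
    rw [mem_centralizer_singleton_iff] at h6
    exact h6

end R2

end Cfsg.Agent.CIT.TwoP
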