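import Mathlib
import Cfsg.Agent.CIT.TwoP4

set_option autoImplicit false

/-!
# Groups in which centralizers of involutions have exponent `2p` (class (D)), V: rank 2, end
-/

namespace Cfsg.Agent.CIT.TwoP

open Subgroup Cfsg.Agent.SigF

universe u

variable {G : Type u} [Group G] [Finite G] {p : ℕ}

theorem norm_sup {A B : Subgroup G} {g : G} (hA : g ∈ normalizer (A : Set G)) (hB : g ∈ normalizer (B : Set G)) :
    g ∈ normalizer ((A ⊔ B : Subgroup G) : Set G) := by
  rw [mem_normalizer_iff_cj] at hA hB ⊢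
  rw [cj_def, Subgroup.map_sup, ← cj_def, ← cj_def, hA, hB]

theorem norm_inf {A B : Subgroup G} {g : G} (hA : g ∈ normalizer (A : Set G)) (hB : g ∈ normalizer (B : Set G)) :
    g ∈ normalizer ((A ⊓ B : Subgroup G) : Set G) := by
  rw [mem_normalizer_iff_cj] at hA hB ⊢
  rw [cj_inf, hA, hB]

theorem norm_norm {A B : Subgroup G} (hA : B ≤ normalizer (A : Set G)) :
    normalizer (A : Set G) ⊓ normalizer (B : Set G) ≤ normalizer (A : Set G) := inf_le_left

theorem norm_cent (X : Subgroup G) :
    normalizer (X : Set G) ≤ normalizer ((centralizer (X : Set G) : Subgroup G) : Set G) := by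
  intro g hg
  apply mem_norm_of_le
  intro c hc
  rw [mem_centralizer_iff]
  intro x hx
  have h1 : g⁻¹ * x * g ∈ (X : Set G) := by
    have := (mem_normalizer_iff.1 (inv_mem hg) x).1 hx
    rwa [inv_inv] at this
  have h2 := mem_centralizer_iff.1 hc _ h1
  calc x * (g * c * g⁻¹) = g * (g⁻¹ * x * g * c) * g⁻¹ := by group
    _ = g * (c * (g⁻¹ * x * g)) * g⁻¹ := by rw [h2]
    _ = g * c * g⁻¹ * x := by group

namespace R2

variable {S : Sylow 2 G}

theorem ne_bot (h : R2 G p S) : (S : Subgroup G) ≠ ⊥ := by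
  intro h1
  have h2 := h.card4
  change Nat.card (S : Subgroup G) = 4 at h2
  rw [h1, card_bot] at h2
  omega

theorem pgr (h : R2 G p S) {R : Subgroup G} (hR : ¬ 2 ∣ Nat.card R)
    (hSR : (S : Subgroup G) ≤ normalizer (R : Set G)) : IsPGroup p R :=
  h.pgroup_of_inv h.elem (by have := h.card4; change Nat.card (S : Subgroup G) = 4 at this; rw [this]; norm_num) hR hSR

theorem S_le_cent (h : R2 G p S) : (S : Subgroup G) ≤ centralizer ((S : Subgroup G) : Set G) := by
  intro s hs
  rw [mem_centralizer_iff]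
  intro t ht
  exact h.comm t ht s hs

theorem odd_cent (h : R2 G p S) {x : G} (hx : x ∈ centralizer ((S : Subgroup G) : Set G)) (ho : Odd (orderOf x)) :
    x ∈ cor (centralizer ((S : Subgroup G) : Set G)) := by
  refine (burn h.S_le_cent ?_).1 x hx ho
  intro g hg _ s hs
  exact (mem_centralizer_iff.1 hg s hs).symm

theorem cent_dec (h : R2 G p S) {x : G} (hx : x ∈ centralizer ((S : Subgroup G) : Set G)) :
    ∃ r ∈ cor (centralizer ((S : Subgroup G) : Set G)), ∃ s ∈ (S : Subgroup G), x = r * s := by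
  refine (burn h.S_le_cent ?_).2 x hx
  intro g hg _ s hs
  exact (mem_centralizer_iff.1 hg s hs).symm

/-- `2`-groups and `p`-groups -/
theorem disj (h : R2 G p S) {X : Subgroup G} (hX : IsPGroup p X) {x : G} (hxS : x ∈ (S : Subgroup G)) (hxX : x ∈ X) :
    x = 1 := by
  have h1 := odd_of_mem (odd_of_pgroup h.toDG hX) hxX
  obtain ⟨m, hm⟩ := h1
  have h2 : x ^ orderOf x = 1 := pow_orderOf_eq_one x
  rwa [hm, pow_succ, _root_.pow_mul, pow_two, h.sq x hxS, one_pow, one_mul] at h2

/-- the case `O(C(S)) ≠ 1` -/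
theorem case_D [IsSimpleGroup G] (hna : ∃ a b : G, a * b ≠ b * a) (h : R2 G p S)
    (hG2 : ∀ H : Subgroup G, H.index ≠ 2) (hD : cor (centralizer ((S : Subgroup G) : Set G)) ≠ ⊥) :
    ∃ (F : Type) (_ : Field F) (_ : Fintype F), (∃ n : ℕ, 2 ≤ n ∧ Fintype.card F = 2 ^ n) ∧
      Nonempty (G ≃* Matrix.ProjectiveSpecialLinearGroup (Fin 2) F) := by
  haveI := Fact.mk h.prime
  set D := cor (centralizer ((S : Subgroup G) : Set G)) with hDdef
  have hDcS : D ≤ centralizer ((S : Subgroup G) : Set G) := cor_le _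
  have hSND : (S : Subgroup G) ≤ normalizer (D : Set G) := h.S_le_cent.trans (le_norm_cor _)
  have hDp : IsPGroup p D := h.pgr (cor_odd _) hSND
  have hNSD : normalizer ((S : Subgroup G) : Set G) ≤ normalizer (D : Set G) := (norm_cent _).trans (norm_cor _)
  have hcSN : centralizer ((S : Subgroup G) : Set G) ≤ normalizer ((S : Subgroup G) : Set G) := by
    intro x hx
    apply mem_norm_of_le
    intro s hs
    rw [← mem_centralizer_iff.1 hx s hs, mul_inv_cancel_right]
    exact hs
  set C := centralizer (D : Set G) with hC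
  have hSC : (S : Subgroup G) ≤ C := by
    intro s hs
    rw [hC, mem_centralizer_iff]
    intro d hd
    exact (mem_centralizer_iff.1 (hDcS hd) s hs).symm
  obtain ⟨y, hyD, hy1⟩ : ∃ y ∈ D, y ≠ 1 := by
    by_contra hcon
    push Not at hcon
    exact hD ((Subgroup.eq_bot_iff_forall D).2 hcon)
  have hCo : ∀ x ∈ C, orderOf x ∣ 2 * p := by
    intro x hx
    exact h.cenp y x (h.order_of_pow (h.pgroup_pow hDp hyD) hy1) (mem_centralizer_iff.1 hx y hyD).symm
  have hSR1 : (S : Subgroup G) ≤ normalizer (cor C : Set G) := hSC.trans (le_norm_cor C)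
  have hR1p : IsPGroup p (cor C) := h.pgr (cor_odd _) hSR1
  have hDR1 : D ≤ normalizer (cor C : Set G) := le_normalizer.trans ((norm_cent D).trans (norm_cor C))
  have hR2p : IsPGroup p (cor C ⊔ D : Subgroup G) := hR1p.to_sup_of_normal_left' hDp hDR1
  have hSR2 : (S : Subgroup G) ≤ normalizer ((cor C ⊔ D : Subgroup G) : Set G) := fun s hs =>
    norm_sup (hSR1 hs) (hSND hs)
  obtain ⟨g, hg, hgo, hga⟩ := h.exists_rho hG2
  obtain ⟨a0, ha0, ha01, -⟩ := h.exists_ne (a := 1)
  have hgD := hNSD hg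
  have hgR2 : g ∈ normalizer ((cor C ⊔ D : Subgroup G) : Set G) :=
    norm_sup (norm_cor C (norm_cent D hgD)) hgD
  have hScR2 := h.f1 hR2p hSR2 hg hgR2 ha0 (hga a0 ha0 ha01)
  have hR1D : cor C ≤ D := by
    intro r hr
    apply h.odd_cent
    · rw [mem_centralizer_iff]
      intro s hs
      exact (mem_centralizer_iff.1 (hScR2 hs) r (mem_sup_left hr)).symm
    · exact odd_of_mem (cor_odd C) hr
  have hCN : C ≤ normalizer ((S : Subgroup G) : Set G) := by
    intro c hc
    obtain ⟨n, hn, -, k, hk, rfl⟩ := h.cent_factor S h.sq hCo hSC hc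
    exact mul_mem hn (hcSN (hDcS (hR1D hk)))
  have hNDS : normalizer (D : Set G) ≤ normalizer ((S : Subgroup G) : Set G) := by
    intro g hg
    apply mem_norm_of_le
    intro s hs
    have h1 : g * s * g⁻¹ ∈ C := (mem_normalizer_iff.1 (norm_cent D hg) s).1 (hSC hs)
    apply h.syl _ (hCN h1)
    refine ⟨1, ?_⟩
    rw [pow_one, pow_two]
    calc g * s * g⁻¹ * (g * s * g⁻¹) = g * (s * s) * g⁻¹ := by group
      _ = 1 := by rw [h.sq s hs]; group
  have hmax : ∀ P : Subgroup G, IsPGroup p P → D ≤ P → (S : Subgroup G) ≤ normalizer (P : Set G) → D = P := by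
    intro P hP hDP hSP
    by_contra hne
    obtain ⟨x, hxP, hxD, hxn⟩ := BG.exists_mem_normalizer_of_nilpotent hP.isNilpotent hDP hne
    apply hxn
    have hxS := hNDS hxD
    apply h.odd_cent _ (odd_of_mem (odd_of_pgroup h.toDG hP) hxP)
    rw [mem_centralizer_iff]
    intro s hs
    have h1 : x * s * x⁻¹ * s⁻¹ ∈ (S : Subgroup G) := mul_mem ((mem_normalizer_iff.1 hxS s).1 hs) (inv_mem hs)
    have h2 : x * s * x⁻¹ * s⁻¹ ∈ P := by
      have h3 : s * x⁻¹ * s⁻¹ ∈ P := (mem_normalizer_iff.1 (hSP hs) _).1 (inv_mem hxP)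
      have h4 := mul_mem hxP h3
      have h5 : x * (s * x⁻¹ * s⁻¹) = x * s * x⁻¹ * s⁻¹ := by group
      rwa [h5] at h4
    have h3 := h.disj hP h1 h2
    have h4 : x * s * x⁻¹ = s := mul_inv_eq_one.1 h3
    exact (mul_inv_eq_iff_eq_mul.1 h4).symm
  apply psl_of_cent hna h.exp2 h.sq h.ne_bot h.syl
  intro a ha ha1 c hc
  obtain ⟨n, hn, -, k, hk, rfl⟩ := h.cent_factor S h.sq (h.cent_ord (h.sq a ha) ha1) (h.S_cent a ha) hc
  refine mul_mem hn ?_
  change k ∈ cor (centralizer ({a} : Set G)) at hk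
  have hSK : (S : Subgroup G) ≤ normalizer (cor (centralizer ({a} : Set G)) : Set G) :=
    (h.S_cent a ha).trans (le_norm_cor _)
  have hKp : IsPGroup p (cor (centralizer ({a} : Set G))) := h.pgr (cor_odd _) hSK
  have hDK : D ≤ normalizer (cor (centralizer ({a} : Set G)) : Set G) := by
    refine le_trans ?_ (le_norm_cor _)
    intro d hd
    rw [mem_centralizer_singleton_iff]
    exact (mem_centralizer_iff.1 (hDcS hd) a ha).symm
  have h1 := hmax (cor (centralizer ({a} : Set G)) ⊔ D) (hKp.to_sup_of_normal_left' hDp hDK) le_sup_right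
    (fun s hs => norm_sup (hSK hs) (hSND hs))
  have h2 : k ∈ D := by rw [h1]; exact mem_sup_left hk
  exact hcSN (hDcS h2)

section DTriv

variable (h : R2 G p S) (hD : cor (centralizer ((S : Subgroup G) : Set G)) = ⊥)
include h hD

theorem odd_one {x : G} (hx : x ∈ centralizer ((S : Subgroup G) : Set G)) (ho : Odd (orderOf x)) : x = 1 := by
  have := h.odd_cent hx ho
  rwa [hD, mem_bot] at this

theorem cent_le {x : G} (hx : x ∈ centralizer ((S : Subgroup G) : Set G)) : x ∈ (S : Subgroup G) := by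
  obtain ⟨r, hr, s, hs, rfl⟩ := h.cent_dec hx
  rw [hD, mem_bot] at hr
  rwa [hr, one_mul]

/-- structure of `N(X)` -/
theorem norm_burn {X : Subgroup G} (hX : IsPGroup p X) (hX1 : X ≠ ⊥) (hSX : (S : Subgroup G) ≤ normalizer (X : Set G)) :
    (∀ x ∈ normalizer (X : Set G), Odd (orderOf x) → x ∈ cor (normalizer (X : Set G))) ∧
      ∀ x ∈ normalizer (X : Set G), ∃ r ∈ cor (normalizer (X : Set G)), ∃ s ∈ (S : Subgroup G), x = r * s := by
  apply burn hSX
  intro g hgX hgS s hs
  by_contra hgs
  have h1 := h.f1 hX hSX hgS hgX hs hgs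
  apply hX1
  rw [Subgroup.eq_bot_iff_forall]
  intro x hx
  apply odd_one h hD
  · rw [mem_centralizer_iff]
    intro s hs
    exact (mem_centralizer_iff.1 (h1 hs) x hx).symm
  · exact odd_of_mem (odd_of_pgroup h.toDG hX) hx

/-- distinct maximal invariant `p`-subgroups intersect trivially -/
theorem uniq : ∀ (n : ℕ) (P Q : Subgroup G),
    Maximal (fun X : Subgroup G => IsPGroup p X ∧ (S : Subgroup G) ≤ normalizer (X : Set G)) P →
    Maximal (fun X : Subgroup G => IsPGroup p X ∧ (S : Subgroup G) ≤ normalizer (X : Set G)) Q →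
    P ⊓ Q ≠ ⊥ → Nat.card G - Nat.card (P ⊓ Q : Subgroup G) ≤ n → P = Q := by
  intro n
  induction n with
  | zero =>
    intro P Q hP hQ hPQ hn
    have h1 : Nat.card (P ⊓ Q : Subgroup G) = Nat.card G := by
      have := Subgroup.card_le_card_group (P ⊓ Q)
      omega
    have h2 : P ⊓ Q = ⊤ := Subgroup.eq_top_of_card_eq _ h1
    rw [inf_eq_top_iff] at h2
    rw [h2.1, h2.2]
  | succ n ih =>
    intro P Q hP hQ hPQ hn
    by_contra hne
    set X := P ⊓ Q with hX
    have hSX : (S : Subgroup G) ≤ normalizer (X : Set G) := fun s hs => norm_inf (hP.prop.2 hs) (hQ.prop.2 hs)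
    have hXp : IsPGroup p X := hP.prop.1.to_le inf_le_left
    have hburn := norm_burn h hD hXp hPQ hSX
    set R := cor (normalizer (X : Set G)) with hR
    have hSR : (S : Subgroup G) ≤ normalizer (R : Set G) := hSX.trans (le_norm_cor _)
    have hRp : IsPGroup p R := h.pgr (cor_odd _) hSR
    obtain ⟨M, hRM, hM⟩ := (Set.toFinite {X : Subgroup G | IsPGroup p X ∧
      (S : Subgroup G) ≤ normalizer (X : Set G)}).exists_le_maximal (a := R) ⟨hRp, hSR⟩
    have key : ∀ P' : Subgroup G,
        Maximal (fun X : Subgroup G => IsPGroup p X ∧ (S : Subgroup G) ≤ normalizer (X : Set G)) P' →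
        X ≤ P' → X ≠ P' → M = P' := by
      intro P' hP' hXP' hne'
      haveI := Fact.mk h.prime
      obtain ⟨x, hxP, hxN, hxn⟩ := BG.exists_mem_normalizer_of_nilpotent hP'.prop.1.isNilpotent hXP' hne'
      have hXM : X ≤ M := by
        intro z hz
        apply hRM
        exact hburn.1 z (le_normalizer hz) (odd_of_mem (odd_of_pgroup h.toDG hXp) hz)
      have hxM : x ∈ M := hRM (hburn.1 x hxN (odd_of_mem (odd_of_pgroup h.toDG hP'.prop.1) hxP))
      have h1 : X ≤ M ⊓ P' := le_inf hXM hXP'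
      apply ih M P' hM hP'
      · intro h2
        rw [h2, le_bot_iff] at h1
        exact hPQ h1
      · have h2 : Nat.card X < Nat.card (M ⊓ P' : Subgroup G) := by
          refine lt_of_le_of_ne (Nat.card_mono (Set.toFinite _) h1) ?_
          intro h3
          have h4 : X = M ⊓ P' := Subgroup.eq_of_le_of_card_ge h1 h3.ge
          apply hxn
          rw [h4]
          exact ⟨hxM, hxP⟩
        have h3 := Subgroup.card_le_card_group (M ⊓ P')
        omega
    have e1 : M = P := by
      apply key P hP inf_le_left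
      intro h1
      have h2 : P ≤ Q := by rw [← h1]; exact inf_le_right
      exact hne (le_antisymm h2 (hP.le_of_ge hQ.prop h2))
    have e2 : M = Q := by
      apply key Q hQ inf_le_right
      intro h1
      have h2 : Q ≤ P := by rw [← h1]; exact inf_le_left
      exact hne (le_antisymm (hQ.le_of_ge hP.prop h2) h2)
    exact hne (e1.symm.trans e2)

omit hD in
/-- structure of `C(a)` -/
theorem cent_a {a : G} (ha : a ∈ (S : Subgroup G)) (ha1 : a ≠ 1) :
    (∀ x ∈ centralizer ({a} : Set G), Odd (orderOf x) → x ∈ cor (centralizer ({a} : Set G))) ∧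
      ∀ x ∈ centralizer ({a} : Set G), ∃ r ∈ cor (centralizer ({a} : Set G)), ∃ s ∈ (S : Subgroup G), x = r * s := by
  apply burn (h.S_cent a ha)
  intro g hg hgS s hs
  exact h.fix hgS ha ha1 (mem_centralizer_singleton_iff.1 hg) s hs

/-- the case `O(C(S)) = 1` -/
theorem case_one [IsSimpleGroup G] (hG2 : ∀ H : Subgroup G, H.index ≠ 2) :
    ∃ (F : Type) (_ : Field F) (_ : Fintype F), Odd (Fintype.card F) ∧
      Nonempty (G ≃* Matrix.ProjectiveSpecialLinearGroup (Fin 2) F) := by
  haveI := Fact.mk h.prime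
  haveI := Fact.mk Nat.prime_two
  obtain ⟨g, hg, hgo, hga⟩ := h.exists_rho hG2
  obtain ⟨a, ha, ha1, -⟩ := h.exists_ne (a := 1)
  have hconj : ∀ g ∈ normalizer ((S : Subgroup G) : Set G), ∀ s ∈ (S : Subgroup G), g * s * g⁻¹ ∈ (S : Subgroup G) :=
    fun g hg s hs => (mem_normalizer_iff.1 hg s).1 hs
  set b := g * a * g⁻¹ with hb
  set c := g⁻¹ * a * g⁻¹⁻¹ with hc
  have hbS : b ∈ (S : Subgroup G) := hconj g hg a ha
  have hcS : c ∈ (S : Subgroup G) := hconj g⁻¹ (inv_mem hg) a ha
  have hb1 : b ≠ 1 := by rwa [hb, ne_eq, conj_eq_one_iff]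
  have hc1 : c ≠ 1 := by rwa [hc, ne_eq, conj_eq_one_iff]
  have hba : b ≠ a := fun h1 => hga a ha ha1 (mul_inv_eq_iff_eq_mul.1 h1)
  have hca : c ≠ a := by
    intro h1
    have h2 := mul_inv_eq_iff_eq_mul.1 h1
    apply hga a ha ha1
    calc g * a = g * (a * g⁻¹) * g := by group
      _ = g * (g⁻¹ * a) * g := by rw [← h2]
      _ = a * g := by group
  have hbc : b ≠ c := by
    intro h1
    -- `g²` centralizes `a`
    have h2 : g ^ 2 ∈ centralizer ({a} : Set G) := by
      rw [mem_centralizer_singleton_iff, ← mul_inv_eq_iff_eq_mul]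
      calc g ^ 2 * a * (g ^ 2)⁻¹ = g * b * g⁻¹ := by rw [pow_two, hb]; group
        _ = g * c * g⁻¹ := by rw [h1]
        _ = a := by rw [hc]; group
    have h3 : g ^ orderOf g ∈ centralizer ({a} : Set G) := by rw [pow_orderOf_eq_one]; exact one_mem _
    have h4 : g ∈ centralizer ({a} : Set G) := mem_of_pow (Nat.coprime_two_left.2 hgo) h2 h3
    exact hga a ha ha1 (mem_centralizer_singleton_iff.1 h4)
  have habc : a = b * c := h.mul_eq hbS hcS ha hb1 hc1 ha1 hbc hba.symm hca.symm
  set K := cor (centralizer ({a} : Set G)) with hK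
  have hSK : (S : Subgroup G) ≤ normalizer (K : Set G) := (h.S_cent a ha).trans (le_norm_cor _)
  have hKp : IsPGroup p K := h.pgr (cor_odd _) hSK
  -- the main claim
  have main : K ≠ ⊥ → (∀ x ∈ K, b * x * b⁻¹ = x⁻¹) ∧ (∀ x ∈ K, c * x * c⁻¹ = x⁻¹) ∧
      ∀ Y : Subgroup G, Y ≤ K → Y ≠ ⊥ → normalizer (Y : Set G) ≤ centralizer ({a} : Set G) := by
    intro hK1
    obtain ⟨P, hKP, hP⟩ := (Set.toFinite {X : Subgroup G | IsPGroup p X ∧
      (S : Subgroup G) ≤ normalizer (X : Set G)}).exists_le_maximal (a := K) ⟨hKp, hSK⟩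
    have hP' : Maximal (fun X : Subgroup G => IsPGroup p X ∧ (S : Subgroup G) ≤ normalizer (X : Set G)) P := hP
    have hP1 : P ≠ ⊥ := fun h1 => hK1 (le_bot_iff.1 (h1 ▸ hKP))
    -- conjugates of `P`
    have hcjmax : ∀ g ∈ normalizer ((S : Subgroup G) : Set G),
        Maximal (fun X : Subgroup G => IsPGroup p X ∧ (S : Subgroup G) ≤ normalizer (X : Set G)) (cj g P) := by
      intro g hg
      have hSg : ∀ g ∈ normalizer ((S : Subgroup G) : Set G), ∀ X : Subgroup G,
          (S : Subgroup G) ≤ normalizer (X : Set G) → (S : Subgroup G) ≤ normalizer (cj g X : Set G) := by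
        intro g hg X hX s hs
        apply mem_norm_of_le
        rintro x hx
        rw [mem_cj] at hx ⊢
        have h1 : g⁻¹ * s * g⁻¹⁻¹ ∈ (S : Subgroup G) := hconj _ (inv_mem hg) s hs
        have h2 := (mem_normalizer_iff.1 (hX h1) _).1 hx
        have h3 : g⁻¹ * s * g⁻¹⁻¹ * (g⁻¹ * x * g) * (g⁻¹ * s * g⁻¹⁻¹)⁻¹ = g⁻¹ * (s * x * s⁻¹) * g := by group
        rwa [h3] at h2
      refine ⟨⟨isPGroup_cj hP'.prop.1, hSg g hg P hP'.prop.2⟩, ?_⟩
      intro Q hQ hPQ
      have h1 : cj g⁻¹ Q ≤ P := by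
        apply hP'.le_of_ge ⟨isPGroup_cj hQ.1, hSg _ (inv_mem hg) Q hQ.2⟩
        intro x hx
        rw [mem_cj]
        apply hPQ
        rw [mem_cj]
        have : g⁻¹ * (g⁻¹⁻¹ * x * g⁻¹) * g = x := by group
        rwa [this]
      intro x hx
      rw [mem_cj]
      apply h1
      rw [mem_cj]
      have : g⁻¹⁻¹ * (g⁻¹ * x * g) * g⁻¹ = x := by group
      rwa [this]
    -- `P ∩ gPg⁻¹ = 1`
    have hdis : ∀ g ∈ normalizer ((S : Subgroup G) : Set G), g * a ≠ a * g → P ⊓ cj g P = ⊥ := by
      intro g hg hga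
      by_contra hne
      have h1 := uniq h hD _ P (cj g P) hP' (hcjmax g hg) hne le_rfl
      have h2 : g ∈ normalizer (P : Set G) := mem_normalizer_iff_cj.2 h1.symm
      have h3 := h.f1 hP'.prop.1 hP'.prop.2 hg h2 ha hga
      apply hP1
      rw [Subgroup.eq_bot_iff_forall]
      intro x hx
      apply odd_one h hD
      · rw [mem_centralizer_iff]
        intro s hs
        exact (mem_centralizer_iff.1 (h3 hs) x hx).symm
      · exact odd_of_mem (odd_of_pgroup h.toDG hP'.prop.1) hx
    -- inverted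
    have hinvt : ∀ g ∈ normalizer ((S : Subgroup G) : Set G), g * a ≠ a * g →
        ∀ x ∈ P, (g * a * g⁻¹) * x * (g * a * g⁻¹)⁻¹ = x⁻¹ := by
      intro g hg hga
      set b := g * a * g⁻¹ with hb
      have hbS : b ∈ (S : Subgroup G) := hconj g hg a ha
      have hb1 : b ≠ 1 := by rwa [hb, ne_eq, conj_eq_one_iff]
      have hbP : ∀ x ∈ P, b * x * b⁻¹ ∈ P := fun x hx => (mem_normalizer_iff.1 (hP'.prop.2 hbS) x).1 hx
      have hfree : ∀ x ∈ P, b * x * b⁻¹ = x → x = 1 := by
        intro x hx hbx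
        have h1 : g⁻¹ * x * g ∈ centralizer ({a} : Set G) := by
          rw [mem_centralizer_singleton_iff]
          have h2 : b * x = x * b := mul_inv_eq_iff_eq_mul.1 hbx
          calc g⁻¹ * x * g * a = g⁻¹ * (x * b) * g := by rw [hb]; group
            _ = g⁻¹ * (b * x) * g := by rw [h2]
            _ = a * (g⁻¹ * x * g) := by rw [hb]; group
        have ho : Odd (orderOf (g⁻¹ * x * g)) := by
          have h2 : orderOf (g⁻¹ * x * g) = orderOf x := by
            have := (MulAut.conj g⁻¹).orderOf_eq x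
            rw [MulAut.conj_apply, inv_inv] at this
            exact this
          rw [h2]
          exact odd_of_mem (odd_of_pgroup h.toDG hP'.prop.1) hx
        have h2 := (h.cent_a ha ha1).1 _ h1 ho
        have h3 : x ∈ P ⊓ cj g P := ⟨hx, mem_cj.2 (hKP h2)⟩
        rw [hdis g hg hga, mem_bot] at h3
        exact h3
      have hbij : Function.Bijective (fun u : P => (⟨u.1 * (b * u.1⁻¹ * b⁻¹), mul_mem u.2 (hbP _ (inv_mem u.2))⟩ : P)) := by
        rw [← Finite.injective_iff_bijective]
        intro u v huv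
        have h1 : u.1 * (b * u.1⁻¹ * b⁻¹) = v.1 * (b * v.1⁻¹ * b⁻¹) := congrArg Subtype.val huv
        have h2 : b * (v.1⁻¹ * u.1) * b⁻¹ = v.1⁻¹ * u.1 := by
          have h3 : v.1⁻¹ * u.1 = (b * v.1⁻¹ * b⁻¹) * (b * u.1⁻¹ * b⁻¹)⁻¹ := by
            rw [eq_mul_inv_iff_mul_eq, mul_assoc, h1, inv_mul_cancel_left]
          calc b * (v.1⁻¹ * u.1) * b⁻¹ = (b * v.1⁻¹ * b⁻¹) * (b * u.1⁻¹ * b⁻¹)⁻¹ := by group
            _ = v.1⁻¹ * u.1 := h3.symm
        have h3 := hfree _ (mul_mem (inv_mem v.2) u.2) h2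
        exact Subtype.ext (inv_mul_eq_one.1 h3).symm
      intro x hx
      obtain ⟨u, hu⟩ := hbij.2 ⟨x, hx⟩
      have h1 : u.1 * (b * u.1⁻¹ * b⁻¹) = x := congrArg Subtype.val hu
      have hbb : b * b = 1 := h.sq b hbS
      have hbi : b⁻¹ = b := h.inv b hbS
      rw [← h1, hbi]
      calc b * (u.1 * (b * u.1⁻¹ * b)) * b = b * u.1 * b * u.1⁻¹ * (b * b) := by group
        _ = (b * u.1 * b⁻¹) * u.1⁻¹ := by rw [hbb, hbi, mul_one]
        _ = (u.1 * (b⁻¹⁻¹ * u.1⁻¹ * b⁻¹))⁻¹ := by group
        _ = (u.1 * (b * u.1⁻¹ * b))⁻¹ := by rw [inv_inv, hbi]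
    have hbinv := hinvt g hg (hga a ha ha1)
    have hcinv := hinvt g⁻¹ (inv_mem hg) (by
      intro h1
      exact hca (mul_inv_eq_iff_eq_mul.2 h1))
    rw [← hb] at hbinv
    rw [← hc] at hcinv
    -- `P = K`
    have hPK : P ≤ K := by
      intro x hx
      apply (h.cent_a ha ha1).1 x _ (odd_of_mem (odd_of_pgroup h.toDG hP'.prop.1) hx)
      rw [mem_centralizer_singleton_iff, eq_comm, ← mul_inv_eq_iff_eq_mul, habc]
      calc b * c * x * (b * c)⁻¹ = b * (c * x * c⁻¹) * b⁻¹ := by group
        _ = x := by rw [hcinv x hx, hbinv _ (inv_mem hx), inv_inv]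
    have hPK' : P = K := le_antisymm hPK hKP
    refine ⟨fun x hx => hbinv x (hKP hx), fun x hx => hcinv x (hKP hx), ?_⟩
    intro Y hYK hY1
    have hYp : IsPGroup p Y := hKp.to_le hYK
    have hbY : b ∈ normalizer (Y : Set G) := by
      apply mem_norm_of_le
      intro y hy
      rw [hbinv y (hKP (hYK hy))]
      exact inv_mem hy
    have hcY : c ∈ normalizer (Y : Set G) := by
      apply mem_norm_of_le
      intro y hy
      rw [hcinv y (hKP (hYK hy))]
      exact inv_mem hy
    have hSY : (S : Subgroup G) ≤ normalizer (Y : Set G) := h.le_of_two hbS hcS hb1 hc1 hbc hbY hcY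
    have hburn := norm_burn h hD hYp hY1 hSY
    have hSR : (S : Subgroup G) ≤ normalizer (cor (normalizer (Y : Set G)) : Set G) := hSY.trans (le_norm_cor _)
    have hRp : IsPGroup p (cor (normalizer (Y : Set G))) := h.pgr (cor_odd _) hSR
    obtain ⟨M, hRM, hM⟩ := (Set.toFinite {X : Subgroup G | IsPGroup p X ∧
      (S : Subgroup G) ≤ normalizer (X : Set G)}).exists_le_maximal (a := cor (normalizer (Y : Set G))) ⟨hRp, hSR⟩
    have hYM : Y ≤ M := by
      intro z hz
      apply hRM
      exact hburn.1 z (le_normalizer hz) (odd_of_mem (odd_of_pgroup h.toDG hYp) hz)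
    have hMP : M = P := by
      apply uniq h hD _ M P hM hP' _ le_rfl
      intro h1
      apply hY1
      rw [← le_bot_iff, ← h1]
      exact le_inf hYM (hYK.trans hKP)
    intro x hx
    obtain ⟨r, hr, s, hs, rfl⟩ := hburn.2 x hx
    refine mul_mem ?_ (h.S_cent a ha hs)
    have h2 : r ∈ K := by rw [← hPK', ← hMP]; exact hRM hr
    exact cor_le _ h2
  -- apply the Brauer-Suzuki-Wall theorem
  have h4 : Nat.card (S : Subgroup G) = 4 := h.card4
  have hoa : orderOf a = 2 := DG.order_two (h.sq a ha) ha1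
  haveI : IsKleinFour (S : Subgroup G) :=
    { card_four := h4
      exponent_two := by
        haveI : Nontrivial (S : Subgroup G) := (Subgroup.nontrivial_iff_ne_bot _).2 h.ne_bot
        have h5 : Monoid.exponent (S : Subgroup G) ∣ 2 :=
          Monoid.exponent_dvd_of_forall_pow_eq_one (fun s => Subtype.ext (by
            rw [pow_two]; exact h.sq s.1 s.2))
        rcases (Nat.dvd_prime Nat.prime_two).1 h5 with h6 | h6
        · exfalso
          rw [Monoid.exp_eq_one_iff] at h6
          exact not_subsingleton _ h6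
        · exact h6 }
  refine Cfsg.Agent.S0508.result S 2 le_rfl IsKleinFour.nonempty_mulEquiv a hoa ha
    (fun s hs => h.comm s hs a ha) K rfl ?_ ?_ ?_
  · intro hK1
    obtain ⟨hb2, hc2, -⟩ := main hK1
    have hbK : b ∉ (S : Subgroup G) ⊓ centralizer (K : Set G) := by
      rintro ⟨-, h5⟩
      apply hK1
      rw [Subgroup.eq_bot_iff_forall]
      intro x hx
      have h6 := mem_centralizer_iff.1 h5 x hx
      have h7 := hb2 x hx
      rw [← h6, mul_inv_cancel_right] at h7
      have h8 : x * x = 1 := by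
        nth_rewrite 1 [h7]
        exact inv_mul_cancel x
      have h9 : x ^ 2 = 1 := by rw [pow_two, h8]
      have h10 := orderOf_dvd_of_pow_eq_one h9
      rcases (Nat.dvd_prime Nat.prime_two).1 h10 with h11 | h11
      · exact orderOf_eq_one_iff.1 h11
      · exfalso
        have := odd_of_mem (odd_of_pgroup h.toDG hKp) hx
        rw [h11] at this
        exact absurd this (by decide)
    have haK : a ∈ (S : Subgroup G) ⊓ centralizer (K : Set G) := by
      refine ⟨ha, mem_centralizer_iff.2 ?_⟩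
      intro x hx
      exact mem_centralizer_singleton_iff.1 (cor_le _ hx)
    have hcard : Nat.card ((S : Subgroup G) ⊓ centralizer (K : Set G) : Subgroup G) = 2 := by
      have h5 : Nat.card ((S : Subgroup G) ⊓ centralizer (K : Set G) : Subgroup G) ∣ 4 := by
        rw [← h4]; exact Subgroup.card_dvd_of_le inf_le_left
      have h6 : 2 ∣ Nat.card ((S : Subgroup G) ⊓ centralizer (K : Set G) : Subgroup G) := by
        have h7 := Subgroup.orderOf_dvd_natCard _ haK
        rwa [hoa] at h7
      have h7 : Nat.card ((S : Subgroup G) ⊓ centralizer (K : Set G) : Subgroup G) ≠ 4 := by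
        intro h8
        have h9 : (S : Subgroup G) ⊓ centralizer (K : Set G) = S :=
          Subgroup.eq_of_le_of_card_ge inf_le_left (by rw [h4, h8])
        apply hbK
        rw [h9]
        exact hbS
      have h8 := Nat.le_of_dvd (by norm_num) h5
      interval_cases Nat.card ((S : Subgroup G) ⊓ centralizer (K : Set G) : Subgroup G) <;> omega
    constructor
    · exact isCyclic_of_prime_card hcard
    · have h5 := Subgroup.card_mul_index (((S : Subgroup G) ⊓ centralizer (K : Set G)).subgroupOf (S : Subgroup G))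
      rw [Nat.card_congr (Subgroup.subgroupOfEquivOfLe (inf_le_left :
        (S : Subgroup G) ⊓ centralizer (K : Set G) ≤ S)).toEquiv, hcard, h4] at h5
      change ((S : Subgroup G) ⊓ centralizer (K : Set G)).relIndex (S : Subgroup G) = 2
      rw [Subgroup.relIndex]
      omega
  · intro s hs hsK y hy
    have hK1 : K ≠ ⊥ := by
      rintro h5
      apply hsK
      rw [mem_centralizer_iff]
      intro x hx
      rw [h5, SetLike.mem_coe, mem_bot] at hx
      rw [hx, one_mul, mul_one]
    obtain ⟨hb2, hc2, -⟩ := main hK1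
    have hs1 : s ≠ 1 := by
      rintro rfl
      exact hsK (one_mem _)
    have hsa : s ≠ a := by
      rintro rfl
      apply hsK
      rw [mem_centralizer_iff]
      intro x hx
      exact mem_centralizer_singleton_iff.1 (cor_le _ hx)
    rcases eq_or_ne s b with rfl | hsb
    · exact hb2 y hy
    rcases eq_or_ne s c with rfl | hsc
    · exact hc2 y hy
    exfalso
    apply hsa
    rw [h.mul_eq hbS hcS hs hb1 hc1 hs1 hbc hsb hsc, habc]
  · intro Y hY hY1
    exact (main (fun h5 => hY1 (le_bot_iff.1 (h5 ▸ hY)))).2.2 Y hY hY1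

end DTriv

end R2

/-- **Main theorem on the class (D).** -/
theorem main [IsSimpleGroup G] (hna : ∃ a b : G, a * b ≠ b * a) (h : DG G p) :
    ∃ (F : Type) (_ : Field F) (_ : Fintype F),
      Nonempty (G ≃* Matrix.ProjectiveSpecialLinearGroup (Fin 2) F) := by
  haveI := Fact.mk Nat.prime_two
  have S : Sylow 2 G := default
  obtain ⟨n, hn⟩ := IsPGroup.iff_card.1 S.2
  have hS : ∀ s ∈ (S : Subgroup G), s * s = 1 := by
    intro s hs
    obtain ⟨k, hk⟩ := S.2 ⟨s, hs⟩
    exact h.exp2 s ⟨k, congrArg Subtype.val hk⟩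
  have hG2 : ∀ H : Subgroup G, H.index ≠ 2 := by
    intro H hH
    haveI := normal_of_index_eq_two hH
    rcases (inferInstance : H.Normal).eq_bot_or_eq_top with h1 | h1
    · subst h1
      rw [index_bot] at hH
      obtain ⟨a, b, hab⟩ := hna
      haveI : IsCyclic G := isCyclic_of_prime_card hH
      exact hab (mul_comm' a b)
    · subst h1
      rw [index_top] at hH
      omega
  have hinv : ∀ s ∈ (S : Subgroup G), s⁻¹ = s := fun s hs => inv_eq_of_mul_eq_one_left (hS s hs)
  have hcomm : ∀ a ∈ (S : Subgroup G), ∀ b ∈ (S : Subgroup G), a * b = b * a := by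
    intro a ha b hb
    have h1 := hinv _ (mul_mem ha hb)
    rw [mul_inv_rev, hinv a ha, hinv b hb] at h1
    exact h1.symm
  -- `n ≥ 2`
  have hn2 : 2 ≤ n := by
    by_contra hlt
    have h01 : n = 0 ∨ n = 1 := by omega
    rcases h01 with rfl | rfl
    · rw [pow_zero] at hn
      have hSb : (S : Subgroup G) = ⊥ := Subgroup.eq_bot_of_card_eq _ hn
      have hodd : Odd (Nat.card G) := by
        rw [← Nat.not_even_iff_odd, even_iff_two_dvd]
        intro h2
        exact S.ne_bot_of_dvd_card h2 hSb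
      have hsol : Group.IsSolvable G := Cfsg.Agent.FT.solvable_of_odd hodd
      obtain ⟨a, b, hab⟩ := hna
      exact hab (IsSimpleGroup.comm_iff_isSolvable.2 hsol a b)
    · rw [pow_one] at hn
      have h2 := syl_eq_comm hG2 S hS ⊥ bot_le (by
        intro g hg s hs
        rcases eq_or_ne s 1 with rfl | hs1
        · simp
        · have h3 : g * s * g⁻¹ = s := by
            have h4 : g * s * g⁻¹ ∈ (S : Subgroup G) := (mem_normalizer_iff.1 hg s).1 hs
            have h5 : g * s * g⁻¹ ≠ 1 := by rwa [ne_eq, conj_eq_one_iff]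
            by_contra hne
            haveI : Fintype (S : Subgroup G) := Fintype.ofFinite _
            classical
            have h6 : ({1, ⟨s, hs⟩, ⟨_, h4⟩} : Finset (S : Subgroup G)).card ≤ Nat.card (S : Subgroup G) := by
              rw [Nat.card_eq_fintype_card]
              exact Finset.card_le_univ _
            rw [hn] at h6
            rw [Finset.card_insert_of_notMem, Finset.card_insert_of_notMem, Finset.card_singleton] at h6
            · omega
            · simp only [Finset.mem_singleton, Subtype.mk.injEq]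
              exact fun h7 => hne h7.symm
            · simp only [Finset.mem_insert, Finset.mem_singleton, not_or]
              exact ⟨fun h7 => hs1 (congrArg Subtype.val h7).symm, fun h7 => h5 (congrArg Subtype.val h7).symm⟩
          rw [mem_bot, hinv s hs, h3, hS s hs])
      rw [← h2, card_bot] at hn
      omega
  rcases Nat.lt_or_ge n 3 with h3 | h3
  · have h2 : R2 G p S := ⟨h, by
      have : n = 2 := by omega
      subst this
      rw [hn]; norm_num⟩
    by_cases hD : cor (centralizer ((S : Subgroup G) : Set G)) = ⊥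
    · obtain ⟨F, i1, i2, -, h5⟩ := h2.case_one hD hG2
      exact ⟨F, i1, i2, h5⟩
    · obtain ⟨F, i1, i2, -, h5⟩ := h2.case_D hna hG2 hD
      exact ⟨F, i1, i2, h5⟩
  · obtain ⟨F, i1, i2, -, h5⟩ := rank_three hna h S (by rw [hn]; exact Nat.pow_le_pow_right (by norm_num) h3)
    exact ⟨F, i1, i2, h5⟩

end Cfsg.Agent.CIT.TwoP
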