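import Mathlib
import Cfsg.Agent.CIT.Cases
import Cfsg.Agent.H65.SelfCentC
import Cfsg.Agent.H65.SelfCentD
import Cfsg.Agent.H21.TFWr

set_option autoImplicit false

/-!
# CIT groups XVII: `q = 2`, dihedral Sylow subgroups
-/

namespace Cfsg.Agent.CIT

open Subgroup Cfsg.Agent.H80 Cfsg.Agent.H32
open scoped commutatorElement

universe u

variable {G : Type u} [Group G] [Finite G]

theorem qd_pow {S : Type*} [Group S] {m : ℕ} (d : H20.QDData S m) {x : S} (hxx : x * x ≠ 1) {k : ℕ}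
    (hk : orderOf x = 2 ^ (k + 1)) : x ^ 2 ^ k = d.e (2 ^ (m + 2)) := by
  have hww : x ^ 2 ^ k * x ^ 2 ^ k = 1 := by
    rw [← pow_two, ← pow_mul, ← pow_succ, ← hk, pow_orderOf_eq_one]
  have hw1 : x ^ 2 ^ k ≠ 1 := by
    intro h
    have h1 := orderOf_dvd_of_pow_eq_one h
    rw [hk, Nat.pow_dvd_pow_iff_le_right (by norm_num)] at h1
    omega
  rcases k with _ | k
  · exfalso
    apply hxx
    rw [pow_zero, pow_one] at hww
    exact hww
  have hsq : x ^ 2 ^ (k + 1) = x ^ 2 ^ k * x ^ 2 ^ k := by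
    rw [← pow_two, ← pow_mul, ← pow_succ]
  obtain ⟨i, hi⟩ : ∃ i, x ^ 2 ^ (k + 1) = d.e i := by
    rw [hsq]
    rcases d.cases (x ^ 2 ^ k) with ⟨i, hi⟩ | ⟨i, hi⟩
    · exact ⟨i + i, by rw [hi, d.e_add]⟩
    · exact ⟨_, by rw [hi, d.ey_sq]⟩
  rcases d.sq_eq_one_iff.1 hww with h | h | ⟨j, h⟩
  · exact absurd h hw1
  · exact h
  · exact absurd (hi.symm.trans h) (d.e_ne_ey _ _)

theorem no_quasidihedral [IsSimpleGroup G] (hna : ¬ IsMulCommutative G) (hG : IsCIT G) (S : Sylow 2 G)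
    (hS : Cfsg.IsQuasiDihedral (S : Subgroup G)) : False := by
  haveI : Fact (Nat.Prime 2) := ⟨Nat.prime_two⟩
  obtain ⟨m, hcard, ⟨d⟩⟩ := H20.QDData.exists_of_isQuasiDihedral hS
  set z' : (S : Subgroup G) := d.e (2 ^ (m + 2)) with hz'
  set z : G := (z' : G) with hzdef
  have hcen : ∀ s ∈ (S : Subgroup G), s * z = z * s := by
    intro s hs
    exact (congrArg Subtype.val (d.e_h_comm ⟨s, hs⟩)).symm
  have hoz : orderOf z = 2 := by rw [hzdef, Subgroup.orderOf_coe]; exact d.orderOf_e_h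
  set C := centralizer ({z} : Set G) with hC
  have hSC : (S : Subgroup G) ≤ C := by
    intro s hs
    rw [hC, mem_centralizer_singleton_iff]
    exact hcen s hs
  have hCp : IsPGroup 2 C := hG z hoz
  have hCS : C = S := S.is_maximal' hCp hSC
  have hpow : ∀ {x : G}, x ∈ (S : Subgroup G) → x * x ≠ 1 → ∀ {k : ℕ}, orderOf x = 2 ^ (k + 1) → x ^ 2 ^ k = z := by
    intro x hx hxx k hk
    have h1 := qd_pow d (x := ⟨x, hx⟩) (fun h => hxx (congrArg Subtype.val h)) (k := k)
      (by rw [Subgroup.orderOf_mk]; exact hk)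
    exact congrArg Subtype.val h1
  have hfoc : (S : Subgroup G).focalSubgroup = S := by
    rw [← Subgroup.commutator_inf_eq_focalSubgroup S, BSW.commutator_eq_top (H65.not_cyclic_of_na hna), top_inf_eq]
  have hle : (S : Subgroup G).focalSubgroup ≤ d.chiHom.ker.map (S : Subgroup G).subtype := by
    rw [focalSubgroup_def, closure_le]
    rintro g ⟨hgS, x, hxS, u, hg⟩
    refine ⟨⟨g, hgS⟩, ?_, rfl⟩
    rw [SetLike.mem_coe]
    have hux : u * x * u⁻¹ ∈ (S : Subgroup G) := by
      have h1 : (x⁻¹ * g)⁻¹ ∈ (S : Subgroup G) := inv_mem (mul_mem (inv_mem hxS) hgS)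
      have h2 : (x⁻¹ * g)⁻¹ = u * x * u⁻¹ := by
        rw [hg, commutatorElement_def]; group
      rwa [h2] at h1
    by_cases hxx : x * x = 1
    · have h1 : (⟨g, hgS⟩ : (S : Subgroup G)) = ⟨x, hxS⟩ * (⟨u * x * u⁻¹, hux⟩)⁻¹ := by
        apply Subtype.ext
        show g = x * (u * x * u⁻¹)⁻¹
        rw [hg, commutatorElement_def]; group
      rw [h1]
      apply mul_mem
      · rw [d.mem_ker]; exact d.chi_of_sq (Subtype.ext hxx)
      · apply inv_mem
        rw [d.mem_ker]
        apply d.chi_of_sq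
        apply Subtype.ext
        show u * x * u⁻¹ * (u * x * u⁻¹) = 1
        calc u * x * u⁻¹ * (u * x * u⁻¹) = u * (x * x) * u⁻¹ := by group
          _ = 1 := by rw [hxx]; group
    · obtain ⟨k, hk⟩ : ∃ k, orderOf x = 2 ^ (k + 1) := by
        obtain ⟨j, hj⟩ := S.isPGroup'.exists_orderOf_eq_pow ⟨x, hxS⟩
        rw [Subgroup.orderOf_mk] at hj
        rcases j with _ | k
        · exfalso
          rw [pow_zero, orderOf_eq_one_iff] at hj
          exact hxx (by rw [hj, one_mul])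
        · exact ⟨k, hj⟩
      have h1 := hpow hxS hxx hk
      have h2 : (u * x * u⁻¹) ^ 2 ^ k = z := by
        refine hpow hux ?_ ?_
        · intro h
          apply hxx
          have h3 : u * (x * x) * u⁻¹ = 1 := by
            rw [← h]; group
          rwa [conj_eq_one_iff] at h3
        · rw [← hk]
          have : u * x * u⁻¹ = MulAut.conj u x := rfl
          rw [this, MulEquiv.orderOf_eq]
      have huC : u ∈ (S : Subgroup G) := by
        rw [← hCS, hC, mem_centralizer_singleton_iff]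
        rw [conj_pow, h1, mul_inv_eq_iff_eq_mul] at h2
        exact h2
      have h3 : (⟨g, hgS⟩ : (S : Subgroup G)) = ⁅(⟨x, hxS⟩ : (S : Subgroup G)), ⟨u, huC⟩⁆ := by
        apply Subtype.ext
        show g = ⁅x, u⁆
        exact hg
      rw [h3, MonoidHom.mem_ker, map_commutatorElement, commutatorElement_eq_one_iff_mul_comm]
      exact mul_comm _ _
  rw [hfoc] at hle
  obtain ⟨s, hs, hse⟩ := hle (d.e 1).2
  have : s = d.e 1 := Subtype.ext hse
  rw [this, SetLike.mem_coe, d.mem_ker] at hs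
  exact d.chi_e_one hs

/-- dihedral Sylow subgroups -/
theorem psl_of_dihedral [IsSimpleGroup G] (hna : ¬ IsMulCommutative G) (hG : IsCIT G) (S : Sylow 2 G) (n : ℕ)
    (hn : 2 ≤ n) (hS : Nonempty ((S : Subgroup G) ≃* DihedralGroup n)) :
    ∃ (F : Type) (_ : Field F) (_ : Fintype F), Odd (Fintype.card F) ∧
      Nonempty (G ≃* Matrix.ProjectiveSpecialLinearGroup (Fin 2) F) := by
  haveI : Fact (Nat.Prime 2) := ⟨Nat.prime_two⟩
  have hSne : (S : Subgroup G) ≠ ⊥ := by
    intro hh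
    obtain ⟨e⟩ := hS
    have h1 : Nat.card (S : Subgroup G) = 2 * n := by
      rw [Nat.card_congr e.toEquiv, DihedralGroup.nat_card]
    rw [hh, Subgroup.card_bot] at h1
    omega
  obtain ⟨z, hz, hz1, hzc⟩ := exists_fixed_of_normalize S.2 S.2 hSne le_normalizer
  obtain ⟨j, hj⟩ := exists_pow_two hz1 (orderOf_of_isPGroup S.2 hz)
  have hCp : IsPGroup 2 (centralizer ({z ^ j} : Set G)) := hG _ hj
  have hO : Cfsg.oddCore (centralizer ({z ^ j} : Set G)) = ⊥ := by
    have h1 : IsPGroup 2 (Cfsg.oddCore (centralizer ({z ^ j} : Set G))) := hCp.to_subgroup _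
    have h2 : Odd (Nat.card (Cfsg.oddCore (centralizer ({z ^ j} : Set G)))) :=
      Nat.coprime_two_right.1 (Cfsg.Agent.Solv.pPrimeCore_card_coprime 2)
    obtain ⟨k, hk⟩ := IsPGroup.iff_card.mp h1
    apply Subgroup.eq_bot_of_card_le
    rcases Nat.eq_zero_or_pos k with rfl | hk0
    · rw [hk, pow_zero]
    · rw [hk] at h2
      exact absurd h2 (Nat.not_odd_iff_even.mpr ((Nat.even_pow).mpr ⟨even_two, hk0.ne'⟩))
  obtain ⟨K, s, hK⟩ := BSW.exists_conf (H65.index_ne_two hna) S n hn hS (z ^ j) hj (pow_mem hz j) (by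
      intro s hs
      have : Commute s z := hzc s hs
      exact this.pow_right j) ⊥ (by rw [hO, Subgroup.map_bot]) (fun h => absurd rfl h) (by
      intro s _ hs y hy
      rw [mem_bot] at hy
      rw [hy]; simp) (by
      intro Y hY hYne
      exact absurd (le_bot_iff.1 hY) hYne)
  exact BSW.psl_of_conf_simple hK

/-- transport of the centralizer condition -/
theorem qcond_of_psl (hG : IsCIT G) (hev : ∃ z : G, orderOf z = 2) {F : Type} [Field F] [Fintype F]
    (hodd : Odd (Fintype.card F)) (e : G ≃* Matrix.ProjectiveSpecialLinearGroup (Fin 2) F) :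
    Fintype.card F = 9 ∨ (∃ n : ℕ, Fintype.card F = 2 ^ n) ∨
      ((Fintype.card F).Prime ∧ ∃ k : ℕ, Fintype.card F = 2 ^ k + 1 ∨ Fintype.card F + 1 = 2 ^ k) := by
  obtain ⟨z, hz⟩ := hev
  have hC := hG z hz
  have h1 : orderOf (e z) = 2 := by rw [MulEquiv.orderOf_eq, hz]
  have h2 : IsPGroup 2 (centralizer ({e z} : Set (Matrix.ProjectiveSpecialLinearGroup (Fin 2) F))) := by
    rintro ⟨y, hy⟩
    have hy' := mem_centralizer_singleton_iff.1 hy
    obtain ⟨x, rfl⟩ := e.surjective y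
    have hx : x ∈ centralizer ({z} : Set G) := by
      rw [mem_centralizer_singleton_iff]
      apply e.injective
      rw [map_mul, map_mul, hy']
    obtain ⟨k, hk⟩ := hC ⟨x, hx⟩
    refine ⟨k, Subtype.ext ?_⟩
    have hk' : x ^ 2 ^ k = 1 := congrArg Subtype.val hk
    show e x ^ 2 ^ k = 1
    rw [← map_pow, hk', map_one]
  rcases H65.qCond_of_two_centralizer hodd h1 h2 with h3 | ⟨h3, k, h4 | h4⟩
  · exact Or.inl h3
  · exact Or.inr (Or.inr ⟨h3, k, Or.inl h4⟩)
  · refine Or.inr (Or.inr ⟨h3, k, Or.inr ?_⟩)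
    have : 1 ≤ 2 ^ k := Nat.one_le_two_pow
    omega

/-- the case `q = 2` -/
theorem Pair.psl_two [IsSimpleGroup G] (hna : ¬ IsMulCommutative G) (hG : IsCIT G) (S : Sylow 2 G)
    {T W W' : Subgroup G} (h : Pair T W W') (hTS : T ≤ (S : Subgroup G)) (hq : Nat.card (Om T) = 2) :
    ∃ (F : Type) (_ : Field F) (_ : Fintype F),
        (Fintype.card F = 9 ∨ (∃ n : ℕ, Fintype.card F = 2 ^ n) ∨
          ((Fintype.card F).Prime ∧ ∃ k : ℕ, Fintype.card F = 2 ^ k + 1 ∨ Fintype.card F + 1 = 2 ^ k)) ∧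
        Nonempty (G ≃* Matrix.ProjectiveSpecialLinearGroup (Fin 2) F) := by
  have hWS : W ≤ (S : Subgroup G) := h.le.trans hTS
  have hcW : Nat.card W = 4 := by rw [h.card_W, hq]; norm_num
  have hcT : Nat.card T = 8 := by rw [h.card_T, hq]; norm_num
  set V := W.subgroupOf (S : Subgroup G) with hV
  have hV4 : Nat.card V = 4 := by
    rw [← hcW]
    exact Nat.card_congr (Subgroup.subgroupOfEquivOfLe hWS).toEquiv
  have hVe : ∀ v ∈ V, v * v = 1 := fun v hv => Subtype.ext (h.nat.vtx.two v hv)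
  have hVc : Subgroup.centralizer (V : Set (S : Subgroup G)) = V := by
    apply le_antisymm
    · intro x hx
      have h1 : (x : G) ∈ centralizer (W : Set G) := by
        rw [mem_centralizer_iff]
        intro w hw
        exact congrArg Subtype.val (mem_centralizer_iff.mp hx ⟨w, hWS hw⟩ hw)
      rw [h.CW] at h1
      exact h1
    · intro x hx
      rw [mem_centralizer_iff]
      intro y hy
      exact Subtype.ext (comm_of_two h.nat.vtx.two hy hx)
  have hVX : V ≠ ⊤ := by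
    intro hh
    have h1 := Subgroup.card_le_of_le hTS
    have h2 : Nat.card V = Nat.card (S : Subgroup G) := by rw [hh, Subgroup.card_top]
    rw [hcT, ← h2, hV4] at h1
    norm_num at h1
  have hev : ∃ z : G, orderOf z = 2 := by
    obtain ⟨z, hz, -, hz1⟩ := h.nat.exists_mem
    exact ⟨z, orderOf_eq_prime (by rw [pow_two]; exact h.nat.vtx.two z hz) hz1⟩
  rcases Cfsg.Agent.H21.TF.maxClass_of_selfCent S.isPGroup' V hV4 hVe hVc hVX with ⟨m, hm, h1⟩ | h1
  · obtain ⟨F, i1, i2, hodd, ⟨e⟩⟩ := psl_of_dihedral hna hG S m hm h1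
    exact ⟨F, i1, i2, qcond_of_psl hG hev hodd e, ⟨e⟩⟩
  · exact absurd (no_quasidihedral hna hG S h1) id

end Cfsg.Agent.CIT
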