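import Mathlib
import Cfsg.Agent.CIT.Cases
import Cfsg.Agent.H80.Index2

set_option autoImplicit false

/-!
# CIT groups XI: for `q = 4` the subgroup `T` is Sylow
-/

namespace Cfsg.Agent.CIT

open Subgroup Cfsg.Agent.H80 Cfsg.Agent.H32

variable {G : Type*} [Group G] [Finite G]

/-- all elements of `V` are conjugate into the root subgroup -/
theorem NatV.exists_conj_root (hG : IsCIT G) {T V : Subgroup G} (h : NatV T V) {v : G} (hv : v ∈ V) (hv1 : v ≠ 1) :
    ∃ n ∈ normalizer (V : Set G), n * v * n⁻¹ ∈ centralizer (T : Set G) := by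
  haveI : Fact (Nat.Prime 2) := ⟨Nat.prime_two⟩
  obtain ⟨x, hx, hxT⟩ := h.ex
  set U := H80.cj x T with hU
  have hUs : IsSylowIn 2 U (normalizer (V : Set G)) := by
    have := h.syl.cj x
    rwa [cj_self_of_mem hx] at this
  have hne : U ≠ T := fun hh => hxT (mem_normalizer_iff_cj.mpr hh)
  obtain ⟨z, hz, hzT, u, hu, huU, rfl⟩ := h.exists_mul hG hUs hne hv
  by_cases hu1 : u = 1
  · subst hu1
    exact ⟨1, one_mem _, by simpa using hzT⟩
  by_cases hz1 : z = 1
  · subst hz1
    refine ⟨x⁻¹, inv_mem hx, ?_⟩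
    rw [one_mul]
    apply conj_mem_centralizer (U := U) _ huU
    rw [hU, cj_inv_cj]
  · have hV := h.of_syl hG hUs
    have hzU : z ∉ centralizer (U : Set G) := fun hh => hz1 (h.disj' hG hUs hne hz hzT hh)
    obtain ⟨t', ht', e⟩ := hV.reg z hz hzU u hu huU
    refine ⟨t'⁻¹, inv_mem (hUs.2.1 ht'), ?_⟩
    rw [← e]
    have : t'⁻¹ * (t' * z * t'⁻¹) * t'⁻¹⁻¹ = z := by group
    rw [this]; exact hzT

/-- all nontrivial elements of `V` are conjugate to a given element of the root subgroup -/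
theorem NatV.exists_conj_eq (hG : IsCIT G) {T V : Subgroup G} (h : NatV T V) {v z : G} (hv : v ∈ V) (hv1 : v ≠ 1)
    (hz : z ∈ V) (hzT : z ∈ centralizer (T : Set G)) (hz1 : z ≠ 1) :
    ∃ n ∈ normalizer (V : Set G), n * v * n⁻¹ = z := by
  obtain ⟨n, hn, hnv⟩ := h.exists_conj_root hG hv hv1
  have h1 : n * v * n⁻¹ ∈ V := (mem_normalizer_iff_conj.mp hn v).mp hv
  have h2 : n * v * n⁻¹ ≠ 1 := by
    intro hh
    apply hv1
    have : v = n⁻¹ * (n * v * n⁻¹) * n := by group
    rw [this, hh]; group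
  obtain ⟨m, hm, -, hmv⟩ := h.trans _ h1 hnv h2 z hz hzT hz1
  exact ⟨m * n, mul_mem hm hn, by rw [← hmv]; group⟩

section
variable {S T W W' : Subgroup G}

/-- an element outside `T` normalizing `T` swaps `W` and `W'` -/
theorem Pair.swap_of (h : Pair T W W') (hTS : T ≤ S) (hSp : IsPGroup 2 S) {x : G} (hxS : x ∈ S)
    (hxT : x ∉ T) (hxN : x ∈ normalizer (T : Set G)) : cj x W = W' ∧ cj x W' = W := by
  rcases h.cj_or hxN with h1 | h1
  · exfalso
    apply hxT
    have h2 := h.nat.syl.2.2 (S ⊓ (normalizer (T : Set G) ⊓ normalizer (W : Set G))) (hSp.to_le inf_le_left)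
      (inf_le_right.trans inf_le_right) (le_inf hTS (le_inf le_normalizer h.nat.syl.2.1))
    rw [← h2]
    exact ⟨hxS, hxN, mem_normalizer_iff_cj.mpr h1.1⟩
  · exact h1

theorem Pair.mem_of_fix (h : Pair T W W') (hTS : T ≤ S) (hSp : IsPGroup 2 S) {x : G} (hxS : x ∈ S)
    (hxN : x ∈ normalizer (T : Set G)) (hx : cj x W = W) : x ∈ T := by
  by_contra hxT
  exact h.ne_symm (hx.symm.trans (h.swap_of hTS hSp hxS hxT hxN).1)

/-- large elementary subgroups lie in `T` -/
theorem Pair.elem_le (h : Pair T W W') (hTS : T ≤ S) (hSp : IsPGroup 2 S) (hq : Nat.card (Om T) = 4)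
    {A : Subgroup G} (hA : A ≤ S ⊓ normalizer (T : Set G)) (hA2 : ∀ a ∈ A, a * a = 1)
    (hc : 16 ≤ Nat.card A) : A ≤ T := by
  by_contra hcon
  obtain ⟨a, ha, haT⟩ := SetLike.not_le_iff_exists.mp hcon
  have hsw := h.swap_of hTS hSp (hA ha).1 haT (hA ha).2
  have hcen : cj a (A ⊓ T) ≤ A ⊓ T := by
    intro x hx
    rw [mem_cj] at hx
    have h1 := comm_of_two hA2 ha hx.1
    have : a⁻¹ * x * a = x := by
      have h2 : a * (a⁻¹ * x * a) = (a⁻¹ * x * a) * a := h1
      have h3 : x * a = a⁻¹ * x * a * a := by rw [← h2]; group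
      exact (mul_right_cancel h3).symm
    rwa [this] at hx
  have hcen2 : cj a (A ⊓ T) = A ⊓ T := Subgroup.eq_of_le_of_card_ge hcen (by rw [card_cj])
  have h4 : A ⊓ T ≤ Om T := by
    rw [← h.inf]
    rcases h.le_or (A := A ⊓ T) inf_le_right (fun x hx => hA2 x hx.1) with h5 | h5
    · refine le_inf h5 ?_
      have := cj_mono a h5
      rwa [hcen2, hsw.1] at this
    · refine le_inf ?_ h5
      have := cj_mono a h5
      rwa [hcen2, hsw.2] at this
  have h6 : Nat.card (A ⊓ T : Subgroup G) ≤ 4 := hq ▸ Subgroup.card_le_of_le h4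
  -- A has at most twice as many elements
  have h7 : Nat.card A ≤ 2 * Nat.card (A ⊓ T : Subgroup G) := by
    let f : A → Bool × (A ⊓ T : Subgroup G) := fun x =>
      open Classical in
      if hx : (x : G) ∈ T then (true, ⟨x, x.2, hx⟩) else (false, ⟨a * x, mul_mem ha x.2, by
        apply h.mem_of_fix hTS hSp (mul_mem (hA ha).1 (hA x.2).1) (mul_mem (hA ha).2 (hA x.2).2)
        have h8 := h.swap_of hTS hSp (hA x.2).1 hx (hA x.2).2
        rw [cj_mul, h8.1, hsw.2]⟩)
    have hf : Function.Injective f := by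
      intro x y hxy
      by_cases hx : (x : G) ∈ T
      · by_cases hy : (y : G) ∈ T
        · simp only [f, dif_pos hx, dif_pos hy, Prod.mk.injEq, true_and, Subtype.mk.injEq] at hxy
          exact Subtype.ext (congrArg (fun w : (A ⊓ T : Subgroup G) => (w : G)) hxy)
        · simp [f, dif_pos hx, dif_neg hy] at hxy
      · by_cases hy : (y : G) ∈ T
        · simp [f, dif_neg hx, dif_pos hy] at hxy
        · simp only [f, dif_neg hx, dif_neg hy, Prod.mk.injEq, true_and, Subtype.mk.injEq] at hxy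
          exact Subtype.ext (mul_left_cancel (a := a) (congrArg (fun w : (A ⊓ T : Subgroup G) => (w : G)) hxy))
    have := Nat.card_le_card_of_injective f hf
    rwa [Nat.card_prod, Nat.card_eq_fintype_card (α := Bool), Fintype.card_bool] at this
  omega

/-- for `q = 4` a Sylow subgroup normalizes `T` -/
theorem Pair.le_normalizer_T (h : Pair T W W') (hTS : T ≤ S) (hSp : IsPGroup 2 S) (hq : Nat.card (Om T) = 4) :
    S ≤ normalizer (T : Set G) := by
  haveI : Fact (Nat.Prime 2) := ⟨Nat.prime_two⟩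
  by_contra hcon
  have hlt : S ⊓ normalizer (T : Set G) < S := by
    apply lt_of_le_of_ne inf_le_left
    intro hh
    exact hcon (hh ▸ inf_le_right)
  obtain ⟨g, hgS, hg1, hgN⟩ := exists_mem_normalizer_of_lt hSp hlt
  apply hg1
  refine ⟨hgS, ?_⟩
  have hcard : ∀ {U U' : Subgroup G}, Pair T U U' → 16 ≤ Nat.card (cj g U) := by
    intro U U' hU
    rw [card_cj, hU.card_W, hq]; norm_num
  have key : ∀ {U U' : Subgroup G}, Pair T U U' → cj g U ≤ T := by
    intro U U' hU
    apply hU.elem_le hTS hSp hq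
    · have h1 := cj_mono g (le_inf (hU.le.trans hTS) (hU.le.trans le_normalizer) :
        U ≤ S ⊓ normalizer (T : Set G))
      rwa [mem_normalizer_iff_cj.mp hgN] at h1
    · exact (hU.nat.vtx.cj g).two
    · exact hcard hU
  show g ∈ normalizer (T : Set G)
  rw [mem_normalizer_iff_cj]
  apply Subgroup.eq_of_le_of_card_ge _ (by rw [card_cj])
  rw [cj_le_iff, ← h.sup, sup_le_iff, ← cj_le_iff, ← cj_le_iff, h.sup]
  exact ⟨key h, key h.symm⟩

/-- there is an involution outside `T`, acting nontrivially on the root subgroup -/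
theorem Pair.exists_inv (hG : IsCIT G) (h : Pair T W W') (hTS : T < S)
    (hSp : IsSylowIn 2 S (normalizer (T : Set G))) (hq : Nat.card (Om T) = 4) :
    ∃ s ∈ S, s ∉ T ∧ s * s = 1 ∧ ∃ z ∈ Om T, s * z ≠ z * s := by
  haveI : Fact (Nat.Prime 2) := ⟨Nat.prime_two⟩
  haveI : Fact (Nat.Prime 3) := ⟨Nat.prime_three⟩
  have hSN := hSp.2.1
  obtain ⟨g, hgS, hgT⟩ := SetLike.exists_of_lt hTS
  have hgN := hSN hgS
  have hgsw := h.swap_of hTS.le hSp.1 hgS hgT hgN
  set B : Subgroup G := normalizer (W : Set G) ⊓ normalizer (T : Set G) with hB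
  have hBcard : Nat.card B = 3 * 64 := by
    have h1 := h.nat.card_NT hG
    rw [h.inf_eq, hq, h.card_T, hq] at h1
    rw [hB, h1]; norm_num
  have hBW' : B = normalizer (W' : Set G) ⊓ normalizer (T : Set G) := by
    ext x
    constructor
    · rintro ⟨h1, h2⟩
      refine ⟨?_, h2⟩
      rcases h.cj_or h2 with h3 | h3
      · exact mem_normalizer_iff_cj.mpr h3.2
      · exact absurd ((mem_normalizer_iff_cj.mp h1).symm.trans h3.1) h.ne_symm
    · rintro ⟨h1, h2⟩
      refine ⟨?_, h2⟩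
      rcases h.cj_or h2 with h3 | h3
      · exact mem_normalizer_iff_cj.mpr h3.1
      · exact absurd (h3.2.symm.trans (mem_normalizer_iff_cj.mp h1)) h.ne_symm
  have hgB : cj g B = B := by
    conv_rhs => rw [hBW']
    rw [hB, cj_inf, ← normalizer_cj, ← normalizer_cj, hgsw.1, mem_normalizer_iff_cj.mp hgN]
  obtain ⟨k0, hk0⟩ := exists_prime_orderOf_dvd_card' (G := B) 3 (by rw [hBcard]; exact dvd_mul_right _ _)
  have hk3 : orderOf (k0 : G) = 3 := by rw [Subgroup.orderOf_coe, hk0]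
  set k : G := (k0 : G) with hk
  have hKp : IsPGroup 3 (zpowers k) := by
    apply IsPGroup.of_card (n := 1)
    rw [Nat.card_zpowers, hk3, pow_one]
  have hKB : zpowers k ≤ B := zpowers_le.mpr k0.2
  have hKsyl : IsSylowIn 3 (zpowers k) B := by
    refine ⟨hKp, hKB, fun R hR hRB hKR => ?_⟩
    apply (Subgroup.eq_of_le_of_card_ge hKR _).symm
    rw [Nat.card_zpowers, hk3]
    obtain ⟨n, hn⟩ := IsPGroup.iff_card.mp hR
    have h1 : Nat.card R ∣ 3 * 64 := hBcard ▸ Subgroup.card_dvd_of_le hRB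
    rw [hn] at h1 ⊢
    by_contra hlt
    push Not at hlt
    have h2 : 2 ≤ n := by
      by_contra h3
      have : n = 0 ∨ n = 1 := by omega
      rcases this with rfl | rfl <;> norm_num at hlt
    have h4 : 3 ^ 2 ∣ 3 * 64 := (pow_dvd_pow 3 h2).trans h1
    norm_num at h4
  have hKg : IsSylowIn 3 (cj g (zpowers k)) B := by
    have := hKsyl.cj g
    rwa [hgB] at this
  obtain ⟨b, hb, hbk⟩ := hKg.exists_conj hKsyl
  rw [← cj_mul] at hbk
  obtain ⟨x, hx⟩ : ∃ x, x = b * g := ⟨_, rfl⟩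
  rw [← hx] at hbk
  have hxN : x ∈ normalizer (T : Set G) := hx ▸ mul_mem hb.2 hgN
  have hxW : cj x W = W' := by
    rw [hx, cj_mul, hgsw.1]
    rw [hBW'] at hb
    exact mem_normalizer_iff_cj.mp hb.1
  -- the 2-part of x
  obtain ⟨e, m, hm, hem⟩ : ∃ e m, ¬ 2 ∣ m ∧ orderOf x = 2 ^ e * m :=
    Nat.exists_eq_pow_mul_and_not_dvd (orderOf_pos x).ne' 2 (by norm_num)
  set y := x ^ m with hy
  have hyN : y ∈ normalizer (T : Set G) := pow_mem hxN m
  have hxW' : cj x W' = W := by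
    rcases h.cj_or hxN with h1 | h1
    · exact absurd (h1.1.symm.trans hxW) h.ne_symm
    · exact h1.2
  have hpow : ∀ n : ℕ, cj (x ^ (2 * n)) W = W := by
    intro n
    induction n with
    | zero => rw [mul_zero, pow_zero, cj_one]
    | succ n ih =>
      have : x ^ (2 * (n + 1)) = x * (x * x ^ (2 * n)) := by
        rw [show 2 * (n + 1) = 2 * n + 1 + 1 by ring, pow_succ', pow_succ']
      rw [this, cj_mul, cj_mul, ih, hxW, hxW']
  have hyW : cj y W = W' := by
    obtain ⟨r, hr⟩ : ∃ r, m = 2 * r + 1 := ⟨m / 2, by omega⟩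
    rw [hy, hr, pow_succ', cj_mul, hpow, hxW]
  have hyord : ∃ j, orderOf y = 2 ^ j := by
    have h1 : y ^ (2 ^ e) = 1 := by rw [hy, ← pow_mul, mul_comm, ← hem, pow_orderOf_eq_one]
    obtain ⟨l, -, hl⟩ := (Nat.dvd_prime_pow Nat.prime_two).mp (orderOf_dvd_of_pow_eq_one h1)
    exact ⟨l, hl⟩
  have hxK : x ∈ normalizer (zpowers k : Set G) := mem_normalizer_iff_cj.mpr hbk
  have hyK : y ∈ normalizer (zpowers k : Set G) := pow_mem hxK m
  have hk1 : k ≠ 1 := by
    intro hh
    rw [hh, orderOf_one] at hk3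
    norm_num at hk3
  have hk33 : k ^ 3 = 1 := by rw [← hk3]; exact pow_orderOf_eq_one k
  -- elements of 2-power order commuting with k are trivial
  have htriv : ∀ u : G, (∃ j, orderOf u = 2 ^ j) → u * k = k * u → u = 1 := by
    intro u hu huk
    by_contra hu1
    obtain ⟨j, hj⟩ := hG.order_of_comm hu1 hu huk.symm
    rw [hk3] at hj
    rcases Nat.eq_zero_or_pos j with rfl | hj0
    · norm_num at hj
    · have : 2 ∣ 3 := hj ▸ dvd_pow_self 2 hj0.ne'
      norm_num at this
  -- action on k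
  have hact : ∀ u ∈ normalizer (zpowers k : Set G), u * k * u⁻¹ = k ∨ u * k * u⁻¹ = k⁻¹ := by
    intro u hu
    have h1 := (mem_normalizer_iff_conj.mp hu k).mp (mem_zpowers k)
    obtain ⟨i, hi⟩ := h1
    have hi' : k ^ i = u * k * u⁻¹ := hi
    have h2 : k ^ i = k ^ (i % 3) := by
      rw [← zpow_mod_orderOf k i, hk3]; rfl
    have h3 : i % 3 = 0 ∨ i % 3 = 1 ∨ i % 3 = 2 := by omega
    rcases h3 with h3 | h3 | h3
    · exfalso
      rw [h2, h3, zpow_zero] at hi'
      apply hk1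
      have : k = u⁻¹ * (u * k * u⁻¹) * u := by group
      rw [this, ← hi']; group
    · left; rw [← hi', h2, h3, zpow_one]
    · right
      rw [← hi', h2, h3, eq_inv_iff_mul_eq_one]
      rw [← zpow_add_one]
      exact_mod_cast hk33
  have hyne : y ≠ 1 := by
    intro hh
    rw [hh, cj_one] at hyW
    exact h.ne_symm hyW
  have hyinv : y * k * y⁻¹ = k⁻¹ := by
    rcases hact y hyK with h1 | h1
    · exact absurd (htriv y hyord (mul_inv_eq_iff_eq_mul.mp h1)) hyne
    · exact h1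
  have hyy : y * y = 1 := by
    apply htriv
    · obtain ⟨j, hj⟩ := hyord
      have h1 : (y * y) ^ (2 ^ j) = 1 := by
        rw [← pow_two, ← pow_mul, mul_comm, pow_mul, ← hj, pow_orderOf_eq_one, one_pow]
      obtain ⟨l, -, hl⟩ := (Nat.dvd_prime_pow Nat.prime_two).mp (orderOf_dvd_of_pow_eq_one h1)
      exact ⟨l, hl⟩
    · rw [← mul_inv_eq_iff_eq_mul]
      calc y * y * k * (y * y)⁻¹ = y * (y * k * y⁻¹) * y⁻¹ := by group
        _ = y * k⁻¹ * y⁻¹ := by rw [hyinv]
        _ = (y * k * y⁻¹)⁻¹ := by group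
        _ = k := by rw [hyinv, inv_inv]
  -- y acts nontrivially on the root subgroup
  have hkOm : ∀ z ∈ Om T, k * z * k⁻¹ ∈ Om T := by
    intro z hz
    exact (mem_normalizer_iff_conj.mp (normalizer_le_Om T k0.2.2) z).mp hz
  have hynt : ∃ z ∈ Om T, y * z ≠ z * y := by
    by_contra hcon
    push Not at hcon
    obtain ⟨z, hz, hz1⟩ : ∃ z ∈ Om T, z ≠ 1 := by
      by_contra hc
      push Not at hc
      have : Om T = ⊥ := eq_bot_iff.mpr fun z hz => hc z hz
      rw [this, Subgroup.card_bot] at hq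
      norm_num at hq
    have h1 := hcon z hz
    have h2 := hcon _ (hkOm z hz)
    have h3 : y * (k * z * k⁻¹) * y⁻¹ = k * z * k⁻¹ := by rw [h2]; group
    have h4 : y * (k * z * k⁻¹) * y⁻¹ = k⁻¹ * z * k := by
      calc y * (k * z * k⁻¹) * y⁻¹ = (y * k * y⁻¹) * (y * z * y⁻¹) * (y * k * y⁻¹)⁻¹ := by group
        _ = k⁻¹ * z * k := by
          rw [hyinv, inv_inv]
          have : y * z * y⁻¹ = z := by rw [h1]; group
          rw [this]
    have h5 : k * k * z = z * (k * k) := by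
      rw [← mul_inv_eq_iff_eq_mul]
      calc k * k * z * (k * k)⁻¹ = k * (k * z * k⁻¹) * k⁻¹ := by group
        _ = k * (k⁻¹ * z * k) * k⁻¹ := by rw [← h3, h4]
        _ = z := by group
    obtain ⟨j, hj⟩ := hG.order_of_comm hz1 (order_two_pow_of_sq hz.2.1) h5
    have h6 : k * k = k⁻¹ := by
      rw [eq_inv_iff_mul_eq_one, ← pow_two, ← pow_succ]; exact hk33
    rw [h6, orderOf_inv, hk3] at hj
    rcases Nat.eq_zero_or_pos j with rfl | hj0
    · norm_num at hj
    · have : 2 ∣ 3 := hj ▸ dvd_pow_self 2 hj0.ne'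
      norm_num at this
  -- conjugate into S
  obtain ⟨c, hc, hcS⟩ := hSp.exists_conj_le (X := zpowers y) (by
    apply isPGroup_two_of
    intro u hu
    obtain ⟨i, rfl⟩ := hu
    apply order_two_pow_of_sq
    show y ^ i * y ^ i = 1
    rw [← (Commute.refl y).mul_zpow, hyy, one_zpow]) (zpowers_le.mpr hyN)
  have hcy : c * y * c⁻¹ ∈ S := by
    apply hcS
    rw [mem_cj]
    have : c⁻¹ * (c * y * c⁻¹) * c = y := by group
    rw [this]; exact mem_zpowers y
  have hcT := mem_normalizer_iff_cj.mp hc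
  refine ⟨c * y * c⁻¹, hcy, ?_, ?_, ?_⟩
  · intro hh
    have h1 : y ∈ T := by
      have := (mem_normalizer_iff_conj.mp (inv_mem hc) _).mp hh
      have e1 : c⁻¹ * (c * y * c⁻¹) * c⁻¹⁻¹ = y := by group
      rwa [e1] at this
    have h2 : cj y W = W := mem_normalizer_iff_cj.mp (h.nat.syl.2.1 h1)
    exact h.ne_symm (h2.symm.trans hyW)
  · calc c * y * c⁻¹ * (c * y * c⁻¹) = c * (y * y) * c⁻¹ := by group
      _ = 1 := by rw [hyy]; group
  · obtain ⟨z, hz, hzy⟩ := hynt
    refine ⟨c * z * c⁻¹, (mem_normalizer_iff_conj.mp (normalizer_le_Om T hc) z).mp hz, ?_⟩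
    intro hh
    apply hzy
    have e1 : y * z = c⁻¹ * (c * y * c⁻¹ * (c * z * c⁻¹)) * c := by group
    have e2 : z * y = c⁻¹ * (c * z * c⁻¹ * (c * y * c⁻¹)) * c := by group
    rw [e1, e2, hh]

end

end Cfsg.Agent.CIT
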