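import Mathlib
import Cfsg.Agent.CIT.Sixty

set_option autoImplicit false

/-!
# CIT groups XII: for `q = 4` the subgroup `T` is Sylow
-/

namespace Cfsg.Agent.CIT

open Subgroup Cfsg.Agent.H80 Cfsg.Agent.H32

variable {G : Type*} [Group G] [Finite G] {T W W' : Subgroup G}

theorem Pair.sq_mem_Om (h : Pair T W W') {t : G} (ht : t ∈ T) : t * t ∈ Om T := by
  rw [← h.inf]
  constructor
  · have := h.nat.sq t ht
    rwa [h.CW] at this
  · have := h.nat'.sq t ht
    rwa [h.CW'] at this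

theorem Pair.mem_Om_of_comm (h : Pair T W W') {w w' : G} (hw : w ∈ W) (hw' : w' ∈ W') (hc : w * w' = w' * w) :
    w ∈ Om T ∨ w' ∈ Om T := by
  by_cases h1 : w' ∈ W
  · right; rw [← h.inf]; exact ⟨h1, hw'⟩
  · left
    have h2 := h.nat.fix w' (h.le' hw') (by rw [h.CW]; exact h1) w hw hc.symm
    rw [← h.inf_eq]; exact ⟨hw, h2⟩

/-- all involutions of `T` are conjugate -/
theorem Pair.conj_z (hG : IsCIT G) (h : Pair T W W') {t z : G} (ht : t ∈ T) (ht2 : t * t = 1) (ht1 : t ≠ 1)
    (hz : z ∈ Om T) (hz1 : z ≠ 1) : ∃ n : G, n * t * n⁻¹ = z := by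
  have key : ∀ {U U' : Subgroup G}, Pair T U U' → t ∈ U → ∃ n : G, n * t * n⁻¹ = z := by
    intro U U' hU htU
    obtain ⟨n, -, hn⟩ := hU.nat.exists_conj_eq hG htU ht1 (hU.Om_le hz)
      (mem_centralizer_iff.mpr fun t ht => hz.2.2 t ht) hz1
    exact ⟨n, hn⟩
  rcases h.mem_or ht ht2 with h1 | h1
  · exact key h h1
  · exact key h.symm h1

/-- data for the contradiction -/
structure Dat (S T W W' : Subgroup G) (z0 : G) : Prop where
  pair : Pair T W W'
  sw : ∀ x ∈ S, x ∉ T → cj x W = W' ∧ cj x W' = W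
  le : T ≤ S
  idx : ∀ x ∈ S, ∀ y ∈ S, x ∉ T → y ∉ T → x * y ∈ T
  mem : z0 ∈ Om T
  ne : z0 ≠ 1
  act : ∀ x ∈ S, x ∉ T → ∃ z ∈ Om T, x * z * x⁻¹ = z * z0
  fix : ∀ x ∈ S, x ∉ T → ∀ z ∈ Om T, x * z = z * x → z = 1 ∨ z = z0
  comm : ∀ x ∈ S, x * z0 = z0 * x
  big : ∃ w ∈ W, w ∉ Om T

theorem Dat.sq {S : Subgroup G} {z0 : G} (h : Dat S T W W' z0)
    {s : G} (hs : s ∈ S) (hsT : s ∉ T) (hs2 : s * s = 1) {y : G} (hy : y ∈ S) (hys : y * s = s * y) :
    y * y = 1 ∨ y * y = z0 := by
  have hsi : s⁻¹ = s := inv_eq_of_mul_eq_one_left hs2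
  obtain ⟨y1, hy1, hy1s, hyy⟩ : ∃ y1 ∈ T, y1 * s = s * y1 ∧ y1 * y1 = y * y := by
    by_cases hyT : y ∈ T
    · exact ⟨y, hyT, hys, rfl⟩
    · refine ⟨s * y, h.idx s hs y hy hsT hyT, ?_, ?_⟩
      · rw [mul_assoc, hys]
      · calc s * y * (s * y) = s * (y * s) * y := by group
          _ = s * (s * y) * y := by rw [hys]
          _ = (s * s) * (y * y) := by group
          _ = y * y := by rw [hs2, one_mul]
  rw [← hyy]
  apply h.fix s hs hsT _ (h.pair.sq_mem_Om hy1)
  calc s * (y1 * y1) = (s * y1) * y1 := by group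
    _ = y1 * s * y1 := by rw [hy1s]
    _ = y1 * (s * y1) := by group
    _ = y1 * y1 * s := by rw [← hy1s]; group

theorem Dat.root {S : Subgroup G} {z0 : G} (h : Dat S T W W' z0)
    {s : G} (hs : s ∈ S) (hsT : s ∉ T) (hs2 : s * s = 1) :
    ∃ y ∈ S, y * s = s * y ∧ y * y = z0 := by
  have hsi : s⁻¹ = s := inv_eq_of_mul_eq_one_left hs2
  obtain ⟨w, hw, hwZ⟩ := h.big
  obtain ⟨sw1, sw2⟩ := h.sw s hs hsT
  set w' := s * w * s⁻¹ with hw'
  have hw'W : w' ∈ W' := by
    rw [← sw1, mem_cj]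
    have : s⁻¹ * w' * s = w := by rw [hw']; group
    rw [this]; exact hw
  have hw'Z : w' ∉ Om T := by
    intro hh
    apply hwZ
    rw [← h.pair.inf] at hh ⊢
    have e : w = s⁻¹ * w' * s := by rw [hw']; group
    constructor
    · exact hw
    · have h1 : w' ∈ cj s W' := by rw [sw2]; exact hh.1
      rw [e]; exact mem_cj.mp h1
  have hww : w * w = 1 := h.pair.nat.vtx.two w hw
  have hww' : w' * w' = 1 := h.pair.nat'.vtx.two w' hw'W
  have wi : w⁻¹ = w := inv_eq_of_mul_eq_one_left hww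
  have w'i : w'⁻¹ = w' := inv_eq_of_mul_eq_one_left hww'
  set y0 := w * w' with hy0
  have hy0T : y0 ∈ T := mul_mem (h.pair.le hw) (h.pair.le' hw'W)
  have hc : y0 * y0 ∈ Om T := h.pair.sq_mem_Om hy0T
  have hc1 : y0 * y0 ≠ 1 := by
    intro hh
    have h1 : w * w' = w' * w := by
      calc w * w' = y0 * y0 * (w'⁻¹ * w⁻¹) := by rw [hy0]; group
        _ = w' * w := by rw [hh, one_mul, wi, w'i]
    rcases h.pair.mem_Om_of_comm hw hw'W h1 with h2 | h2
    · exact hwZ h2
    · exact hw'Z h2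
  have hsy : s * y0 * s⁻¹ = y0⁻¹ := by
    have e1 : s * w' * s⁻¹ = w := by
      rw [hw', hsi]
      calc s * (s * w * s) * s = (s * s) * w * (s * s) := by group
        _ = w := by rw [hs2, one_mul, mul_one]
    calc s * y0 * s⁻¹ = (s * w * s⁻¹) * (s * w' * s⁻¹) := by rw [hy0]; group
      _ = w' * w := by rw [e1]
      _ = w'⁻¹ * w⁻¹ := by rw [wi, w'i]
      _ = y0⁻¹ := by rw [hy0]; exact (mul_inv_rev w w').symm
  have hcc : y0 * y0 * (y0 * y0) = 1 := hc.2.1
  have hcs : s * (y0 * y0) = y0 * y0 * s := by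
    rw [← mul_inv_eq_iff_eq_mul]
    calc s * (y0 * y0) * s⁻¹ = (s * y0 * s⁻¹) * (s * y0 * s⁻¹) := by group
      _ = (y0 * y0)⁻¹ := by rw [hsy]; exact (mul_inv_rev y0 y0).symm
      _ = y0 * y0 := inv_eq_of_mul_eq_one_left hcc
  have hcz : y0 * y0 = z0 := (h.fix s hs hsT _ hc hcs).resolve_left hc1
  obtain ⟨z, hz, hzs⟩ := h.act s hs hsT
  have hzy : y0 * z = z * y0 := hz.2.2 y0 hy0T
  have hz0y : y0 * z0 = z0 * y0 := h.comm y0 (h.le hy0T)
  have hz0z : z0 * z0 = 1 := h.mem.2.1
  have hzz0 : z * z0 = z0 * z := h.mem.2.2 z hz.1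
  refine ⟨y0 * z, h.le (mul_mem hy0T hz.1), ?_, ?_⟩
  · symm
    rw [← mul_inv_eq_iff_eq_mul]
    calc s * (y0 * z) * s⁻¹ = (s * y0 * s⁻¹) * (s * z * s⁻¹) := by group
      _ = y0⁻¹ * (z * z0) := by rw [hsy, hzs]
      _ = y0⁻¹ * z0 * z := by rw [hzz0]; group
      _ = y0⁻¹ * (y0 * y0) * z := by rw [hcz]
      _ = y0 * z := by group
  · calc y0 * z * (y0 * z) = y0 * (z * y0) * z := by group
      _ = (y0 * y0) * (z * z) := by rw [← hzy]; group
      _ = z0 := by rw [hz.2.1, mul_one, hcz]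

/-- for `q = 4` the subgroup `T` is a Sylow subgroup -/
theorem Pair.eq_sylow (hG : IsCIT G) (hidx : ∀ H : Subgroup G, H.index ≠ 2) (S : Sylow 2 G)
    (h : Pair T W W') (hTS : T ≤ (S : Subgroup G)) (hq : Nat.card (Om T) = 4) : T = (S : Subgroup G) := by
  haveI : Fact (Nat.Prime 2) := ⟨Nat.prime_two⟩
  by_contra hne
  have hlt : T < (S : Subgroup G) := lt_of_le_of_ne hTS hne
  have hSN : (S : Subgroup G) ≤ normalizer (T : Set G) := h.le_normalizer_T hTS S.2 hq
  have hSyl : IsSylowIn 2 (S : Subgroup G) (normalizer (T : Set G)) := isSylowIn_of_le S hSN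
  obtain ⟨s, hsS, hsT, hs2, z, hz, hsz⟩ := h.exists_inv hG hlt hSyl hq
  have hsi : s⁻¹ = s := inv_eq_of_mul_eq_one_left hs2
  have hs1 : s ≠ 1 := fun hh => hsT (hh ▸ one_mem T)
  have hsw : ∀ x ∈ (S : Subgroup G), x ∉ T → cj x W = W' ∧ cj x W' = W := fun x hx hxT =>
    h.swap_of hTS S.2 hx hxT (hSN hx)
  have hidx2 : ∀ x ∈ (S : Subgroup G), ∀ y ∈ (S : Subgroup G), x ∉ T → y ∉ T → x * y ∈ T := by
    intro x hx y hy hxT hyT
    apply h.mem_of_fix hTS S.2 (mul_mem hx hy) (hSN (mul_mem hx hy))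
    rw [cj_mul, (hsw y hy hyT).1, (hsw x hx hxT).2]
  have hOmN := normalizer_le_Om T
  have hconjOm : ∀ x ∈ (S : Subgroup G), ∀ z ∈ Om T, x * z * x⁻¹ ∈ Om T := fun x hx z hz =>
    (mem_normalizer_iff_conj.mp (hOmN (hSN hx)) z).mp hz
  -- every element outside `T` acts as `s`
  have hsame : ∀ x ∈ (S : Subgroup G), x ∉ T → ∀ z ∈ Om T, x * z * x⁻¹ = s * z * s⁻¹ := by
    intro x hx hxT z hz
    have h1 := hidx2 s hsS x hx hsT hxT
    have h2 := hz.2.2 (s * x) h1
    have h3 : s * x * z * (s * x)⁻¹ = z := by rw [h2]; group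
    calc x * z * x⁻¹ = s⁻¹ * (s * x * z * (s * x)⁻¹) * s := by group
      _ = s⁻¹ * z * s := by rw [h3]
      _ = s * z * s⁻¹ := by rw [hsi]
  set z' := s * z * s⁻¹ with hz'
  have hz'O : z' ∈ Om T := hconjOm s hsS z hz
  set z0 := z * z' with hz0
  have hz0O : z0 ∈ Om T := mul_mem hz hz'O
  have hzz : z * z = 1 := hz.2.1
  have hzi : z⁻¹ = z := inv_eq_of_mul_eq_one_left hzz
  have hzz' : z * z' = z' * z := hz'O.2.2 z hz.1
  have hne' : z' ≠ z := fun hh => hsz (mul_inv_eq_iff_eq_mul.mp hh)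
  have hz01 : z0 ≠ 1 := by
    intro hh
    apply hne'
    have : z' = z⁻¹ := (inv_eq_of_mul_eq_one_right hh).symm
    rw [this, hzi]
  have hsz' : s * z' * s⁻¹ = z := by
    rw [hz', hsi]
    calc s * (s * z * s) * s = (s * s) * z * (s * s) := by group
      _ = z := by rw [hs2, one_mul, mul_one]
  have hsz0 : s * z0 * s⁻¹ = z0 := by
    calc s * z0 * s⁻¹ = (s * z * s⁻¹) * (s * z' * s⁻¹) := by rw [hz0]; group
      _ = z' * z := by rw [hsz']
      _ = z0 := by rw [hz0, hzz']
  have hz1 : z ≠ 1 := by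
    intro hh
    apply hsz
    rw [hh, mul_one, one_mul]
  have hz'1 : z' ≠ 1 := by
    intro hh
    apply hz1
    rw [← hsz', hh]; group
  -- the four elements
  have hall : ∀ u ∈ Om T, u = 1 ∨ u = z ∨ u = z' ∨ u = z0 := by
    intro u hu
    by_contra hcon
    push Not at hcon
    obtain ⟨u1, u2, u3, u4⟩ := hcon
    have h5 : ({1, z, z', z0, u} : Set G).ncard = 5 := by
      rw [Set.ncard_insert_of_notMem, Set.ncard_insert_of_notMem, Set.ncard_insert_of_notMem,
        Set.ncard_insert_of_notMem, Set.ncard_singleton]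
      · simpa using Ne.symm u4
      · simp only [Set.mem_insert_iff, Set.mem_singleton_iff, not_or]
        refine ⟨?_, Ne.symm u3⟩
        intro hh
        apply hz1
        have : z' = z * z' := hh
        exact (mul_eq_right.mp this.symm)
      · simp only [Set.mem_insert_iff, Set.mem_singleton_iff, not_or]
        refine ⟨Ne.symm hne', ?_, Ne.symm u2⟩
        intro hh
        exact hz'1 (mul_eq_left.mp hh.symm)
      · simp only [Set.mem_insert_iff, Set.mem_singleton_iff, not_or]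
        exact ⟨Ne.symm hz1, Ne.symm hz'1, Ne.symm hz01, Ne.symm u1⟩
    have h6 : ({1, z, z', z0, u} : Set G) ⊆ (Om T : Set G) := by
      intro v hv
      simp only [Set.mem_insert_iff, Set.mem_singleton_iff] at hv
      rcases hv with rfl | rfl | rfl | rfl | rfl
      · exact (Om T).one_mem
      · exact hz
      · exact hz'O
      · exact hz0O
      · exact hu
    have h7 := Set.ncard_le_ncard h6 (Set.toFinite _)
    rw [h5] at h7
    have h8 : (Om T : Set G).ncard = 4 := by
      rw [← hq]; rfl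
    omega
  have D : Dat (S : Subgroup G) T W W' z0 := by
    refine ⟨h, hsw, hTS, hidx2, hz0O, hz01, ?_, ?_, ?_, ?_⟩
    · intro x hx hxT
      refine ⟨z, hz, ?_⟩
      rw [hsame x hx hxT z hz, ← hz', hz0, ← mul_assoc, hzz, one_mul]
    · intro x hx hxT u hu hxu
      have h1 : s * u * s⁻¹ = u := by
        rw [← hsame x hx hxT u hu, hxu]; group
      rcases hall u hu with rfl | rfl | rfl | rfl
      · exact Or.inl rfl
      · exact absurd h1 hne'
      · exact absurd (h1.symm.trans hsz') hne'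
      · exact Or.inr rfl
    · intro x hx
      by_cases hxT : x ∈ T
      · exact hz0O.2.2 x hxT
      · have := hsame x hx hxT z0 hz0O
        rw [hsz0] at this
        exact mul_inv_eq_iff_eq_mul.mp this
    · by_contra hcon
      push Not at hcon
      have h1 := Subgroup.card_le_of_le (show W ≤ Om T from fun w hw => hcon w hw)
      rw [h.card_W, hq] at h1
      norm_num at h1
  -- the centralizer of `z0`
  have hCz : ∀ x : G, x * z0 = z0 * x → x ∈ (S : Subgroup G) := by
    intro x hx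
    have h1 : IsPGroup 2 (centralizer ({z0} : Set G)) := isPGroup_two_of fun d hd =>
      hG.order_of_comm hz01 (order_two_pow_of_sq hz0O.2.1) (mem_centralizer_singleton_iff.mp hd)
    have h2 : (S : Subgroup G) ≤ centralizer ({z0} : Set G) := fun y hy =>
      mem_centralizer_singleton_iff.mpr (D.comm y hy)
    have h3 := S.3 h1 h2
    rw [← h3]
    exact mem_centralizer_singleton_iff.mpr hx
  -- Thompson transfer
  have hcardS : Nat.card (S : Subgroup G) = 2 * Nat.card T := by
    apply le_antisymm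
    · let f : ↥(S : Subgroup G) → Bool × T := fun x =>
        open Classical in
        if hx : (x : G) ∈ T then (true, ⟨x, hx⟩) else (false, ⟨s * x, hidx2 s hsS x x.2 hsT hx⟩)
      have hf : Function.Injective f := by
        intro x y hxy
        by_cases hx : (x : G) ∈ T
        · by_cases hy : (y : G) ∈ T
          · simp only [f, dif_pos hx, dif_pos hy, Prod.mk.injEq, true_and] at hxy
            exact Subtype.ext (congrArg (fun w : T => (w : G)) hxy)
          · simp [f, dif_pos hx, dif_neg hy] at hxy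
        · by_cases hy : (y : G) ∈ T
          · simp [f, dif_neg hx, dif_pos hy] at hxy
          · simp only [f, dif_neg hx, dif_neg hy, Prod.mk.injEq, true_and] at hxy
            exact Subtype.ext (mul_left_cancel (a := s) (congrArg (fun w : T => (w : G)) hxy))
      have := Nat.card_le_card_of_injective f hf
      rwa [Nat.card_prod, Nat.card_eq_fintype_card (α := Bool), Fintype.card_bool] at this
    · have h1 := Subgroup.card_dvd_of_le hTS
      obtain ⟨c, hc⟩ := h1
      have h2 : c ≠ 0 := by rintro rfl; rw [mul_zero] at hc; exact Nat.card_pos.ne' hc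
      have h3 : c ≠ 1 := by
        rintro rfl
        rw [mul_one] at hc
        exact hne (Subgroup.eq_of_le_of_card_ge hTS hc.le)
      rw [hc, mul_comm]
      exact Nat.mul_le_mul_left _ (by omega)
  have hTidx : T.index % 4 = 2 := by
    have h1 := T.card_mul_index
    have h2 := (S : Subgroup G).card_mul_index
    rw [hcardS] at h2
    have h3 : T.index = 2 * (S : Subgroup G).index := by
      have hpos : 0 < Nat.card T := Nat.card_pos
      apply Nat.eq_of_mul_eq_mul_left hpos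
      rw [h1, ← h2]; ring
    have h4 : ¬ 2 ∣ (S : Subgroup G).index := S.not_dvd_index
    omega
  have hos : orderOf s = 2 := orderOf_eq_prime (by rw [pow_two]; exact hs2) hs1
  obtain ⟨g, hg⟩ : ∃ g : G, g * s * g⁻¹ ∈ T := by
    by_contra hcon
    push Not at hcon
    obtain ⟨H, hH, -⟩ := thompson_transfer T hTidx s hos hcon
    exact hidx H hH
  obtain ⟨n, hn⟩ := h.conj_z hG hg (by
    calc g * s * g⁻¹ * (g * s * g⁻¹) = g * (s * s) * g⁻¹ := by group
      _ = 1 := by rw [hs2]; group) (by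
      intro hh
      apply hs1
      have : s = g⁻¹ * (g * s * g⁻¹) * g := by group
      rw [this, hh]; group) hz0O hz01
  set a := (n * g)⁻¹ with ha
  have has : a * z0 * a⁻¹ = s := by
    rw [← hn, ha]; group
  set u := a⁻¹ * z0 * a with hu
  have huS : u ∈ (S : Subgroup G) := by
    apply hCz
    have h1 : s * z0 = z0 * s := D.comm s hsS
    calc u * z0 = a⁻¹ * (z0 * (a * z0 * a⁻¹)) * a := by rw [hu]; group
      _ = a⁻¹ * (a * z0 * a⁻¹ * z0) * a := by rw [has, h1]
      _ = z0 * u := by rw [hu]; group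
  have hz02 : z0 * z0 = 1 := hz0O.2.1
  have hu2 : u * u = 1 := by
    calc u * u = a⁻¹ * (z0 * z0) * a := by rw [hu]; group
      _ = 1 := by rw [hz02]; group
  have hzs1 : z0 ≠ s := fun hh => hsT (hh ▸ hz0O.1)
  have haua : a * u * a⁻¹ = z0 := by rw [hu]; group
  by_cases huT : u ∈ T
  · have key : ∀ {U U' : Subgroup G}, Pair T U U' → u ∈ U → False := by
      intro U U' hU huU
      have h1 : cj a U ≤ (S : Subgroup G) := by
        intro x hx
        apply hCz
        rw [mem_cj] at hx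
        have h2 := comm_of_two hU.nat.vtx.two hx huU
        calc x * z0 = a * ((a⁻¹ * x * a) * u) * a⁻¹ := by rw [hu]; group
          _ = a * (u * (a⁻¹ * x * a)) * a⁻¹ := by rw [h2]
          _ = z0 * x := by rw [hu]; group
      have h2 : cj a U ≤ T := by
        apply hU.elem_le hTS S.2 hq (le_inf h1 (h1.trans hSN)) (hU.nat.vtx.cj a).two
        rw [card_cj, hU.card_W, hq]; norm_num
      apply hsT
      apply h2
      rw [mem_cj]
      have : a⁻¹ * s * a = z0 := by rw [← has]; group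
      rw [this]
      exact hU.Om_le hz0O
    rcases h.mem_or huT hu2 with h1 | h1
    · exact key h h1
    · exact key h.symm h1
  · obtain ⟨y, hyS, hyu, hyy⟩ := D.root huS huT hu2
    have h1 : a * y * a⁻¹ ∈ (S : Subgroup G) := by
      apply hCz
      calc a * y * a⁻¹ * z0 = a * (y * u) * a⁻¹ := by rw [hu]; group
        _ = a * (u * y) * a⁻¹ := by rw [hyu]
        _ = z0 * (a * y * a⁻¹) := by rw [hu]; group
    have h2 : a * y * a⁻¹ * s = s * (a * y * a⁻¹) := by
      have h3 := D.comm y hyS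
      calc a * y * a⁻¹ * s = a * (y * z0) * a⁻¹ := by rw [← has]; group
        _ = a * (z0 * y) * a⁻¹ := by rw [h3]
        _ = s * (a * y * a⁻¹) := by rw [← has]; group
    have h3 : a * y * a⁻¹ * (a * y * a⁻¹) = s := by
      calc a * y * a⁻¹ * (a * y * a⁻¹) = a * (y * y) * a⁻¹ := by group
        _ = s := by rw [hyy, has]
    rcases D.sq hsS hsT hs2 h1 h2 with h4 | h4
    · exact hs1 (h3.symm.trans h4)
    · exact hzs1 (h4.symm.trans h3)

end Cfsg.Agent.CIT
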