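import Mathlib
import Cfsg.Agent.CIT.Sixty2

set_option autoImplicit false

/-!
# CIT groups XIII: the incidence structure for `q = 4`
-/

namespace Cfsg.Agent.CIT

open Subgroup Cfsg.Agent.H80 Cfsg.Agent.H32

variable {G : Type*} [Group G] [Finite G] {S W W' : Subgroup G}

/-- the global situation: `S` is a Sylow subgroup -/
structure GP (S W W' : Subgroup G) : Prop where
  cit : IsCIT G
  pair : Pair S W W'
  syl : ∀ X : Subgroup G, S ≤ X → IsSylowIn 2 S X

namespace GP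

theorem symm (h : GP S W W') : GP S W' W := ⟨h.cit, h.pair.symm, h.syl⟩

theorem S_le (h : GP S W W') : S ≤ normalizer (W : Set G) := h.pair.nat.syl.2.1

theorem isP (h : GP S W W') : IsPGroup 2 S := h.pair.nat.syl.1

theorem cj_isP (h : GP S W W') (g : G) : IsPGroup 2 (cj g S) := isPGroup_cj h.isP g

theorem W_two (h : GP S W W') (g : G) : ∀ v ∈ cj g W, v * v = 1 := (h.pair.nat.vtx.cj g).two

/-- centralizers of central involutions -/
theorem mem_S (h : GP S W W') {g z x : G} (hz : z ∈ Om (cj g S)) (hz1 : z ≠ 1) (hx : x * z = z * x) :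
    x ∈ cj g S := by
  have key : ∀ z ∈ Om S, z ≠ 1 → ∀ x, x * z = z * x → x ∈ S := by
    intro z hz hz1 x hx
    have h1 : IsPGroup 2 (centralizer ({z} : Set G)) := isPGroup_two_of fun d hd =>
      h.cit.order_of_comm hz1 (order_two_pow_of_sq hz.2.1) (mem_centralizer_singleton_iff.mp hd)
    have h2 : S ≤ centralizer ({z} : Set G) := fun y hy =>
      mem_centralizer_singleton_iff.mpr (hz.2.2 y hy)
    have h3 := (h.syl _ h2).2.2 _ h1 le_rfl h2
    rw [← h3]
    exact mem_centralizer_singleton_iff.mpr hx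
  rw [mem_cj]
  apply key (g⁻¹ * z * g)
  · rw [← mem_Om_cj]; exact hz
  · intro hh
    apply hz1
    have : z = g * (g⁻¹ * z * g) * g⁻¹ := by group
    rw [this, hh]; group
  · calc g⁻¹ * x * g * (g⁻¹ * z * g) = g⁻¹ * (x * z) * g := by group
      _ = g⁻¹ * (z * x) * g := by rw [hx]
      _ = _ := by group

/-- every involution is central in some Sylow subgroup -/
theorem exists_cj (h : GP S W W') {t : G} (ht1 : t ≠ 1) (ht2 : t * t = 1) : ∃ g, t ∈ Om (cj g S) := by
  haveI : Fact (Nat.Prime 2) := ⟨Nat.prime_two⟩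
  have hp : IsPGroup 2 (zpowers t) := isPGroup_two_of fun x hx => by
    obtain ⟨i, rfl⟩ := hx
    apply order_two_pow_of_sq
    show t ^ i * t ^ i = 1
    rw [← (Commute.refl t).mul_zpow, ht2, one_zpow]
  obtain ⟨k, -, hk⟩ := (h.syl ⊤ le_top).exists_conj_le hp le_top
  have hkt : k * t * k⁻¹ ∈ S := by
    apply hk
    rw [mem_cj]
    have : k⁻¹ * (k * t * k⁻¹) * k = t := by group
    rw [this]; exact mem_zpowers t
  obtain ⟨z, hz, hz1⟩ : ∃ z ∈ Om S, z ≠ 1 := by
    obtain ⟨z, hz, hzT, hz1⟩ := h.pair.nat.exists_mem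
    exact ⟨z, by rw [← h.pair.inf_eq]; exact ⟨hz, hzT⟩, hz1⟩
  obtain ⟨n, hn⟩ := h.pair.conj_z h.cit hkt (by
    calc k * t * k⁻¹ * (k * t * k⁻¹) = k * (t * t) * k⁻¹ := by group
      _ = 1 := by rw [ht2]; group) (by
    intro hh
    apply ht1
    have : t = k⁻¹ * (k * t * k⁻¹) * k := by group
    rw [this, hh]; group) hz hz1
  refine ⟨(n * k)⁻¹, ?_⟩
  rw [mem_Om_cj, inv_inv]
  have : n * k * t * (n * k)⁻¹ = z := by rw [← hn]; group
  rw [this]; exact hz

theorem normalizer_S (h : GP S W W') : normalizer (S : Set G) ≤ normalizer (W : Set G) := by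
  haveI : Fact (Nat.Prime 2) := ⟨Nat.prime_two⟩
  intro x hx
  -- the 2-part of `x` lies in `S`, the odd part fixes `W`
  obtain ⟨e, m, hm, hem⟩ : ∃ e m, ¬ 2 ∣ m ∧ orderOf x = 2 ^ e * m :=
    Nat.exists_eq_pow_mul_and_not_dvd (orderOf_pos x).ne' 2 (by norm_num)
  have hy : x ^ m ∈ S := by
    have hyN : x ^ m ∈ normalizer (S : Set G) := pow_mem hx m
    have hyp : IsPGroup 2 (zpowers (x ^ m)) := by
      apply IsPGroup.of_card (n := (orderOf (x ^ m)).factorization 2)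
      rw [Nat.card_zpowers]
      have h1 : (x ^ m) ^ (2 ^ e) = 1 := by rw [← pow_mul, mul_comm, ← hem, pow_orderOf_eq_one]
      obtain ⟨l, -, hl⟩ := (Nat.dvd_prime_pow Nat.prime_two).mp (orderOf_dvd_of_pow_eq_one h1)
      rw [hl, Nat.Prime.factorization_pow Nat.prime_two]
      simp
    have h2 : IsPGroup 2 (S ⊔ zpowers (x ^ m) : Subgroup G) :=
      h.isP.to_sup_of_normal_left' hyp (zpowers_le.mpr hyN)
    have h3 := (h.syl _ le_sup_left).2.2 _ h2 le_rfl le_sup_left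
    rw [← h3]
    exact mem_sup_right (mem_zpowers _)
  rcases h.pair.cj_or hx with h1 | h1
  · exact mem_normalizer_iff_cj.mpr h1.1
  · exfalso
    have hpow : ∀ n : ℕ, cj (x ^ (2 * n)) W = W := by
      intro n
      induction n with
      | zero => rw [mul_zero, pow_zero, cj_one]
      | succ n ih =>
        have : x ^ (2 * (n + 1)) = x * (x * x ^ (2 * n)) := by
          rw [show 2 * (n + 1) = 2 * n + 1 + 1 by ring, pow_succ', pow_succ']
        rw [this, cj_mul, cj_mul, ih, h1.1, h1.2]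
    obtain ⟨r, hr⟩ : ∃ r, m = 2 * r + 1 := ⟨m / 2, by omega⟩
    have h2 : cj (x ^ m) W = W' := by rw [hr, pow_succ', cj_mul, hpow, h1.1]
    have h3 : cj (x ^ m) W = W := mem_normalizer_iff_cj.mp (h.S_le hy)
    exact h.pair.ne_symm (h3.symm.trans h2)

/-- `W` and `W'` are not conjugate -/
theorem not_conj (h : GP S W W') (g : G) : cj g W ≠ W' := by
  haveI : Fact (Nat.Prime 2) := ⟨Nat.prime_two⟩
  intro hg
  have h1 : cj g S ≤ normalizer (W' : Set G) := by
    rw [← hg, normalizer_cj]; exact cj_mono g h.S_le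
  have hS' : S ≤ normalizer (W' : Set G) := h.symm.S_le
  have h2 : IsSylowIn 2 (cj g S) (normalizer (W' : Set G)) :=
    isSylowIn_of_card (h.syl _ hS') (h.cj_isP g) h1 (by rw [card_cj])
  obtain ⟨n, hn, hng⟩ := h2.exists_conj (h.syl _ hS')
  rw [← cj_mul] at hng
  have h3 := mem_normalizer_iff_cj.mp (h.normalizer_S (mem_normalizer_iff_cj.mpr hng))
  rw [cj_mul, hg, mem_normalizer_iff_cj.mp hn] at h3
  exact h.pair.ne_symm h3.symm

/-- a conjugate of `W` containing the involution `t` central in `cj b S` is `cj b W` -/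
theorem eq_of_mem (h : GP S W W') {a b t : G} (ht : t ∈ cj a W) (ht1 : t ≠ 1) (htb : t ∈ Om (cj b S)) :
    cj a W = cj b W := by
  have h1 : cj a W ≤ cj b S := by
    intro x hx
    exact h.mem_S htb ht1 (comm_of_two (h.W_two a) hx ht)
  have h2 : cj (b⁻¹ * a) W ≤ S := by
    rw [cj_mul]
    have := cj_mono b⁻¹ h1
    rwa [cj_inv_cj] at this
  rcases h.pair.eq_or h2 (h.W_two _) (by rw [card_cj, h.pair.card_W]) with h3 | h3
  · rw [cj_mul] at h3
    have := congrArg (cj b) h3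
    rwa [cj_cj_inv] at this
  · exact absurd h3 (h.not_conj _)

theorem cj_eq (h : GP S W W') {a b t : G} (ha : t ∈ cj a W) (hb : t ∈ cj b W) (ht1 : t ≠ 1) :
    cj a W = cj b W := by
  obtain ⟨g, hg⟩ := h.exists_cj ht1 (h.W_two a t ha)
  rw [h.eq_of_mem ha ht1 hg, h.eq_of_mem hb ht1 hg]

/-- flags -/
theorem flag (h : GP S W W') {a b t : G} (ha : t ∈ cj a W) (hb : t ∈ cj b W') (ht1 : t ≠ 1) :
    ∃ g, t ∈ Om (cj g S) ∧ cj a W = cj g W ∧ cj b W' = cj g W' := by
  obtain ⟨g, hg⟩ := h.exists_cj ht1 (h.W_two a t ha)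
  exact ⟨g, hg, h.eq_of_mem ha ht1 hg, h.symm.eq_of_mem hb ht1 hg⟩

theorem flag_inf (h : GP S W W') (g : G) : cj g W ⊓ cj g W' = Om (cj g S) := by
  rw [← cj_inf, h.pair.inf, Om_cj]

theorem Om_le (h : GP S W W') (g : G) : Om (cj g S) ≤ cj g W := by
  rw [← h.flag_inf g]; exact inf_le_left

theorem cjW_le (h : GP S W W') (g : G) : cj g W ≤ cj g S := cj_mono g h.pair.le

theorem natcj (h : GP S W W') (g : G) : NatV (cj g S) (cj g W) := h.pair.nat.cj h.cit g

theorem paircj (h : GP S W W') (g : G) {t : G} (ht : t ∈ cj g S) (ht2 : t * t = 1) : t ∈ cj g W ∨ t ∈ cj g W' := by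
  rw [mem_cj, mem_cj]
  apply h.pair.mem_or (mem_cj.mp ht)
  calc g⁻¹ * t * g * (g⁻¹ * t * g) = g⁻¹ * (t * t) * g := by group
    _ = 1 := by rw [ht2]; group

/-- elements of a line normalize the points on it -/
theorem line_normalizes (h : GP S W W') {a b t x : G} (ha : t ∈ cj a W) (hb : t ∈ cj b W') (ht1 : t ≠ 1)
    (hx : x ∈ cj b W') : x ∈ normalizer (cj a W : Set G) := by
  obtain ⟨g, -, h1, h2⟩ := h.flag ha hb ht1
  rw [h1, normalizer_cj]
  rw [h2] at hx
  exact cj_mono g (h.pair.le'.trans h.S_le) hx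

/-- uniqueness of the joining line -/
theorem line_unique (h : GP S W W') {a b c d : G} (hab : cj a W ≠ cj b W)
    {x1 x2 x3 x4 : G} (h1 : x1 ∈ cj a W) (h1' : x1 ∈ cj c W') (h1n : x1 ≠ 1)
    (h2 : x2 ∈ cj b W) (h2' : x2 ∈ cj c W') (h2n : x2 ≠ 1)
    (h3 : x3 ∈ cj a W) (h3' : x3 ∈ cj d W') (h3n : x3 ≠ 1)
    (h4 : x4 ∈ cj b W) (h4' : x4 ∈ cj d W') (h4n : x4 ≠ 1) : cj c W' = cj d W' := by
  obtain ⟨g, hg, e1, e2⟩ := h.flag h1 h1' h1n
  obtain ⟨g', hg', e1', e2'⟩ := h.flag h3 h3' h3n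
  have hx2S : x2 ∈ cj g S := by
    rw [e2] at h2'; exact cj_mono g h.pair.le' h2'
  have hx4S : x4 ∈ cj g' S := by
    rw [e2'] at h4'; exact cj_mono g' h.pair.le' h4'
  have hx2a : x2 ∉ cj a W := fun hh => hab (h.cj_eq hh h2 h2n)
  have hx4a : x4 ∉ cj a W := fun hh => hab (h.cj_eq hh h4 h4n)
  have hC : ∀ g, centralizer (cj g W : Set G) = cj g W := by
    intro g; rw [cj_centralizer, h.pair.CW]
  have f2 : ∀ p ∈ cj a W, x2 * p = p * x2 → p ∈ cj c W' := by
    intro p hp hc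
    rw [e1] at hp hx2a
    have := (h.natcj g).fix x2 hx2S (by rw [hC]; exact hx2a) p hp hc
    rw [e2]
    have h5 : p ∈ Om (cj g S) := ⟨h.cjW_le g hp, h.W_two g p hp, fun t ht => mem_centralizer_iff.mp this t ht⟩
    exact h.symm.Om_le g h5
  have f4 : ∀ p ∈ cj a W, x4 * p = p * x4 → p ∈ cj d W' := by
    intro p hp hc
    rw [e1'] at hp hx4a
    have := (h.natcj g').fix x4 hx4S (by rw [hC]; exact hx4a) p hp hc
    rw [e2']
    have h5 : p ∈ Om (cj g' S) := ⟨h.cjW_le g' hp, h.W_two g' p hp, fun t ht => mem_centralizer_iff.mp this t ht⟩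
    exact h.symm.Om_le g' h5
  have f2' : ∀ p ∈ cj a W, p ∈ cj c W' → x2 * p = p * x2 := by
    intro p _ hp2
    exact comm_of_two (h.symm.W_two c) h2' hp2
  have hx4N : x4 ∈ normalizer (cj a W : Set G) := h.line_normalizes h3 h3' h3n h4'
  have hcomm : x2 * x4 = x4 * x2 := comm_of_two (h.W_two b) h2 h4
  have hx4i : x4⁻¹ = x4 := inv_of_two (h.W_two b) h4
  -- x4 normalizes the intersection
  have hnorm : zpowers x4 ≤ normalizer ((cj a W ⊓ cj c W' : Subgroup G) : Set G) := by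
    rw [zpowers_le]
    have key : ∀ r ∈ cj a W ⊓ cj c W', x4 * r * x4⁻¹ ∈ cj a W ⊓ cj c W' := by
      intro r hr
      have h5 : x4 * r * x4⁻¹ ∈ cj a W := (mem_normalizer_iff_conj.mp hx4N r).mp hr.1
      refine ⟨h5, f2 _ h5 ?_⟩
      have h6 := f2' r hr.1 hr.2
      calc x2 * (x4 * r * x4⁻¹) = (x2 * x4) * r * x4⁻¹ := by group
        _ = x4 * (x2 * r) * x4⁻¹ := by rw [hcomm]; group
        _ = x4 * r * (x2 * x4⁻¹) := by rw [h6]; group
        _ = x4 * r * x4⁻¹ * x2 := by rw [hx4i, hcomm]; group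
    rw [mem_normalizer_iff_conj]
    intro r
    constructor
    · exact key r
    · intro hr
      have h7 := key _ hr
      rw [hx4i] at h7
      have h8 : x4 * x4 = 1 := h.W_two b x4 h4
      have : x4 * (x4 * r * x4) * x4 = r := by
        calc x4 * (x4 * r * x4) * x4 = (x4 * x4) * r * (x4 * x4) := by group
          _ = r := by rw [h8, one_mul, mul_one]
      rwa [this] at h7
  obtain ⟨z, hz, hz1, hzc⟩ := exists_fixed_of_normalize
    (isPGroup_two_of (P := zpowers x4) fun x hx => order_two_pow_of_sq (h.W_two b x ((zpowers_le.mpr h4) hx)))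
    (isPGroup_two_of (P := cj a W ⊓ cj c W') fun x hx => order_two_pow_of_sq (h.W_two a x hx.1))
    (fun hb => h1n (by
      have : x1 ∈ cj a W ⊓ cj c W' := ⟨h1, h1'⟩
      rwa [hb, Subgroup.mem_bot] at this)) hnorm
  exact h.symm.cj_eq hz.2 (f4 z hz.1 (hzc x4 (mem_zpowers x4))) hz1

end GP

end Cfsg.Agent.CIT
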