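import Mathlib
import Cfsg.Agent.CIT.Inc

set_option autoImplicit false

/-!
# CIT groups XIV: any two points are joined
-/

namespace Cfsg.Agent.CIT

open Subgroup Cfsg.Agent.H80 Cfsg.Agent.H32

section dih
variable {G : Type*} [Group G]

theorem dih_pow {p q : G} (hp : p * p = 1) (hq : q * q = 1) (n : ℕ) :
    p * (p * q) ^ n * p⁻¹ = ((p * q) ^ n)⁻¹ := by
  have hpi : p⁻¹ = p := inv_eq_of_mul_eq_one_left hp
  have hqi : q⁻¹ = q := inv_eq_of_mul_eq_one_left hq
  have h1 : p * (p * q) * p⁻¹ = (p * q)⁻¹ := by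
    rw [mul_inv_rev, hpi, hqi, ← mul_assoc, hp, one_mul]
  rw [← conj_pow, h1, inv_pow]

theorem dih_odd {p q : G} (hp : p * p = 1) (hq : q * q = 1) {m : ℕ} (h : (p * q) ^ (2 * m + 1) = 1) :
    ∃ i, i * i = 1 ∧ i * p * i⁻¹ = q := by
  have hpi : p⁻¹ = p := inv_eq_of_mul_eq_one_left hp
  have hqi : q⁻¹ = q := inv_eq_of_mul_eq_one_left hq
  set r := (p * q) ^ m with hr
  have h1 : p * r * p⁻¹ = r⁻¹ := dih_pow hp hq m
  have h2 : r * r * (p * q) = 1 := by
    rw [hr, ← pow_add, ← pow_succ, ← two_mul]; exact h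
  refine ⟨r * p, ?_, ?_⟩
  · calc r * p * (r * p) = r * (p * r * p⁻¹) * (p * p) := by group
      _ = 1 := by rw [h1, hp]; group
  · calc r * p * p * (r * p)⁻¹ = r * (p * r * p⁻¹)⁻¹ * p := by group
      _ = r * r * p := by rw [h1, inv_inv]
      _ = (r * r * (p * q)) * q⁻¹ := by group
      _ = q := by rw [h2, one_mul, hqi]

theorem dih_even {p q : G} (hp : p * p = 1) (hq : q * q = 1) {n : ℕ} (h : (p * q) ^ (2 * n) = 1)
    (hne : (p * q) ^ n ≠ 1) : ∃ u, u ≠ 1 ∧ u * u = 1 ∧ u * p = p * u ∧ u * q = q * u := by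
  have hpi : p⁻¹ = p := inv_eq_of_mul_eq_one_left hp
  have hqi : q⁻¹ = q := inv_eq_of_mul_eq_one_left hq
  set u := (p * q) ^ n with hu
  have h1 : p * u * p⁻¹ = u⁻¹ := dih_pow hp hq n
  have h2 : u * u = 1 := by rw [hu, ← pow_add, ← two_mul]; exact h
  have hui : u⁻¹ = u := inv_eq_of_mul_eq_one_left h2
  have h3 : u * p = p * u := by
    rw [hui] at h1
    exact (mul_inv_eq_iff_eq_mul.mp h1).symm
  refine ⟨u, hne, h2, h3, ?_⟩
  have h4 : u * (p * q) = (p * q) * u := by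
    rw [hu, ← pow_succ, ← pow_succ']
  calc u * q = (u * p)⁻¹⁻¹ * (p⁻¹ * p⁻¹) * u⁻¹ * (u * (p * q)) := by
        rw [hui, hpi, hp]
        have : (u * p)⁻¹⁻¹ * 1 * u * (u * (p * q)) = u * p * (u * u) * p * q := by group
        rw [this, h2, mul_one, mul_assoc u p p, hp, mul_one]
    _ = (p * u) * (p⁻¹ * p⁻¹) * u⁻¹ * ((p * q) * u) := by rw [inv_inv, h3, h4]
    _ = p * (u * 1 * u) * p * q * u := by rw [hpi, hp, hui]; group
    _ = q * u := by rw [mul_one, h2, mul_one, hp, one_mul]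

end dih

variable {G : Type*} [Group G] [Finite G]

section nat
variable {T U V : Subgroup G}

theorem NatV.mem_C_of_fix (hG : IsCIT G) (h : NatV T V) (hU : IsSylowIn 2 U (normalizer (V : Set G))) (hne : U ≠ T)
    {y : G} (hy : y ∈ T) (hyU : H80.cj y U = U) : y ∈ centralizer (V : Set G) := by
  have hV := h.of_syl hG hU
  obtain ⟨v, hv, hvU, hv1⟩ := hV.exists_mem
  have hyV := h.syl.2.1 hy
  have hyv : y * v * y⁻¹ * v = 1 := by
    apply h.disj' hG hU hne
    · exact V.mul_mem ((mem_normalizer_iff_conj.mp hyV v).mp hv) hv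
    · exact h.quad y hy v hv
    · exact Subgroup.mul_mem _ (conj_mem_centralizer hyU hvU) hvU
  apply h.inf_syl hG hU hne
  refine ⟨hy, ?_⟩
  apply mem_of_comm' hG hU hv1 (h.vtx.two v hv) hvU hyV
  rw [← mul_inv_eq_iff_eq_mul, eq_inv_of_mul_eq_one_left hyv]
  exact inv_of_two h.vtx.two hv

theorem NatV.trans_syl (hG : IsCIT G) (h : NatV T V) (hU : IsSylowIn 2 U (normalizer (V : Set G))) (hne : U ≠ T)
    {U' : Subgroup G} (hU' : IsSylowIn 2 U' (normalizer (V : Set G))) (hne' : U' ≠ T) :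
    ∃ t ∈ T, H80.cj t U = U' := by
  have hV := h.of_syl hG hU
  obtain ⟨v, hv, hvU, hv1⟩ := hV.exists_mem
  obtain ⟨z, hz, hzT, u, hu, huU, hzu⟩ := h.exists_mul hG hU' hne' hv
  have hvT : v ∉ centralizer (T : Set G) := fun hh => hv1 (h.disj' hG hU hne hv hh hvU)
  obtain ⟨t, ht, e⟩ := h.reg v hv hvT z hz hzT
  have e2 : t * v * t⁻¹ = u := by
    rw [e, ← hzu, comm_of_two h.vtx.two hz hu, mul_assoc, h.vtx.two z hz, mul_one]
  have hu1 : u ≠ 1 := by
    intro hh
    apply hvT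
    rw [← hzu, hh, mul_one]; exact hzT
  refine ⟨t, ht, ?_⟩
  have hs : IsSylowIn 2 (H80.cj t U) (normalizer (V : Set G)) := by
    have := hU.cj t
    rwa [cj_self_of_mem (h.syl.2.1 ht)] at this
  apply syl_eq hG hs hU' hu1 (h.vtx.two u hu) _ huU
  rw [← e2]
  exact conj_mem_centralizer rfl hvU

theorem NatV.card_syl' (hG : IsCIT G) (h : NatV T V) :
    Nat.card {U : Subgroup G | IsSylowIn 2 U (normalizer (V : Set G))} =
      Nat.card (V ⊓ centralizer (T : Set G) : Subgroup G) + 1 := by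
  rw [← h.card_syl hG]
  have e2 : {U : Subgroup G | IsSylowIn 2 U (normalizer (V : Set G))} =
      insert T {U : Subgroup G | IsSylowIn 2 U (normalizer (V : Set G)) ∧ U ≠ T} := by
    ext U
    simp only [Set.mem_setOf_eq, Set.mem_insert_iff]
    constructor
    · intro hU
      by_cases hUT : U = T
      · exact Or.inl hUT
      · exact Or.inr ⟨hU, hUT⟩
    · rintro (rfl | hU)
      · exact h.syl
      · exact hU.1
  rw [e2, Nat.card_coe_set_eq, Nat.card_coe_set_eq, Set.ncard_insert_of_notMem]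
  simp

theorem NatV.three (hG : IsCIT G) (h : NatV T V) (hU : IsSylowIn 2 U (normalizer (V : Set G))) (hne : U ≠ T)
    {U' : Subgroup G} (hU' : IsSylowIn 2 U' (normalizer (V : Set G))) (hne' : U' ≠ T) (hUU : U ≠ U')
    {k : G} (hk : orderOf k = 3) (h3 : ¬ 3 ∣ Nat.card (centralizer (V : Set G)))
    (hkT : k ∈ normalizer (T : Set G)) (hkU : k ∈ normalizer (U : Set G))
    (hkU' : k ∈ normalizer (U' : Set G)) (hkV : k ∈ normalizer (V : Set G)) : False := by
  haveI : Fact (Nat.Prime 2) := ⟨Nat.prime_two⟩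
  haveI : Fact (Nat.Prime 3) := ⟨Nat.prime_three⟩
  obtain ⟨t, ht, htU⟩ := h.trans_syl hG hU hne hU' hne'
  have hy : ∀ a ∈ zpowers k, t⁻¹ * a * t * a⁻¹ ∈ centralizer (V : Set G) := by
    intro a ha
    have haT : a ∈ normalizer (T : Set G) := (zpowers_le.mpr hkT) ha
    have haU := mem_normalizer_iff_cj.mp ((zpowers_le.mpr hkU) ha : a ∈ normalizer (U : Set G))
    have haU' := mem_normalizer_iff_cj.mp ((zpowers_le.mpr hkU') ha : a ∈ normalizer (U' : Set G))
    apply h.mem_C_of_fix hG hU hne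
    · have : t⁻¹ * a * t * a⁻¹ = t⁻¹ * (a * t * a⁻¹) := by group
      rw [this]
      exact mul_mem (inv_mem ht) ((mem_normalizer_iff_conj.mp haT t).mp ht)
    · have e1 : H80.cj a⁻¹ U = U := by
        conv_lhs => rw [← haU]
        exact cj_inv_cj a U
      rw [cj_mul, e1, cj_mul, cj_mul, htU, haU', ← htU, cj_inv_cj]
  let X : Set G := {s | ∃ c ∈ centralizer (V : Set G), s = t * c}
  have hA : IsPGroup 3 (zpowers k) := by
    apply IsPGroup.of_card (n := 1)
    rw [Nat.card_zpowers, hk, pow_one]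
  obtain ⟨s, ⟨c, hc, rfl⟩, hs⟩ := Cfsg.Agent.SigF.exists_fixed_conj hA X (by
    rintro a ha _ ⟨c, hc, rfl⟩
    have haV : a ∈ normalizer (V : Set G) := (zpowers_le.mpr hkV) ha
    refine ⟨t⁻¹ * a * t * a⁻¹ * (a * c * a⁻¹), mul_mem (hy a ha)
      ((mem_normalizer_iff_conj.mp (normalizer_le_normalizer_centralizer V haV) c).mp hc), by group⟩) (by
    have h1 : Nat.card X = Nat.card (centralizer (V : Set G)) := by
      apply Nat.card_congr
      refine ⟨fun g => ⟨t⁻¹ * (g : G), ?_⟩, fun c => ⟨t * c, c, c.2, rfl⟩, ?_, ?_⟩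
      · obtain ⟨c, hc, hg⟩ := g.2
        rw [hg, inv_mul_cancel_left]; exact hc
      · intro g; exact Subtype.ext (mul_inv_cancel_left _ _)
      · intro c; exact Subtype.ext (inv_mul_cancel_left _ _)
    rw [h1]; exact h3)
  have hsT : t * c ∈ T := mul_mem ht (h.CT hc)
  have hs1 : t * c ≠ 1 := by
    intro hh
    apply hUU
    have htc : t ∈ centralizer (V : Set G) := by
      rw [eq_inv_of_mul_eq_one_left hh]; exact inv_mem hc
    have hV := h.of_syl hG hU
    rw [← htU, cj_self_of_mem (hV.CT htc)]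
  obtain ⟨j, hj⟩ := hG.order_of_comm hs1 (orderOf_of_isPGroup h.syl.1 hsT) (hs k (mem_zpowers k))
  rw [hk] at hj
  rcases Nat.eq_zero_or_pos j with rfl | hj0
  · norm_num at hj
  · have : 2 ∣ 3 := hj ▸ dvd_pow_self 2 hj0.ne'
    norm_num at this

end nat

namespace GP

variable {S W W' : Subgroup G}

/-- two points not on a common line -/
def Far (_ : GP S W W') (a b : G) : Prop :=
  cj a W ≠ cj b W ∧ ∀ c x y : G, x ∈ cj a W → x ∈ cj c W' → x ≠ 1 → y ∈ cj b W → y ∈ cj c W' → y ≠ 1 → False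

theorem Far.comm {h : GP S W W'} {a b : G} (hf : h.Far a b) {p q u : G} (hp : p ∈ cj a W) (hp1 : p ≠ 1)
    (hq : q ∈ cj b W) (hq1 : q ≠ 1) (hu1 : u ≠ 1) (hu2 : u * u = 1) (hup : u * p = p * u) (huq : u * q = q * u) :
    False := by
  obtain ⟨a', ha'⟩ := h.exists_cj hp1 (h.W_two a p hp)
  obtain ⟨b', hb'⟩ := h.exists_cj hq1 (h.W_two b q hq)
  have ea := h.eq_of_mem hp hp1 ha'
  have eb := h.eq_of_mem hq hq1 hb'
  have hua := h.mem_S ha' hp1 hup
  have hub := h.mem_S hb' hq1 huq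
  have hpl : p ∈ cj a' W' := h.symm.Om_le a' ha'
  have hql : q ∈ cj b' W' := h.symm.Om_le b' hb'
  rcases h.paircj a' hua hu2 with h1 | h1 <;> rcases h.paircj b' hub hu2 with h2 | h2
  · exact hf.1 (h.cj_eq (ea ▸ h1) (eb ▸ h2) hu1)
  · exact hf.2 b' u q (ea ▸ h1) h2 hu1 hq hql hq1
  · exact hf.2 a' p u hp hpl hp1 (eb ▸ h2) h1 hu1
  · have := h.symm.cj_eq h1 h2 hu1
    exact hf.2 b' p q hp (this ▸ hpl) hp1 hq hql hq1

theorem card_W (h : GP S W W') (hq : Nat.card (Om S) = 4) (g : G) : Nat.card (cj g W) = 16 := by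
  rw [card_cj, h.pair.card_W, hq]; norm_num

theorem card_W_sub (h : GP S W W') (hq : Nat.card (Om S) = 4) (g : G) :
    Nat.card {x : cj g W // x ≠ 1} = 15 := by
  rw [FPF.Off.card_ne_one, h.card_W hq]

/-- any two points are joined -/
theorem joined (h : GP S W W') (hq : Nat.card (Om S) = 4) (a b : G) (hab : cj a W ≠ cj b W) :
    ∃ c x y : G, x ∈ cj a W ∧ x ∈ cj c W' ∧ x ≠ 1 ∧ y ∈ cj b W ∧ y ∈ cj c W' ∧ y ≠ 1 := by
  haveI : Fact (Nat.Prime 2) := ⟨Nat.prime_two⟩
  haveI : Fact (Nat.Prime 3) := ⟨Nat.prime_three⟩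
  haveI : Fact (Nat.Prime 5) := ⟨Nat.prime_five⟩
  by_contra hcon
  have hf : h.Far a b := ⟨hab, fun c x y h1 h2 h3 h4 h5 h6 => hcon ⟨c, x, y, h1, h2, h3, h4, h5, h6⟩⟩
  clear hcon
  set P := cj a W with hP
  set Q := cj b W with hQ
  have hPp : IsPGroup 2 P := isPGroup_two_of fun x hx => order_two_pow_of_sq (h.W_two a x hx)
  have hQp : IsPGroup 2 Q := isPGroup_two_of fun x hx => order_two_pow_of_sq (h.W_two b x hx)
  have hcP : Nat.card P = 16 := h.card_W hq a
  have hcQ : Nat.card Q = 16 := h.card_W hq b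
  have hPne : P ≠ ⊥ := by intro hh; rw [hh, Subgroup.card_bot] at hcP; norm_num at hcP
  have hQne : Q ≠ ⊥ := by intro hh; rw [hh, Subgroup.card_bot] at hcQ; norm_num at hcQ
  obtain ⟨⟨p0, hp0⟩, hp01'⟩ := Subgroup.ne_bot_iff_exists_ne_one.mp hPne
  have hp01 : p0 ≠ 1 := fun hh => hp01' (Subtype.ext hh)
  -- swapping involutions
  have hsw : ∀ q ∈ Q, q ≠ 1 → ∃ i, i * i = 1 ∧ i * p0 * i⁻¹ = q ∧ cj i P = Q := by
    intro q hqQ hq1
    have hp2 : p0 * p0 = 1 := h.W_two a p0 hp0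
    have hq2 : q * q = 1 := h.W_two b q hqQ
    have hodd : orderOf (p0 * q) % 2 = 1 := by
      by_contra hev
      obtain ⟨n, hn⟩ : ∃ n, orderOf (p0 * q) = 2 * n := ⟨orderOf (p0 * q) / 2, by omega⟩
      have hpos := orderOf_pos (p0 * q)
      obtain ⟨u, hu1, hu2, hup, huq⟩ := dih_even hp2 hq2 (n := n) (by rw [← hn]; exact pow_orderOf_eq_one _) (by
        intro hh
        have := orderOf_dvd_of_pow_eq_one hh
        have := Nat.le_of_dvd (by omega) this
        omega)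
      exact hf.comm hp0 hp01 hqQ hq1 hu1 hu2 hup huq
    obtain ⟨m, hm⟩ : ∃ m, orderOf (p0 * q) = 2 * m + 1 := ⟨orderOf (p0 * q) / 2, by omega⟩
    obtain ⟨i, hi1, hi2⟩ := dih_odd hp2 hq2 (m := m) (by rw [← hm]; exact pow_orderOf_eq_one _)
    refine ⟨i, hi1, hi2, ?_⟩
    rw [hP, ← cj_mul, hQ]
    apply h.cj_eq (t := q) _ hqQ hq1
    rw [cj_mul, mem_cj, ← hi2]
    have : i⁻¹ * (i * p0 * i⁻¹) * i = p0 := by group
    rw [this]; exact hp0
  let I : Set G := {i | i * i = 1 ∧ cj i P = Q}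
  have hI15 : 15 ≤ Nat.card I := by
    rw [← h.card_W_sub hq b]
    have : ∀ q : {x : cj b W // x ≠ 1}, ∃ i : I, (i : G) * p0 * (i : G)⁻¹ = q := by
      rintro ⟨⟨q, hqQ⟩, hq1⟩
      obtain ⟨i, hi1, hi2, hi3⟩ := hsw q hqQ (fun hh => hq1 (Subtype.ext hh))
      exact ⟨⟨i, hi1, hi3⟩, hi2⟩
    choose f hf' using this
    apply Nat.card_le_card_of_injective f
    intro x y hxy
    apply Subtype.ext
    apply Subtype.ext
    rw [← hf' x, ← hf' y, hxy]
  set D : Subgroup G := normalizer (P : Set G) ⊓ normalizer (Q : Set G) with hD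
  have hDpow : ∀ u ∈ D, u ≠ 1 → u * u = 1 → False := by
    intro u hu hu1 hu2
    have hup : IsPGroup 2 (zpowers u) := isPGroup_two_of fun x hx => by
      obtain ⟨i, rfl⟩ := hx
      apply order_two_pow_of_sq
      show u ^ i * u ^ i = 1
      rw [← (Commute.refl u).mul_zpow, hu2, one_zpow]
    obtain ⟨p, hp, hp1, hpc⟩ := exists_fixed_of_normalize hup hPp hPne (zpowers_le.mpr hu.1)
    obtain ⟨q, hqq, hq1, hqc⟩ := exists_fixed_of_normalize hup hQp hQne (zpowers_le.mpr hu.2)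
    exact hf.comm hp hp1 hqq hq1 hu1 hu2 (hpc u (mem_zpowers u)) (hqc u (mem_zpowers u))
  have hDfree : ∀ d ∈ D, ∀ p ∈ P, p ≠ 1 → d * p = p * d → d = 1 := by
    intro d hd p hp hp1 hc
    by_contra hd1
    obtain ⟨n, hn⟩ := exists_pow_two hd1 (h.cit.order_of_comm hp1 (order_two_pow_of_sq (h.W_two a p hp)) hc)
    apply hDpow (d ^ n) (pow_mem hd n)
    · intro hh; rw [hh, orderOf_one] at hn; norm_num at hn
    · rw [← pow_two, ← hn, pow_orderOf_eq_one]
  have hD15 : Nat.card D ≤ 15 := by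
    rw [← h.card_W_sub hq a]
    let f : D → {x : cj a W // x ≠ 1} := fun d =>
      ⟨⟨d * p0 * (d : G)⁻¹, (mem_normalizer_iff_conj.mp d.2.1 p0).mp hp0⟩, fun hh => hp01 (by
        have h1 : (d : G) * p0 * (d : G)⁻¹ = 1 := congrArg Subtype.val hh
        have : p0 = (d : G)⁻¹ * ((d : G) * p0 * (d : G)⁻¹) * d := by group
        rw [this, h1]; group)⟩
    apply Nat.card_le_card_of_injective f
    intro x y hxy
    have h1 : (x : G) * p0 * (x : G)⁻¹ = (y : G) * p0 * (y : G)⁻¹ :=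
      congrArg (fun w : {x : cj a W // x ≠ 1} => ((w : cj a W) : G)) hxy
    have h2 := hDfree ((x : G)⁻¹ * y) (mul_mem (inv_mem x.2) y.2) p0 hp0 hp01 (by
      calc (x : G)⁻¹ * y * p0 = (x : G)⁻¹ * ((y : G) * p0 * (y : G)⁻¹) * y := by group
        _ = (x : G)⁻¹ * ((x : G) * p0 * (x : G)⁻¹) * y := by rw [h1]
        _ = _ := by group)
    apply Subtype.ext
    rw [inv_mul_eq_one] at h2
    exact h2
  obtain ⟨i0, hi0, hi0c⟩ : ∃ i : G, i * i = 1 ∧ cj i P = Q := by
    obtain ⟨⟨q, hqQ⟩, hq1'⟩ := Subgroup.ne_bot_iff_exists_ne_one.mp hQne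
    obtain ⟨i, h1, -, h2⟩ := hsw q hqQ (fun hh => hq1' (Subtype.ext hh))
    exact ⟨i, h1, h2⟩
  have hswap : ∀ i : G, i * i = 1 → cj i P = Q → cj i Q = P := by
    intro i h1 h2
    rw [← h2, ← cj_mul, h1, cj_one]
  let f : I → D := fun i => ⟨i0 * i, by
    constructor
    · show i0 * (i : G) ∈ normalizer (P : Set G)
      rw [mem_normalizer_iff_cj, cj_mul, i.2.2, hswap i0 hi0 hi0c]
    · show i0 * (i : G) ∈ normalizer (Q : Set G)
      rw [mem_normalizer_iff_cj, cj_mul, hswap i i.2.1 i.2.2, hi0c]⟩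
  have hfinj : Function.Injective f := by
    intro x y hxy
    apply Subtype.ext
    exact mul_left_cancel (a := i0) (congrArg (fun w : D => (w : G)) hxy)
  have hle := Nat.card_le_card_of_injective f hfinj
  have hcard : Nat.card D = 15 := le_antisymm hD15 (hI15.trans hle)
  have hfsurj : Function.Surjective f := by
    have : Nat.card I = Nat.card D := le_antisymm hle (hcard ▸ hI15)
    exact ((Nat.bijective_iff_injective_and_card f).mpr ⟨hfinj, this⟩).2
  have hi0i : i0⁻¹ = i0 := inv_eq_of_mul_eq_one_left hi0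
  have hinv : ∀ d ∈ D, i0 * d * i0⁻¹ = d⁻¹ := by
    intro d hd
    obtain ⟨⟨i, hi⟩, hid⟩ := hfsurj ⟨d, hd⟩
    have h1 : i0 * i = d := congrArg (fun w : D => (w : G)) hid
    have hii : i⁻¹ = i := inv_eq_of_mul_eq_one_left hi.1
    calc i0 * d * i0⁻¹ = (i0 * i0) * i * i0⁻¹ := by rw [← h1]; group
      _ = i⁻¹ * i0⁻¹ := by rw [hi0, one_mul, hii]
      _ = d⁻¹ := by rw [← h1, mul_inv_rev]
  have hab' : ∀ d ∈ D, ∀ e ∈ D, d * e = e * d := by
    intro d hd e he
    have h1 := hinv _ (mul_mem hd he)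
    have h2 : i0 * (d * e) * i0⁻¹ = d⁻¹ * e⁻¹ := by
      rw [← hinv d hd, ← hinv e he]; group
    rw [h2] at h1
    have h3 := congrArg (fun x => x⁻¹) h1
    simp only [mul_inv_rev, inv_inv] at h3
    exact h3.symm
  obtain ⟨k, hk⟩ := exists_prime_orderOf_dvd_card' (G := D) 3 (by rw [hcard]; norm_num)
  obtain ⟨e, he⟩ := exists_prime_orderOf_dvd_card' (G := D) 5 (by rw [hcard]; norm_num)
  have hk3 : orderOf (k : G) = 3 := by rw [Subgroup.orderOf_coe, hk]
  have he5 : orderOf (e : G) = 5 := by rw [Subgroup.orderOf_coe, he]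
  have hke : (k : G) * e = e * k := hab' _ k.2 _ e.2
  have hnat : NatV (cj a S) P := h.natcj a
  have hq' : Nat.card (P ⊓ centralizer ((cj a S : Subgroup G) : Set G) : Subgroup G) = 4 := by
    rw [hP, cj_centralizer, ← cj_inf, card_cj, h.pair.inf_eq, hq]
  -- a Sylow subgroup normalized by `k`
  obtain ⟨U, hU, hUk⟩ := Cfsg.Agent.SigF.exists_fixed (A := zpowers (k : G)) (p := 3) (by
      apply IsPGroup.of_card (n := 1)
      rw [Nat.card_zpowers, hk3, pow_one]) (fun a U => H80.cj a U) (fun U => cj_one U)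
    (fun a b U => cj_mul a b U) {U : Subgroup G | IsSylowIn 2 U (normalizer (P : Set G))} (by
      intro x hx U hU
      have hxP : x ∈ normalizer (P : Set G) := (zpowers_le.mpr k.2.1) hx
      have := IsSylowIn.cj (show IsSylowIn 2 U (normalizer (P : Set G)) from hU) x
      rw [cj_self_of_mem hxP] at this
      exact this) (by
      rw [hnat.card_syl' h.cit, hq']; norm_num)
  have hU' : IsSylowIn 2 U (normalizer (P : Set G)) := hU
  have hkU : cj (k : G) U = U := hUk k (mem_zpowers _)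
  have hcyl : ∀ x ∈ normalizer (P : Set G), ∀ U, IsSylowIn 2 U (normalizer (P : Set G)) →
      IsSylowIn 2 (cj x U) (normalizer (P : Set G)) := by
    intro x hx U hU
    have := hU.cj x
    rwa [cj_self_of_mem hx] at this
  have hnatU := hnat.of_syl h.cit hU'
  have hcU : Nat.card U = 64 := by
    rw [hU'.card_eq hnat.syl, card_cj, h.pair.card_T, hq]; norm_num
  have hqU : Nat.card (P ⊓ centralizer (U : Set G) : Subgroup G) = 4 := by
    have h1 := hnatU.card_V
    rw [hcP] at h1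
    have : Nat.card (P ⊓ centralizer (U : Set G) : Subgroup G) ^ 2 = 4 ^ 2 := by rw [← h1]; norm_num
    exact Nat.pow_left_injective (n := 2) (by norm_num) this
  have heU : (e : G) ∉ normalizer (U : Set G) := by
    intro hh
    have h1 := hnatU.card_NT h.cit
    rw [hqU, hcU] at h1
    have h2 : orderOf (e : G) ∣ Nat.card (normalizer (P : Set G) ⊓ normalizer (U : Set G) : Subgroup G) :=
      Subgroup.orderOf_dvd_natCard _ ⟨e.2.1, hh⟩
    rw [h1, he5] at h2
    norm_num at h2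
  have hkeU : ∀ V : Subgroup G, cj (k : G) V = V → cj (k : G) (cj (e : G) V) = cj (e : G) V := by
    intro V hV
    rw [← cj_mul, hke, cj_mul, hV]
  have hU1 : cj (e : G) U ≠ U := fun hh => heU (mem_normalizer_iff_cj.mpr hh)
  have hU2 : cj (e : G) (cj (e : G) U) ≠ U := by
    intro hh
    apply heU
    rw [← cj_mul] at hh
    have h1 : (e : G) * e ∈ normalizer (U : Set G) := mem_normalizer_iff_cj.mpr hh
    have h2 : (e : G) = ((e : G) * e) ^ 3 := by
      have h5 : (e : G) ^ 5 = 1 := by rw [← he5, pow_orderOf_eq_one]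
      rw [← pow_two, ← pow_mul]
      show (e : G) = (e : G) ^ (5 + 1)
      rw [pow_add, h5, one_mul, pow_one]
    rw [h2]; exact pow_mem h1 3
  have hC : centralizer (P : Set G) = P := by rw [hP, cj_centralizer, h.pair.CW]
  exact hnatU.three h.cit (hcyl _ e.2.1 _ hU') hU1 (hcyl _ e.2.1 _ (hcyl _ e.2.1 _ hU')) hU2
    (fun hh => hU1 (cj_injective (e : G) hh).symm) hk3 (by rw [hC]; show ¬ 3 ∣ Nat.card P; rw [hcP]; norm_num)
    (mem_normalizer_iff_cj.mpr hkU) (mem_normalizer_iff_cj.mpr (hkeU U hkU))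
    (mem_normalizer_iff_cj.mpr (hkeU _ (hkeU U hkU))) k.2.1

end GP

end Cfsg.Agent.CIT
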