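import Mathlib
import Cfsg.Agent.CIT.Join
import Cfsg.Agent.H80.StrongEmb
import Cfsg.Agent.H67.OddReal

set_option autoImplicit false

/-!
# CIT groups XVI: strongly embedded 2-local subgroups are 2-closed
-/

namespace Cfsg.Agent.CIT

open Subgroup Cfsg.Agent.H80 Cfsg.Agent.H32

universe u

variable {G : Type u} [Group G] [Finite G]

/-- fusion in a strongly embedded subgroup -/
theorem se_conj {M : Subgroup G} (hM : Cfsg.IsStronglyEmbedded M) {v : G} (hv : v ∉ M) (hv2 : orderOf v = 2)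
    {s t : G} (hs : s ∈ M) (hs2 : orderOf s = 2) (ht : t ∈ M) (ht2 : orderOf t = 2) :
    ∃ d ∈ M, d * s * d⁻¹ = t := by
  have h1 := (stronglyEmbedded_iff hM.1 hM.2.1).mp hM
  have two : ∀ x : G, orderOf x = 2 → x * x = 1 := fun x hx => by
    rw [← pow_two, ← hx, pow_orderOf_eq_one]
  -- centralizers of involutions of `M` lie in `M`
  have hcent : ∀ x ∈ M, orderOf x = 2 → ∀ g : G, g * x = x * g → g ∈ M := by
    intro x hx hx2 g hg
    apply h1 x hx hx2 g
    have : g⁻¹ * x * g = x := by rw [mul_assoc, ← hg, inv_mul_cancel_left]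
    rw [this]; exact hx
  have key : ∀ x ∈ M, orderOf x = 2 → ∃ i : G, i * x * i⁻¹ = v := by
    intro x hx hx2
    have hodd : orderOf (x * v) % 2 = 1 := by
      by_contra hev
      obtain ⟨n, hn⟩ : ∃ n, orderOf (x * v) = 2 * n := ⟨orderOf (x * v) / 2, by omega⟩
      have hpos := orderOf_pos (x * v)
      obtain ⟨u, hu1, hu2, hup, huq⟩ := dih_even (two x hx2) (two v hv2) (n := n)
        (by rw [← hn]; exact pow_orderOf_eq_one _) (by
          intro hh
          have := orderOf_dvd_of_pow_eq_one hh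
          have := Nat.le_of_dvd (by omega) this
          omega)
      have huM := hcent x hx hx2 u hup
      exact hv (hcent u huM (orderOf_eq_prime (by rw [pow_two]; exact hu2) hu1) v huq.symm)
    obtain ⟨m, hm⟩ : ∃ m, orderOf (x * v) = 2 * m + 1 := ⟨orderOf (x * v) / 2, by omega⟩
    obtain ⟨i, -, hi⟩ := dih_odd (two x hx2) (two v hv2) (m := m) (by rw [← hm]; exact pow_orderOf_eq_one _)
    exact ⟨i, hi⟩
  obtain ⟨i, hi⟩ := key s hs hs2
  obtain ⟨j, hj⟩ := key t ht ht2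
  have e : (j⁻¹ * i) * s * (j⁻¹ * i)⁻¹ = t := by
    calc (j⁻¹ * i) * s * (j⁻¹ * i)⁻¹ = j⁻¹ * (i * s * i⁻¹) * j := by group
      _ = j⁻¹ * (j * t * j⁻¹) * j := by rw [hi, hj]
      _ = t := by group
  refine ⟨j⁻¹ * i, ?_, e⟩
  apply h1 t ht ht2
  have : (j⁻¹ * i)⁻¹ * t * (j⁻¹ * i) = s := by rw [← e]; group
  rw [this]; exact hs

/-- a strongly embedded 2-local subgroup of a CIT group has a normal Sylow 2-subgroup -/
theorem se_closed (hG : IsCIT G) {M Q : Subgroup G} (hM : Cfsg.IsStronglyEmbedded M)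
    {v : G} (hv : v ∉ M) (hv2 : orderOf v = 2) (hQ : Q ≠ ⊥) (hQ2 : IsPGroup 2 Q) (hQM : Q ≤ M)
    (hMQ : M ≤ normalizer (Q : Set G)) (P : Sylow 2 M) : (P : Subgroup M).Normal := by
  haveI : Fact (Nat.Prime 2) := ⟨Nat.prime_two⟩
  apply Cfsg.Agent.H67.sylow_two_normal_of_no_odd_real
  intro x g hx hg
  by_contra hx1
  have hx1' : (x : G) ≠ 1 := fun hh => hx1 (Subtype.ext hh)
  have hxo : Odd (orderOf (x : G)) := by rw [Subgroup.orderOf_coe]; exact hx
  have hg' : (g : G) * x * (g : G)⁻¹ = (x : G)⁻¹ := congrArg Subtype.val hg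
  -- 2-elements commuting with `x` are trivial
  have htriv : ∀ u : G, (∃ j, orderOf u = 2 ^ j) → u * x = x * u → u = 1 := by
    intro u hu hux
    by_contra hu1
    obtain ⟨j, hj⟩ := hG.order_of_comm hu1 hu hux.symm
    rw [hj] at hxo
    rcases Nat.eq_zero_or_pos j with rfl | hj0
    · rw [pow_zero] at hj
      exact hx1' (orderOf_eq_one_iff.mp hj)
    · exact (Nat.not_odd_iff_even.mpr ((Nat.even_pow).mpr ⟨even_two, hj0.ne'⟩)) hxo
  obtain ⟨e, m, hm, hem⟩ : ∃ e m, ¬ 2 ∣ m ∧ orderOf (g : G) = 2 ^ e * m :=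
    Nat.exists_eq_pow_mul_and_not_dvd (orderOf_pos (g : G)).ne' 2 (by norm_num)
  obtain ⟨w, hw⟩ : ∃ w : G, w = (g : G) ^ m := ⟨_, rfl⟩
  have hwM : w ∈ M := by rw [hw]; exact pow_mem g.2 m
  have hpow : ∀ n : ℕ, (g : G) ^ (2 * n + 1) * x * ((g : G) ^ (2 * n + 1))⁻¹ = (x : G)⁻¹ := by
    intro n
    induction n with
    | zero => rw [mul_zero, zero_add, pow_one]; exact hg'
    | succ n ih =>
      have e1 : (g : G) ^ (2 * (n + 1) + 1) = g * (g * (g : G) ^ (2 * n + 1)) := by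
        rw [show 2 * (n + 1) + 1 = 2 * n + 1 + 1 + 1 by ring, pow_succ', pow_succ' (g : G) (2 * n + 1)]
      rw [e1]
      calc (g : G) * (g * (g : G) ^ (2 * n + 1)) * x * ((g : G) * (g * (g : G) ^ (2 * n + 1)))⁻¹
          = g * (g * ((g : G) ^ (2 * n + 1) * x * ((g : G) ^ (2 * n + 1))⁻¹) * (g : G)⁻¹) * (g : G)⁻¹ := by group
        _ = g * (g * x * (g : G)⁻¹)⁻¹ * (g : G)⁻¹ := by rw [ih]; group
        _ = (x : G)⁻¹ := by rw [hg', inv_inv, hg']
  have hwx : w * x * w⁻¹ = (x : G)⁻¹ := by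
    obtain ⟨r, hr⟩ : ∃ r, m = 2 * r + 1 := ⟨m / 2, by omega⟩
    rw [hw, hr]; exact hpow r
  have hwo : ∃ j, orderOf w = 2 ^ j := by
    have h1 : w ^ (2 ^ e) = 1 := by rw [hw, ← pow_mul, mul_comm, ← hem, pow_orderOf_eq_one]
    obtain ⟨l, -, hl⟩ := (Nat.dvd_prime_pow Nat.prime_two).mp (orderOf_dvd_of_pow_eq_one h1)
    exact ⟨l, hl⟩
  have hww : w * w = 1 := by
    apply htriv
    · obtain ⟨j, hj⟩ := hwo
      have h1 : (w * w) ^ (2 ^ j) = 1 := by
        rw [← pow_two, ← pow_mul, mul_comm, pow_mul, ← hj, pow_orderOf_eq_one, one_pow]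
      obtain ⟨l, -, hl⟩ := (Nat.dvd_prime_pow Nat.prime_two).mp (orderOf_dvd_of_pow_eq_one h1)
      exact ⟨l, hl⟩
    · rw [← mul_inv_eq_iff_eq_mul]
      calc w * w * x * (w * w)⁻¹ = w * (w * x * w⁻¹) * w⁻¹ := by group
        _ = w * (x : G)⁻¹ * w⁻¹ := by rw [hwx]
        _ = (w * x * w⁻¹)⁻¹ := by group
        _ = x := by rw [hwx, inv_inv]
  have hw1 : w ≠ 1 := by
    intro hh
    rw [hh] at hwx
    have h1 : (x : G) * x = 1 := by
      have h2 : (x : G) = (x : G)⁻¹ := by simpa using hwx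
      nth_rw 2 [h2]; exact mul_inv_cancel _
    have h2 := orderOf_dvd_of_pow_eq_one (show (x : G) ^ 2 = 1 by rw [pow_two]; exact h1)
    rcases (Nat.dvd_prime Nat.prime_two).mp h2 with h3 | h3
    · exact hx1' (orderOf_eq_one_iff.mp h3)
    · rw [h3] at hxo; exact absurd hxo (by decide)
  have hw2 : orderOf w = 2 := orderOf_eq_prime (by rw [pow_two]; exact hww) hw1
  -- all involutions of `M` lie in `Q`
  obtain ⟨⟨q, hqQ⟩, hq1'⟩ := Subgroup.ne_bot_iff_exists_ne_one.mp hQ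
  have hq1 : q ≠ 1 := fun hh => hq1' (Subtype.ext hh)
  obtain ⟨n, hn⟩ := exists_pow_two hq1 (orderOf_of_isPGroup hQ2 hqQ)
  obtain ⟨d, hd, hdw⟩ := se_conj hM hv hv2 (hQM (pow_mem hqQ n)) hn hwM hw2
  have hwQ : w ∈ Q := by
    rw [← hdw]
    exact (mem_normalizer_iff_conj.mp (hMQ hd) _).mp (pow_mem hqQ n)
  have h5 : (x : G)⁻¹ * (x : G)⁻¹ ∈ Q := by
    have h6 : (x : G) * w⁻¹ * (x : G)⁻¹ ∈ Q := (mem_normalizer_iff_conj.mp (hMQ x.2) _).mp (inv_mem hwQ)
    have h7 := mul_mem hwQ h6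
    have e2 : w * ((x : G) * w⁻¹ * (x : G)⁻¹) = (w * x * w⁻¹) * (x : G)⁻¹ := by group
    rwa [e2, hwx] at h7
  obtain ⟨j, hj⟩ := orderOf_of_isPGroup hQ2 h5
  have h8 : (x : G) ^ (2 * 2 ^ j) = 1 := by
    have h9 : ((x : G)⁻¹ * (x : G)⁻¹) ^ (2 ^ j) = 1 := by rw [← hj, pow_orderOf_eq_one]
    rw [← pow_two, ← pow_mul, inv_pow, inv_eq_one] at h9
    exact h9
  obtain ⟨l, -, hl⟩ := (Nat.dvd_prime_pow Nat.prime_two).mp (orderOf_dvd_of_pow_eq_one
    (show (x : G) ^ (2 ^ (j + 1)) = 1 by rw [pow_succ, mul_comm]; exact h8))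
  rcases Nat.eq_zero_or_pos l with rfl | hl0
  · rw [pow_zero] at hl
    exact hx1' (orderOf_eq_one_iff.mp hl)
  · rw [hl] at hxo
    exact (Nat.not_odd_iff_even.mpr ((Nat.even_pow).mpr ⟨even_two, hl0.ne'⟩)) hxo

/-- the first alternative of the dichotomy for a simple group -/
theorem exists_se [IsSimpleGroup G] (hG : IsCIT G) (hna : ∃ a b : G, a * b ≠ b * a) {Q : Subgroup G} (hQ : Q ≠ ⊥)
    (hQ2 : IsPGroup 2 Q)
    (h : ∀ R : Subgroup G, R ≠ ⊥ → IsPGroup 2 R → R ≤ normalizer (Q : Set G) →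
      normalizer (R : Set G) ≤ normalizer (Q : Set G)) :
    ∃ M : Subgroup G, Cfsg.IsStronglyEmbedded M ∧ ∀ P : Sylow 2 M, (P : Subgroup M).Normal := by
  haveI : Fact (Nat.Prime 2) := ⟨Nat.prime_two⟩
  set M := normalizer (Q : Set G) with hM
  have hMtop : M ≠ ⊤ := by
    intro hh
    have hn : Q.Normal := by
      rw [← Subgroup.normalizer_eq_top_iff]; exact hh
    rcases hn.eq_bot_or_eq_top with h1 | h1
    · exact hQ h1
    · rw [h1] at hQ2
      have h2 : IsPGroup 2 G := by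
        intro g
        obtain ⟨k, hk⟩ := hQ2 ⟨g, Subgroup.mem_top g⟩
        exact ⟨k, congrArg Subtype.val hk⟩
      have h3 : Nontrivial G := inferInstance
      have h4 := h2.center_nontrivial
      rcases (inferInstance : (center G).Normal).eq_bot_or_eq_top with h5 | h5
      · exact absurd h5 ((Subgroup.nontrivial_iff_ne_bot _).mp h4)
      · obtain ⟨a, b, hab⟩ := hna
        have : a ∈ center G := h5 ▸ Subgroup.mem_top a
        exact hab (Subgroup.mem_center_iff.mp this b).symm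
  have hse : Cfsg.IsStronglyEmbedded M := by
    obtain ⟨P⟩ : Nonempty (Sylow 2 M) := inferInstance
    have hPne : (P : Subgroup M) ≠ ⊥ := by
      intro hh
      have h1 : IsPGroup 2 (Q.subgroupOf M) := hQ2.comap_subtype
      obtain ⟨P', hP'⟩ := h1.exists_le_sylow
      have h2 : Nat.card P' = Nat.card P := by rw [P'.card_eq_multiplicity, P.card_eq_multiplicity]
      have h3 : Nat.card (P : Subgroup M) = 1 := by rw [hh, Subgroup.card_bot]
      have h4 : (P' : Subgroup M) = ⊥ := by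
        apply Subgroup.eq_bot_of_card_le
        exact (h2.trans h3).le
      apply hQ
      rw [eq_bot_iff]
      intro q hq
      have h5 : (⟨q, le_normalizer hq⟩ : M) ∈ (P' : Subgroup M) := hP' hq
      rw [h4, Subgroup.mem_bot] at h5
      exact congrArg Subtype.val h5
    rw [stronglyEmbedded_iff_normalizer hMtop P hPne]
    intro X hX hX1
    apply h
    · intro hh
      exact hX1 ((Subgroup.map_eq_bot_iff_of_injective _ M.subtype_injective).mp hh)
    · exact (P.2.to_le hX).map _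
    · rintro _ ⟨c, -, rfl⟩
      exact c.2
  -- an involution outside
  obtain ⟨g, hg⟩ : ∃ g, g ∉ M := by
    by_contra hcon
    push Not at hcon
    exact hMtop (eq_top_iff.mpr fun x _ => hcon x)
  obtain ⟨⟨q, hqQ⟩, hq1'⟩ := Subgroup.ne_bot_iff_exists_ne_one.mp hQ
  have hq1 : q ≠ 1 := fun hh => hq1' (Subtype.ext hh)
  obtain ⟨n, hn⟩ := exists_pow_two hq1 (orderOf_of_isPGroup hQ2 hqQ)
  have hqM : q ^ n ∈ M := le_normalizer (pow_mem hqQ n)
  have hv : g⁻¹ * q ^ n * g ∉ M := fun hh => hg ((stronglyEmbedded_iff hse.1 hse.2.1).mp hse _ hqM hn g hh)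
  have hv2 : orderOf (g⁻¹ * q ^ n * g) = 2 := by
    have h1 := MulEquiv.orderOf_eq (MulAut.conj g⁻¹) (q ^ n)
    rw [MulAut.conj_apply, inv_inv] at h1
    rw [h1, hn]
  exact ⟨M, hse, se_closed hG hse hv hv2 hQ hQ2 le_normalizer le_rfl⟩

end Cfsg.Agent.CIT
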