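import Mathlib
import Cfsg.Agent.CIT.SE
import Cfsg.Agent.H64.Bend.Main

set_option autoImplicit false

/-!
# CIT groups XIX: the strongly embedded case
-/

namespace Cfsg.Agent.CIT

open Subgroup MulAction Cfsg.Agent.H64.Bend

universe u

variable {G : Type u} [Group G] [Finite G]

/-- a simple group with commuting involutions equal is abelian -/
theorem not_rank_one [IsSimpleGroup G] (hna : ∃ a b : G, a * b ≠ b * a) {t : G} (ht : Iv t)
    (h1 : ∀ x y : G, Iv x → Iv y → x * y = y * x → x = y) : False := by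
  obtain ⟨N, hN, hodd, h2⟩ := zstar_type ht h1
  rcases hN.eq_bot_or_eq_top with h3 | h3
  · have h4 : ∀ s : G, Iv s → s = t := by
      intro s hs
      obtain ⟨o, ho, rfl⟩ := h2 s hs
      rw [h3, Subgroup.mem_bot] at ho
      rw [ho, one_mul]
    have h5 : t ∈ center G := by
      rw [Subgroup.mem_center_iff]
      intro g
      have := h4 _ (ht.conj g)
      calc g * t = g * t * g⁻¹ * g := by group
        _ = t * g := by rw [this]
    rcases (inferInstance : (center G).Normal).eq_bot_or_eq_top with h6 | h6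
    · rw [h6, Subgroup.mem_bot] at h5
      exact ht.2 h5
    · obtain ⟨a, b, hab⟩ := hna
      have : b ∈ center G := by rw [h6]; exact mem_top b
      exact hab (Subgroup.mem_center_iff.mp this a)
  · exact not_iv_of_odd hodd ht (by rw [h3]; exact mem_top t)

/-- the normal Sylow 2-subgroup of a strongly embedded subgroup is regular -/
theorem se_reg [IsSimpleGroup G] (hG : IsCIT G) (hna : ∃ a b : G, a * b ≠ b * a) {M : Subgroup G}
    (hM : Cfsg.IsStronglyEmbedded M) (hP : ∀ P : Sylow 2 M, (P : Subgroup M).Normal) :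
    ∃ Q : Subgroup G, Q ≤ M ∧ (Q.subgroupOf M).Normal ∧
      (∀ g₁ g₂ : G, g₁ ∉ M → g₂ ∉ M → ∃ u ∈ Q, g₂⁻¹ * (u * g₁) ∈ M) ∧
      (∀ g : G, g ∉ M → ∀ u ∈ Q, g⁻¹ * (u * g) ∈ M → u = 1) := by
  classical
  haveI : Fact (Nat.Prime 2) := ⟨Nat.prime_two⟩
  have hB := bset_of_stronglyEmbedded hM
  set a : G ⧸ M := QuotientGroup.mk (1 : G) with ha
  have hsa : stabilizer G a = M := by
    ext x
    rw [MulAction.mem_stabilizer_iff, ha, Cfsg.Agent.StrEmb.smul_mk_eq_iff]
    simp
  -- the Sylow subgroup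
  obtain ⟨P⟩ : Nonempty (Sylow 2 M) := inferInstance
  have hPn := hP P
  set Q : Subgroup G := (P : Subgroup M).map M.subtype with hQ
  have hQM : Q ≤ M := map_subtype_le _
  have hQs : Q.subgroupOf M = (P : Subgroup M) := by
    rw [hQ, Subgroup.subgroupOf, comap_map_eq_self_of_injective M.subtype_injective]
  have hQp : IsPGroup 2 Q := P.2.map _
  have hQc : Nat.card Q = Nat.card P := card_map_of_injective M.subtype_injective
  -- involutions of `M`
  have hinv : ∀ x ∈ M, x * x = 1 → x ∈ Q := by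
    intro x hx hxx
    have h1 : IsPGroup 2 (zpowers (⟨x, hx⟩ : M)) := by
      apply IsPGroup.of_card (n := if x = 1 then 0 else 1)
      rw [Nat.card_zpowers]
      split_ifs with h
      · subst h; exact orderOf_eq_one_iff.mpr rfl
      · rw [pow_one]
        apply orderOf_eq_prime
        · exact Subtype.ext (by rw [pow_two]; exact hxx)
        · intro hh; exact h (congrArg Subtype.val hh)
    obtain ⟨R, hR⟩ := h1.exists_le_sylow
    have h2 : R = P := by
      haveI := Sylow.unique_of_normal P hPn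
      exact Subsingleton.elim _ _
    rw [h2] at hR
    exact ⟨⟨x, hx⟩, hR (mem_zpowers _), rfl⟩
  have hcl : ∀ x ∈ M, ∀ y ∈ M, x * x = 1 → y * y = 1 → ∃ k : ℕ, (x * y) ^ (2 ^ k) = 1 := by
    intro x hx y hy hxx hyy
    obtain ⟨k, hk⟩ := hQp ⟨x * y, mul_mem (hinv x hx hxx) (hinv y hy hyy)⟩
    exact ⟨k, congrArg Subtype.val hk⟩
  -- semiregularity
  have hreg : ∀ g : G, g ∉ M → ∀ u ∈ Q, g⁻¹ * (u * g) ∈ M → u = 1 := by
    intro g hg u hu hug
    have hab : a ≠ (QuotientGroup.mk g : G ⧸ M) := Cfsg.Agent.StrEmb.mk_one_ne_mk hg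
    have hD : u ∈ Da G a (QuotientGroup.mk g : G ⧸ M) := by
      rw [mem_Da]
      constructor
      · have : u ∈ stabilizer G a := by rw [hsa]; exact hQM hu
        exact this
      · rw [Cfsg.Agent.StrEmb.smul_mk_eq_iff, mul_assoc]; exact hug
    have h1 := (hB.odd_Da hab).of_dvd_nat (Subgroup.orderOf_dvd_natCard _ hD)
    obtain ⟨k, hk⟩ := hQp ⟨u, hu⟩
    have h2 : orderOf u ∣ 2 ^ k := orderOf_dvd_of_pow_eq_one (congrArg Subtype.val hk)
    have h5 : Nat.Coprime (orderOf u) (2 ^ k) := (Nat.coprime_two_right.2 h1).pow_right k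
    exact orderOf_eq_one_iff.mp (Nat.Coprime.eq_one_of_dvd h5 h2)
  refine ⟨Q, hQM, by rw [hQs]; exact hPn, ?_, hreg⟩
  intro g₁ g₂ hg₁ hg₂
  set b : G ⧸ M := QuotientGroup.mk g₁ with hb
  have hab : a ≠ b := Cfsg.Agent.StrEmb.mk_one_ne_mk hg₁
  have hac : a ≠ (QuotientGroup.mk g₂ : G ⧸ M) := Cfsg.Agent.StrEmb.mk_one_ne_mk hg₂
  -- an involution `z` of `M`
  obtain ⟨z, hz, hza⟩ := hB.ev a
  have hzM : z ∈ M := (mem_Ia_one.1 ⟨hz, hza⟩).2
  -- another involution
  obtain ⟨z', hz', hz'M, hzz'⟩ : ∃ z', Iv z' ∧ z' ∈ M ∧ z ≠ z' := by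
    by_contra hcon
    push Not at hcon
    apply not_rank_one hna hz
    intro x y hx hy hxy
    obtain ⟨c, hc⟩ := hB.fix x hx
    have hyc : y • c = c := hB.cent_fix hx hc hxy.symm
    obtain ⟨g, hg⟩ := hB.trans c a
    have key : ∀ w : G, Iv w → w • c = c → g * w * g⁻¹ = z := by
      intro w hw hwc
      symm
      apply hcon _ (hw.conj g)
      have : g * w * g⁻¹ ∈ stabilizer G a := by
        rw [MulAction.mem_stabilizer_iff, mul_smul, mul_smul, ← hg, inv_smul_smul, hwc]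
      rwa [hsa] at this
    have e := (key x hx hc).trans (key y hy hyc).symm
    exact mul_left_cancel (mul_right_cancel e)
  -- an involution outside `M`
  obtain ⟨v, hv, hvab⟩ := hB.Ua_nonempty hab
  have hvM : v ∉ M := by
    intro hh
    rw [← hsa, MulAction.mem_stabilizer_iff, hvab] at hh
    exact hab hh.symm
  -- counting
  have h2t := two_transitive_of_stronglyEmbedded hM hcl hzM hz'M hz hz' hzz' hab hac
  have c1 := Cfsg.Agent.LE.card_clSet M z
  have c2 : Cfsg.Agent.LE.clSet M z = Ia G a := by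
    ext s
    constructor
    · rintro ⟨g, hg, rfl⟩
      exact mem_Ia_one.2 ⟨hz.conj g, mul_mem (mul_mem hg hzM) (inv_mem hg)⟩
    · intro hs
      obtain ⟨h3, h4⟩ := mem_Ia_one.1 hs
      obtain ⟨d, hd, h5⟩ := se_conj hM hvM (iv_iff.1 hv) hzM (iv_iff.1 hz) h4 (iv_iff.1 h3)
      exact ⟨d, hd, h5⟩
  rw [c2] at c1
  have hC : IsPGroup 2 (M ⊓ centralizer ({z} : Set G) : Subgroup G) := (hG z (iv_iff.1 hz)).to_le inf_le_right
  obtain ⟨k, hk⟩ := IsPGroup.iff_card.mp hC
  rw [hk] at c1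
  have c3 : Nat.card (Ia G a) ∣ Nat.card (Da G a b) := by
    rw [hB.card_Ia_eq a b]
    exact hB.card_Ia_dvd hab
  have hodd := hB.odd_Da hab
  have hDM : Da G a b ≤ M := by
    intro x hx
    rw [← hsa]
    exact (mem_inf.mp hx).1
  have c4 : Nat.card (Da G a b) ∣ Nat.card (Ia G a) := by
    have h3 : Nat.card (Da G a b) ∣ Nat.card (Ia G a) * 2 ^ k := by rw [c1]; exact card_dvd_of_le hDM
    exact ((Nat.coprime_two_right.2 hodd).pow_right k).dvd_of_dvd_mul_right h3
  have c5 : Nat.card (Ia G a) = Nat.card (Da G a b) := Nat.dvd_antisymm c3 c4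
  -- orbits
  have o1 := Subgroup.card_mul_index (stabilizer M b)
  rw [MulAction.index_stabilizer] at o1
  have o2 : Nat.card (stabilizer M b) = Nat.card (Da G a b) := by
    apply Nat.card_congr
    refine ⟨fun x => ⟨(x : M), ?_⟩, fun x => ⟨⟨(x : G), hDM x.2⟩, ?_⟩, fun x => rfl, fun x => rfl⟩
    · rw [mem_Da]
      refine ⟨?_, x.2⟩
      have : ((x : M) : G) ∈ stabilizer G a := by rw [hsa]; exact (x : M).2
      exact this
    · exact (mem_Da.mp x.2).2
  have hpos : 0 < Nat.card (Da G a b) := Nat.card_pos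
  have o3 : (orbit M b).ncard = 2 ^ k := by
    rw [o2, ← c1, c5] at o1
    exact Nat.eq_of_mul_eq_mul_left hpos o1
  have p1 : Nat.card Q = 2 ^ k := by
    rw [hQc, P.card_eq_multiplicity, ← c1, Nat.factorization_mul, Finsupp.add_apply, Nat.Prime.factorization_pow Nat.prime_two,
      Finsupp.single_eq_same, Nat.factorization_eq_zero_of_not_dvd, zero_add]
    · rw [c5]; exact fun h => (Nat.not_even_iff_odd.mpr hodd) (even_iff_two_dvd.mpr h)
    · rw [c5]; exact hpos.ne'
    · exact (Nat.pow_pos (by norm_num)).ne'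
  have o4 : (orbit Q b).ncard = 2 ^ k := by
    rw [← MulAction.index_stabilizer]
    have : stabilizer Q b = ⊥ := by
      rw [eq_bot_iff]
      intro u hu
      have h3 : (u : G) • b = b := hu
      rw [hb, Cfsg.Agent.StrEmb.smul_mk_eq_iff, mul_assoc] at h3
      exact Subtype.ext (hreg g₁ hg₁ u u.2 h3)
    rw [this, index_bot, p1]
  have o5 : orbit Q b ⊆ orbit M b := by
    rintro _ ⟨u, rfl⟩
    exact ⟨⟨u, hQM u.2⟩, rfl⟩
  have o6 : orbit Q b = orbit M b := Set.eq_of_subset_of_ncard_le o5 (by rw [o3, o4]) (Set.toFinite _)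
  obtain ⟨g, h6, h7⟩ := h2t
  have hgM : g ∈ M := by rw [← hsa]; exact h6
  have : (QuotientGroup.mk g₂ : G ⧸ M) ∈ orbit Q b := by
    rw [o6]; exact ⟨⟨g, hgM⟩, h7⟩
  obtain ⟨u, hu⟩ := this
  refine ⟨u, u.2, ?_⟩
  have hu' : (QuotientGroup.mk ((u : G) * g₁) : G ⧸ M) = QuotientGroup.mk g₂ := hu
  exact QuotientGroup.eq.mp hu'.symm

end Cfsg.Agent.CIT
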