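import Mathlib
import Cfsg.Agent.CIT.Local
import Cfsg.Agent.Uni.SU

set_option autoImplicit false

/-!
# CIT groups XVIII: `PSU(3,q)` is not a CIT group
-/

namespace Cfsg.Agent.CIT

open Cfsg Cfsg.Agent.Uni Matrix

variable {F : Type*} [Field F] [Fintype F] {q : ℕ}

theorem two_eq_zero_of_even (hF : Fintype.card F = q ^ 2) (hq : Even q) : (2 : F) = 0 := by
  have h1 : ((Fintype.card F : ℕ) : F) = 0 := FiniteField.cast_card_eq_zero F
  obtain ⟨r, hr⟩ := hq
  rw [hF, hr] at h1
  push_cast at h1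
  have h2 : (2 : F) ^ 2 * (r : F) ^ 2 = 0 := by rw [← h1]; ring
  rcases mul_eq_zero.mp h2 with h3 | h3
  · exact pow_eq_zero_iff (two_ne_zero) |>.mp h3
  · -- then `r` is zero in `F`; use the characteristic
    obtain ⟨p, hp⟩ := CharP.exists F
    haveI := hp
    have hpp : p.Prime := CharP.char_is_prime F p
    obtain ⟨n, hpr, hn⟩ := FiniteField.card F p
    have h4 : 2 ∣ p ^ (n : ℕ) := by
      rw [← hn, hF, hr]
      exact Dvd.dvd.pow ⟨r, by ring⟩ (by norm_num)
    have h5 : p = 2 := ((Nat.prime_dvd_prime_iff_eq Nat.prime_two hpp).mp (Nat.prime_two.dvd_of_dvd_pow h4)).symm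
    subst h5
    exact_mod_cast CharP.cast_eq_zero F 2

theorem exists_norm_cube (hF : Fintype.card F = q ^ 2) (h4 : 4 ≤ q) : ∃ a : F, a ^ (q + 1) = 1 ∧ a ^ 3 ≠ 1 := by
  classical
  by_contra hcon
  push Not at hcon
  have h1 := card_norm_eq hF (one_pow q) (one_ne_zero (α := F))
  rw [Nat.card_eq_fintype_card, Fintype.card_subtype] at h1
  have h2 : (Finset.univ.filter fun x : F => x ^ (q + 1) = 1) ⊆ (Polynomial.nthRoots 3 (1 : F)).toFinset := by
    intro x hx
    rw [Multiset.mem_toFinset, Polynomial.mem_nthRoots (by norm_num)]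
    exact hcon x (Finset.mem_filter.1 hx).2
  have h3 := Finset.card_le_card h2
  rw [h1] at h3
  have h5 := Multiset.toFinset_card_le (Polynomial.nthRoots 3 (1 : F))
  have h6 := Polynomial.card_nthRoots 3 (1 : F)
  omega

theorem not_cit_psu (hF : Fintype.card F = q ^ 2) (hq : Even q) (h4 : 4 ≤ q) : ¬ IsCIT (PSU 3 F q) := by
  intro hG
  have h2 : (2 : F) = 0 := two_eq_zero_of_even hF hq
  have hneg : (-1 : F) = 1 := by
    have : (1 : F) + 1 = 0 := by rw [← h2]; norm_num
    exact (eq_neg_of_add_eq_zero_left this).symm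
  obtain ⟨a, ha, ha3⟩ := exists_norm_cube hF h4
  have ha0 : a ≠ 0 := by
    rintro rfl
    rw [zero_pow (by omega)] at ha
    exact zero_ne_one ha
  let dv : Fin 3 → F := ![a, a, (a * a)⁻¹]
  have hd : ∀ i, dv i ^ (q + 1) = 1 := by
    intro i
    fin_cases i
    · exact ha
    · exact ha
    · show ((a * a)⁻¹) ^ (q + 1) = 1
      rw [inv_pow, mul_pow, ha, mul_one, inv_one]
  let D : SU 3 F q := mkSU (Matrix.diagonal dv) (pres_diagonal dv hd) (by
    rw [Matrix.det_diagonal, Fin.prod_univ_three]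
    show a * a * (a * a)⁻¹ = 1
    exact mul_inv_cancel₀ (mul_ne_zero ha0 ha0))
  let σ : Equiv.Perm (Fin 3) := Equiv.swap 0 1
  let P : SU 3 F q := mkSU (σ.toPEquiv.toMatrix) (pres_perm σ) (by
    rw [Matrix.det_permutation, Equiv.Perm.sign_swap (by decide)]
    simp [hneg])
  have hPP : P * P = 1 := by
    apply SU_ext
    rw [SU_coe_mul]
    show (σ.toPEquiv.toMatrix : Matrix (Fin 3) (Fin 3) F) * σ.toPEquiv.toMatrix = 1
    rw [← PEquiv.toMatrix_trans, ← Equiv.toPEquiv_trans]
    have : σ.trans σ = Equiv.refl _ := Equiv.ext fun x => by simp [σ]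
    rw [this]
    simp
  have hPD : D * P = P * D := by
    apply SU_ext
    rw [SU_coe_mul, SU_coe_mul]
    show Matrix.diagonal dv * (σ.toPEquiv.toMatrix : Matrix (Fin 3) (Fin 3) F) = σ.toPEquiv.toMatrix * Matrix.diagonal dv
    ext i j
    rw [Matrix.diagonal_mul, Matrix.mul_diagonal]
    have h22 : (Equiv.swap (0 : Fin 3) 1) 2 = 2 := by decide
    fin_cases i <;> fin_cases j <;> simp [σ, dv, PEquiv.toMatrix_apply, h22]
  have hDpow : D ^ (q + 1) = 1 := by
    apply SU_ext
    have h5 : ∀ n : ℕ, (((D ^ n : SU 3 F q) : Matrix.SpecialLinearGroup (Fin 3) F) : Matrix (Fin 3) (Fin 3) F) =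
        Matrix.diagonal (fun i => dv i ^ n) := by
      intro n
      induction n with
      | zero =>
        simp
      | succ n ih =>
        rw [pow_succ, SU_coe_mul, ih]
        show Matrix.diagonal (fun i => dv i ^ n) * Matrix.diagonal dv = _
        rw [Matrix.diagonal_mul_diagonal]
        simp only [pow_succ]
    rw [h5]
    simp only [hd]
    simp
  let t : PSU 3 F q := QuotientGroup.mk P
  let d : PSU 3 F q := QuotientGroup.mk D
  have ht1 : t ≠ 1 := by
    intro h
    have h5 := (QuotientGroup.eq_one_iff P).mp h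
    obtain ⟨c, hc⟩ := (mem_center_SU_iff hF (by norm_num) P).mp h5
    have h6 := congrFun (congrFun hc 0) 1
    have h7 : (σ.toPEquiv.toMatrix : Matrix (Fin 3) (Fin 3) F) 0 1 = 1 := by
      simp [σ, PEquiv.toMatrix_apply]
    have h8 : (Matrix.diagonal (fun _ => c) : Matrix (Fin 3) (Fin 3) F) 0 1 = 0 := by
      rw [Matrix.diagonal_apply_ne _ (by decide)]
    exact one_ne_zero (h7.symm.trans (h6.trans h8))
  have hd1 : d ≠ 1 := by
    intro h
    have h5 := (QuotientGroup.eq_one_iff D).mp h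
    obtain ⟨c, hc⟩ := (mem_center_SU_iff hF (by norm_num) D).mp h5
    have h6 := congrFun (congrFun hc 0) 0
    have h7 := congrFun (congrFun hc 2) 2
    have e6 : a = c := by
      have : (Matrix.diagonal dv : Matrix (Fin 3) (Fin 3) F) 0 0 = a := by
        rw [Matrix.diagonal_apply_eq]; rfl
      rw [← this]
      refine h6.trans ?_
      rw [Matrix.diagonal_apply_eq]
    have e7 : (a * a)⁻¹ = c := by
      have : (Matrix.diagonal dv : Matrix (Fin 3) (Fin 3) F) 2 2 = (a * a)⁻¹ := by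
        rw [Matrix.diagonal_apply_eq]; rfl
      rw [← this]
      refine h7.trans ?_
      rw [Matrix.diagonal_apply_eq]
    apply ha3
    rw [← e6] at e7
    calc a ^ 3 = a * a * a := by ring
      _ = a * a * (a * a)⁻¹ := by rw [e7]
      _ = 1 := mul_inv_cancel₀ (mul_ne_zero ha0 ha0)
  have htt : t * t = 1 := by
    show QuotientGroup.mk (P * P) = (1 : PSU 3 F q)
    rw [hPP]; rfl
  have hto : orderOf t = 2 := orderOf_eq_prime (by rw [pow_two]; exact htt) ht1
  have hdt : d * t = t * d := by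
    show QuotientGroup.mk (D * P) = (QuotientGroup.mk (P * D) : PSU 3 F q)
    rw [hPD]
  obtain ⟨k, hk⟩ := hG.order_of_comm ht1 (order_two_pow_of_sq htt) hdt
  have hdpow : d ^ (q + 1) = 1 := by
    show QuotientGroup.mk (D ^ (q + 1)) = (1 : PSU 3 F q)
    rw [hDpow]; rfl
  have h5 := orderOf_dvd_of_pow_eq_one hdpow
  rw [hk] at h5
  rcases Nat.eq_zero_or_pos k with rfl | hk0
  · rw [pow_zero] at hk
    exact hd1 (orderOf_eq_one_iff.mp hk)
  · have h6 : 2 ∣ q + 1 := (dvd_pow_self 2 hk0.ne').trans h5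
    obtain ⟨r, hr⟩ := hq
    omega

end Cfsg.Agent.CIT
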