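import Mathlib
import Cfsg.Agent.CIT.Join
import Cfsg.Agent.H93.Plane4

set_option autoImplicit false

/-!
# CIT groups XV: the plane of order 4
-/

namespace Cfsg.Agent.CIT

open Subgroup Cfsg.Agent.H80 Cfsg.Agent.H32

variable {G : Type*} [Group G] [Finite G]

/-- points -/
def Pt (W : Subgroup G) : Type _ := {P : Subgroup G // ∃ g, P = cj g W}

noncomputable instance (W : Subgroup G) : Fintype (Pt W) := by
  haveI : Finite (Pt W) := inferInstanceAs (Finite {P : Subgroup G // ∃ g, P = cj g W})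
  exact Fintype.ofFinite _

noncomputable instance (W : Subgroup G) : DecidableEq (Pt W) := Classical.decEq _

instance (W : Subgroup G) : MulAction G (Pt W) where
  smul x P := ⟨cj x P.1, by obtain ⟨g, hg⟩ := P.2; exact ⟨x * g, by rw [hg, cj_mul]⟩⟩
  one_smul P := Subtype.ext (cj_one _)
  mul_smul x y P := Subtype.ext (cj_mul _ _ _)

omit [Finite G] in
theorem smul_val {W : Subgroup G} (x : G) (P : Pt W) : (x • P).1 = cj x P.1 := rfl

/-- the points on a line -/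
noncomputable def pts (W M : Subgroup G) : Finset (Pt W) := by
  classical exact Finset.univ.filter (fun P => ∃ x ∈ P.1, x ∈ M ∧ x ≠ 1)

theorem mem_pts {W M : Subgroup G} {P : Pt W} : P ∈ pts W M ↔ ∃ x ∈ P.1, x ∈ M ∧ x ≠ 1 := by
  simp [pts]

theorem pts_image (W M : Subgroup G) (x : G) : (pts W M).image (fun P => x • P) = pts W (cj x M) := by
  ext P
  rw [Finset.mem_image, mem_pts]
  constructor
  · rintro ⟨Q, hQ, rfl⟩
    obtain ⟨y, hy, hyM, hy1⟩ := mem_pts.mp hQ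
    refine ⟨x * y * x⁻¹, ?_, ?_, ?_⟩
    · rw [smul_val, mem_cj]
      have : x⁻¹ * (x * y * x⁻¹) * x = y := by group
      rw [this]; exact hy
    · rw [mem_cj]
      have : x⁻¹ * (x * y * x⁻¹) * x = y := by group
      rw [this]; exact hyM
    · intro hh
      apply hy1
      have : y = x⁻¹ * (x * y * x⁻¹) * x := by group
      rw [this, hh]; group
  · rintro ⟨y, hy, hyM, hy1⟩
    refine ⟨x⁻¹ • P, ?_, smul_inv_smul x P⟩
    rw [mem_pts]
    refine ⟨x⁻¹ * y * x, ?_, mem_cj.mp hyM, ?_⟩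
    · rw [smul_val, mem_cj]
      have : x⁻¹⁻¹ * (x⁻¹ * y * x) * x⁻¹ = y := by group
      rw [this]; exact hy
    · intro hh
      apply hy1
      have : y = x * (x⁻¹ * y * x) * x⁻¹ := by group
      rw [this, hh]; group

namespace GP
variable {S W W' : Subgroup G}

theorem ofPt (P : Pt W) : ∃ g, P.1 = cj g W := P.2

theorem exists_pt (h : GP S W W') {t : G} (ht1 : t ≠ 1) (ht2 : t * t = 1) : ∃ P : Pt W, t ∈ P.1 := by
  obtain ⟨g, hg⟩ := h.exists_cj ht1 ht2
  exact ⟨⟨cj g W, g, rfl⟩, h.Om_le g hg⟩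

theorem pt_eq (h : GP S W W') {P Q : Pt W} {t : G} (hP : t ∈ P.1) (hQ : t ∈ Q.1) (ht1 : t ≠ 1) : P = Q := by
  obtain ⟨a, ha⟩ := P.2
  obtain ⟨b, hb⟩ := Q.2
  apply Subtype.ext
  rw [ha, hb]
  rw [ha] at hP
  rw [hb] at hQ
  exact h.cj_eq hP hQ ht1

/-- a flag meets in four elements -/
theorem card_flag (h : GP S W W') (hq : Nat.card (Om S) = 4) {P : Pt W} {M : Pt W'} {t : G} (hP : t ∈ P.1)
    (hM : t ∈ M.1) (ht1 : t ≠ 1) : Nat.card (P.1 ⊓ M.1 : Subgroup G) = 4 := by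
  obtain ⟨a, ha⟩ := P.2
  obtain ⟨b, hb⟩ := M.2
  rw [ha] at hP
  rw [hb] at hM
  obtain ⟨g, -, h1, h2⟩ := h.flag hP hM ht1
  rw [ha, hb, h1, h2, h.flag_inf, Om_cj, card_cj, hq]

theorem mem_of_flag (h : GP S W W') {P : Pt W} {M : Pt W'} {t : G} (hP : t ∈ P.1)
    (hM : t ∈ M.1) (ht1 : t ≠ 1) : M.1 ≤ normalizer (P.1 : Set G) := by
  intro x hx
  obtain ⟨a, ha⟩ := P.2
  obtain ⟨b, hb⟩ := M.2
  rw [ha] at hP ⊢
  rw [hb] at hM hx
  exact h.line_normalizes hP hM ht1 hx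

/-- five points on a line -/
theorem card_pts (h : GP S W W') (hq : Nat.card (Om S) = 4) (M : Pt W') : (pts W M.1).card = 5 := by
  classical
  obtain ⟨b, hb⟩ := M.2
  have hMfin : (M.1 : Set G).Finite := Set.toFinite _
  let s : Finset G := hMfin.toFinset.erase 1
  have hs : ∀ x, x ∈ s ↔ x ∈ M.1 ∧ x ≠ 1 := by
    intro x
    simp only [s, Finset.mem_erase, Set.Finite.mem_toFinset, SetLike.mem_coe]
    exact And.comm
  have hMtwo : ∀ x ∈ M.1, x * x = 1 := by rw [hb]; exact h.symm.W_two b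
  have hex : ∀ t : G, ∃ P : Pt W, t ∈ s → t ∈ P.1 := by
    intro t
    by_cases ht : t ∈ s
    · obtain ⟨P, hP⟩ := h.exists_pt ((hs t).mp ht).2 (hMtwo t ((hs t).mp ht).1)
      exact ⟨P, fun _ => hP⟩
    · exact ⟨⟨W, 1, (cj_one W).symm⟩, fun hh => absurd hh ht⟩
  choose f hf using hex
  have h1 := Finset.card_eq_sum_card_fiberwise (f := f) (s := s) (t := pts W M.1) (by
    intro t ht
    rw [Finset.mem_coe] at ht ⊢
    rw [mem_pts]
    exact ⟨t, hf t ht, ((hs t).mp ht).1, ((hs t).mp ht).2⟩)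
  have h2 : ∀ P ∈ pts W M.1, (s.filter (fun x => f x = P)).card = 3 := by
    intro P hP
    obtain ⟨x, hxP, hxM, hx1⟩ := mem_pts.mp hP
    have h3 : s.filter (fun x => f x = P) = (Set.toFinite ((P.1 ⊓ M.1 : Subgroup G) : Set G)).toFinset.erase 1 := by
      ext y
      simp only [Finset.mem_filter, Finset.mem_erase, Set.Finite.mem_toFinset, SetLike.mem_coe, Subgroup.mem_inf]
      rw [hs]
      constructor
      · rintro ⟨⟨h4, h5⟩, h6⟩
        refine ⟨h5, ?_, h4⟩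
        rw [← h6]; exact hf y ((hs y).mpr ⟨h4, h5⟩)
      · rintro ⟨h4, h5, h6⟩
        exact ⟨⟨h6, h4⟩, h.pt_eq (hf y ((hs y).mpr ⟨h6, h4⟩)) h5 h4⟩
    rw [h3, Finset.card_erase_of_mem (by simp [Subgroup.one_mem])]
    have h7 : (Set.toFinite ((P.1 ⊓ M.1 : Subgroup G) : Set G)).toFinset.card = 4 := by
      rw [← Set.ncard_eq_toFinset_card _ (Set.toFinite _)]
      exact h.card_flag hq hxP hxM hx1
    rw [h7]
  rw [Finset.sum_congr rfl h2, Finset.sum_const, smul_eq_mul] at h1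
  have h8 : s.card = 15 := by
    rw [Finset.card_erase_of_mem (by simp [Subgroup.one_mem])]
    have h9 : hMfin.toFinset.card = 16 := by
      rw [← Set.ncard_eq_toFinset_card _ hMfin]
      have := h.symm.card_W hq b
      rw [← hb] at this
      exact this
    rw [h9]
  omega

theorem exists_join (h : GP S W W') (hq : Nat.card (Om S) = 4) {P Q : Pt W} (hPQ : P ≠ Q) :
    ∃ M : Pt W', P ∈ pts W M.1 ∧ Q ∈ pts W M.1 := by
  obtain ⟨a, ha⟩ := P.2
  obtain ⟨b, hb⟩ := Q.2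
  obtain ⟨c, x, y, h1, h2, h3, h4, h5, h6⟩ := h.joined hq a b (by
    intro hh
    apply hPQ
    apply Subtype.ext
    rw [ha, hb, hh])
  refine ⟨⟨cj c W', c, rfl⟩, ?_, ?_⟩
  · rw [mem_pts, ha]; exact ⟨x, h1, h2, h3⟩
  · rw [mem_pts, hb]; exact ⟨y, h4, h5, h6⟩

theorem join_unique (h : GP S W W') {P Q : Pt W} (hPQ : P ≠ Q) {M N : Pt W'}
    (h1 : P ∈ pts W M.1) (h2 : Q ∈ pts W M.1) (h3 : P ∈ pts W N.1) (h4 : Q ∈ pts W N.1) : M = N := by
  obtain ⟨a, ha⟩ := P.2
  obtain ⟨b, hb⟩ := Q.2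
  obtain ⟨c, hc⟩ := M.2
  obtain ⟨d, hd⟩ := N.2
  rw [mem_pts, ha, hc] at h1
  rw [mem_pts, hb, hc] at h2
  rw [mem_pts, ha, hd] at h3
  rw [mem_pts, hb, hd] at h4
  obtain ⟨x1, p1, q1, r1⟩ := h1
  obtain ⟨x2, p2, q2, r2⟩ := h2
  obtain ⟨x3, p3, q3, r3⟩ := h3
  obtain ⟨x4, p4, q4, r4⟩ := h4
  apply Subtype.ext
  rw [hc, hd]
  exact h.line_unique (by
    intro hh
    apply hPQ
    apply Subtype.ext
    rw [ha, hb, hh]) p1 q1 r1 p2 q2 r2 p3 q3 r3 p4 q4 r4

theorem card_Pt (h : GP S W W') (hq : Nat.card (Om S) = 4) : Fintype.card (Pt W) = 21 := by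
  classical
  let P0 : Pt W := ⟨W, 1, (cj_one W).symm⟩
  have hex : ∀ Q : Pt W, ∃ M : Pt W', Q ≠ P0 → P0 ∈ pts W M.1 ∧ Q ∈ pts W M.1 := by
    intro Q
    by_cases hQ : Q = P0
    · exact ⟨⟨W', 1, (cj_one W').symm⟩, fun hh => absurd hQ hh⟩
    · obtain ⟨M, hM⟩ := h.exists_join hq (Ne.symm hQ)
      exact ⟨M, fun _ => hM⟩
  choose f hf using hex
  have h1 := Finset.card_eq_sum_card_fiberwise (f := f) (s := Finset.univ.erase P0) (t := pts W' P0.1) (by
    intro Q hQ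
    rw [Finset.mem_coe] at hQ ⊢
    have hQ' := Finset.ne_of_mem_erase hQ
    obtain ⟨x, h2, h3, h4⟩ := mem_pts.mp (hf Q hQ').1
    exact mem_pts.mpr ⟨x, h3, h2, h4⟩)
  have h2 : ∀ M ∈ pts W' P0.1, ((Finset.univ.erase P0).filter (fun Q => f Q = M)).card = 4 := by
    intro M hM
    have hP0 : P0 ∈ pts W M.1 := by
      obtain ⟨x, h2, h3, h4⟩ := mem_pts.mp hM
      exact mem_pts.mpr ⟨x, h3, h2, h4⟩
    have h3 : (Finset.univ.erase P0).filter (fun Q => f Q = M) = (pts W M.1).erase P0 := by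
      ext Q
      simp only [Finset.mem_filter, Finset.mem_erase, Finset.mem_univ, and_true]
      constructor
      · rintro ⟨h4, rfl⟩
        exact ⟨h4, (hf Q h4).2⟩
      · rintro ⟨h4, h5⟩
        exact ⟨h4, h.join_unique h4 (hf Q h4).2 (hf Q h4).1 h5 hP0⟩
    rw [h3, Finset.card_erase_of_mem hP0, h.card_pts hq M]
  rw [Finset.sum_congr rfl h2, Finset.sum_const, smul_eq_mul, h.symm.card_pts hq P0,
    Finset.card_erase_of_mem (Finset.mem_univ _), Finset.card_univ] at h1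
  omega

/-- the lines -/
def LL (W W' : Subgroup G) : Set (Finset (Pt W)) := {l | ∃ M : Pt W', l = pts W M.1}

theorem isPl (h : GP S W W') (hq : Nat.card (Om S) = 4) : Cfsg.Agent.H93.IsPl (LL W W') where
  card := h.card_Pt hq
  st := by
    constructor
    · rintro _ ⟨M, rfl⟩
      exact h.card_pts hq M
    · intro s hs
      obtain ⟨P, Q, hPQ, rfl⟩ := Finset.card_eq_two.mp hs
      obtain ⟨M, hM⟩ := h.exists_join hq hPQ
      refine ⟨pts W M.1, ⟨⟨M, rfl⟩, ?_⟩, ?_⟩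
      · rw [Finset.insert_subset_iff, Finset.singleton_subset_iff]; exact hM
      · rintro _ ⟨⟨N, rfl⟩, hN⟩
        rw [Finset.insert_subset_iff, Finset.singleton_subset_iff] at hN
        rw [h.join_unique hPQ hM.1 hM.2 hN.1 hN.2]

theorem card_N (h : GP S W W') (hq : Nat.card (Om S) = 4) : Nat.card (normalizer (W : Set G)) = 960 := by
  have h1 := h.pair.nat.card_N
  rw [h.pair.inf_eq, hq, h.pair.CW] at h1
  have h2 : Nat.card W = 16 := by rw [h.pair.card_W, hq]; norm_num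
  rw [h1]
  show (4 ^ 2 - 1) * 4 * Nat.card W = 960
  rw [h2]; norm_num

theorem card_G (h : GP S W W') (hq : Nat.card (Om S) = 4) : Nat.card G = 20160 := by
  have key := card_orbit_set (K := (⊤ : Subgroup G)) (D := normalizer (W : Set G))
    (fun a U => H80.cj a U) (fun U => cj_one U) (fun a b U => cj_mul a b U) W
    {P : Subgroup G | ∃ g, P = cj g W} (by
      rintro _ ⟨g, rfl⟩
      exact ⟨g, Subgroup.mem_top g, rfl⟩) (by
      intro k _
      exact ⟨k, rfl⟩) (by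
      intro k
      rw [mem_normalizer_iff_cj]
      simp)
  rw [Subgroup.card_top, h.card_N hq] at key
  rw [← key]
  have : Nat.card {P : Subgroup G | ∃ g, P = cj g W} = 21 := by
    rw [← h.card_Pt hq, ← Nat.card_eq_fintype_card]; rfl
  rw [this]

theorem inv_line (x : G) (l : Finset (Pt W)) (hl : l ∈ LL W W') : l.image (fun P => x • P) ∈ LL W W' := by
  obtain ⟨M, rfl⟩ := hl
  rw [pts_image]
  exact ⟨x • M, rfl⟩

theorem elation (h : GP S W W') {t : G} (ht1 : t ≠ 1) (ht2 : t * t = 1) :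
    ∃ (c : Pt W) (a : Finset (Pt W)), a ∈ LL W W' ∧ c ∈ a ∧ (∀ x ∈ a, t • x = x) ∧
      ∀ l ∈ LL W W', c ∈ l → l.image (fun x => t • x) = l := by
  obtain ⟨P, hP⟩ := h.exists_pt ht1 ht2
  obtain ⟨M, hM⟩ := h.symm.exists_pt ht1 ht2
  refine ⟨P, pts W M.1, ⟨M, rfl⟩, mem_pts.mpr ⟨t, hP, hM, ht1⟩, ?_, ?_⟩
  · intro Q hQ
    obtain ⟨x, hx1, hx2, hx3⟩ := mem_pts.mp hQ
    apply Subtype.ext
    rw [smul_val]
    exact mem_normalizer_iff_cj.mp (h.mem_of_flag hx1 hx2 hx3 hM)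
  · rintro _ ⟨N, rfl⟩ hN
    obtain ⟨x, hx1, hx2, hx3⟩ := mem_pts.mp hN
    rw [pts_image]
    congr 1
    exact mem_normalizer_iff_cj.mp (h.symm.mem_of_flag hx2 hx1 hx3 hP)

theorem faithful (h : GP S W W') (hq : Nat.card (Om S) = 4) [IsSimpleGroup G] (g : G)
    (hg : ∀ x : Pt W, g • x = x) : g = 1 := by
  have hn : (MulAction.toPermHom G (Pt W)).ker.Normal := inferInstance
  rcases hn.eq_bot_or_eq_top with h1 | h1
  · have : g ∈ (MulAction.toPermHom G (Pt W)).ker := by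
      rw [MonoidHom.mem_ker]
      exact Equiv.Perm.ext fun x => hg x
    rw [h1, Subgroup.mem_bot] at this
    exact this
  · exfalso
    have h2 : normalizer (W : Set G) = ⊤ := by
      rw [eq_top_iff]
      intro x _
      have h3 : x ∈ (MulAction.toPermHom G (Pt W)).ker := h1 ▸ Subgroup.mem_top x
      rw [MonoidHom.mem_ker] at h3
      have h4 := Equiv.Perm.ext_iff.mp h3 (⟨W, 1, (cj_one W).symm⟩ : Pt W)
      exact mem_normalizer_iff_cj.mpr (congrArg Subtype.val h4)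
    have h3 := h.card_N hq
    rw [h2, Subgroup.card_top, h.card_G hq] at h3
    norm_num at h3

theorem closure_inv (h : GP S W W') [IsSimpleGroup G] : Subgroup.closure {t : G | t ≠ 1 ∧ t * t = 1} = ⊤ := by
  have hn : (Subgroup.closure {t : G | t ≠ 1 ∧ t * t = 1}).Normal := by
    constructor
    intro n hn g
    induction hn using Subgroup.closure_induction with
    | mem x hx =>
      apply Subgroup.subset_closure
      refine ⟨fun hh => hx.1 ?_, ?_⟩
      · have : x = g⁻¹ * (g * x * g⁻¹) * g := by group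
        rw [this, hh]; group
      · calc g * x * g⁻¹ * (g * x * g⁻¹) = g * (x * x) * g⁻¹ := by group
          _ = 1 := by rw [hx.2]; group
    | one => simp [Subgroup.one_mem]
    | mul x y _ _ ihx ihy =>
      have : g * (x * y) * g⁻¹ = (g * x * g⁻¹) * (g * y * g⁻¹) := by group
      rw [this]; exact mul_mem ihx ihy
    | inv x _ ih =>
      have : g * x⁻¹ * g⁻¹ = (g * x * g⁻¹)⁻¹ := by group
      rw [this]; exact inv_mem ih
  rcases hn.eq_bot_or_eq_top with h1 | h1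
  · exfalso
    obtain ⟨z, hz, hzT, hz1⟩ := h.pair.nat.exists_mem
    have : z ∈ Subgroup.closure {t : G | t ≠ 1 ∧ t * t = 1} :=
      Subgroup.subset_closure ⟨hz1, h.pair.nat.vtx.two z hz⟩
    rw [h1, Subgroup.mem_bot] at this
    exact hz1 this
  · exact h1

end GP

end Cfsg.Agent.CIT
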