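import Mathlib
import Cfsg.Agent.H93.Plane4
import Cfsg.Agent.H93.Transv
import Cfsg.Agent.H93.Plane4Model
import Cfsg.Agent.H4.CardSL

set_option autoImplicit false

/-!
Recognition of `PSL₃(4)` from its action on a projective plane of order 4 (generated by elations).
-/

namespace Cfsg.Agent.CIT

open Cfsg.Agent.H93

namespace Rec34

section Abs
variable {α : Type*} [Fintype α] [DecidableEq α] {L : Set (Finset α)}

theorem fix_off (h : IsPl L) (τ : Equiv.Perm α) (hinv : ∀ l ∈ L, l.image τ ∈ L) {a : Finset α} (ha : a ∈ L) {c : α}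
    (hca : c ∈ a) (hfa : ∀ x ∈ a, τ x = x) (hc : ∀ l ∈ L, c ∈ l → l.image τ = l) {p : α} (hp : p ∉ a)
    (hτp : τ p = p) {q : α} (hqa : q ∉ a) (hq : q ∉ h.ln c p) : τ q = q := by
  have hcp : c ≠ p := fun e => hp (e ▸ hca)
  have hcq : c ≠ q := fun e => hqa (e ▸ hca)
  have hpq : p ≠ q := fun e => hq (e ▸ h.right_mem hcp)
  obtain ⟨r, hr1, hr2⟩ := h.meet (h.ln_mem hpq) ha
  have hpr : p ≠ r := fun e => hp (e ▸ hr2)
  -- line p q is fixed
  have h1 : (h.ln p q).image τ = h.ln p q := by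
    apply h.line_eq (hinv _ (h.ln_mem hpq)) (h.ln_mem hpq) hpr
    · exact Finset.mem_image.2 ⟨p, h.left_mem hpq, hτp⟩
    · exact Finset.mem_image.2 ⟨r, hr1, hfa r hr2⟩
    · exact h.left_mem hpq
    · exact hr1
  have h2 : (h.ln c q).image τ = h.ln c q := hc _ (h.ln_mem hcq) (h.left_mem hcq)
  have hne : h.ln p q ≠ h.ln c q := by
    intro e
    apply hq
    have h3 : h.ln c p = h.ln p q := by
      apply h.line_eq (h.ln_mem hcp) (h.ln_mem hpq) hcp (h.left_mem hcp) (h.right_mem hcp) _ (h.left_mem hpq)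
      rw [e]; exact h.left_mem hcq
    rw [h3]; exact h.right_mem hpq
  apply h.pt_eq (h.ln_mem hpq) (h.ln_mem hcq) hne
  · rw [← h1]; exact Finset.mem_image.2 ⟨q, h.right_mem hpq, rfl⟩
  · exact h.right_mem hpq
  · rw [← h2]; exact Finset.mem_image.2 ⟨q, h.right_mem hcq, rfl⟩
  · exact h.right_mem hcq

theorem fix_all (h : IsPl L) (τ : Equiv.Perm α) (hinv : ∀ l ∈ L, l.image τ ∈ L) {a : Finset α} (ha : a ∈ L) {c : α}
    (hca : c ∈ a) (hfa : ∀ x ∈ a, τ x = x) (hc : ∀ l ∈ L, c ∈ l → l.image τ = l) {p : α} (hp : p ∉ a)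
    (hτp : τ p = p) (q : α) : τ q = q := by
  have hcp : c ≠ p := fun e => hp (e ▸ hca)
  by_cases hqa : q ∈ a
  · exact hfa q hqa
  by_cases hq : q ∈ h.ln c p
  · -- choose another point
    have hcard : ((h.ln c p) ∪ a).card ≤ 10 := by
      refine (Finset.card_union_le _ _).trans ?_
      rw [h.line_card (h.ln_mem hcp), h.line_card ha]
    obtain ⟨p', hp'⟩ : ∃ p', p' ∉ (h.ln c p) ∪ a := by
      by_contra hcon
      push Not at hcon
      have : (Finset.univ : Finset α) ⊆ (h.ln c p) ∪ a := fun x _ => hcon x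
      have h3 := Finset.card_le_card this
      rw [Finset.card_univ, h.card] at h3
      omega
    rw [Finset.mem_union, not_or] at hp'
    have h4 : τ p' = p' := fix_off h τ hinv ha hca hfa hc hp hτp hp'.2 hp'.1
    have hcp' : c ≠ p' := fun e => hp'.2 (e ▸ hca)
    have hcq : c ≠ q := fun e => hqa (e ▸ hca)
    refine fix_off h τ hinv ha hca hfa hc hp'.2 h4 hqa ?_
    intro hmem
    apply hp'.1
    have h5 : h.ln c p' = h.ln c p := by
      apply h.line_eq (h.ln_mem hcp') (h.ln_mem hcp) hcq (h.left_mem hcp') hmem (h.left_mem hcp) hq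
    rw [← h5]; exact h.right_mem hcp'
  · exact fix_off h τ hinv ha hca hfa hc hp hτp hqa hq

end Abs

/-- uniqueness of the plane of order 4 (same proof as S5626) -/
theorem plane_iso {α β : Type*} [Fintype α] [DecidableEq α] [Fintype β] [DecidableEq β]
    (hα : Fintype.card α = 21) (hβ : Fintype.card β = 21) {L : Set (Finset α)} {L' : Set (Finset β)}
    (hL : Cfsg.IsSteinerSystem 2 5 L) (hL' : Cfsg.IsSteinerSystem 2 5 L') : Cfsg.SetSystemIso L L' := by
  classical
  have h : Cfsg.Agent.H93.IsPl L := ⟨hα, hL⟩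
  have h' : Cfsg.Agent.H93.IsPl L' := ⟨hβ, hL'⟩
  obtain ⟨v, H⟩ := Cfsg.Agent.H93.exists_hyp h
  obtain ⟨v', H'⟩ := Cfsg.Agent.H93.exists_hyp h'
  refine ⟨H.E.symm.trans H'.E, ?_⟩
  have h1 : (fun b : Finset α => b.image (H.E.symm.trans H'.E)) '' L =
      (fun b : Finset α => b.image (H.E.symm.trans H'.E)) '' ((fun b : Finset (Fin 6 ⊕ Fin 15) => b.image H.E) '' Cfsg.Agent.H93.IsHyp.modelLines) := by
    rw [H.lines_img]
  have h2 := H'.lines_img
  rw [h1, Set.image_image]
  refine Eq.trans ?_ h2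
  congr 1
  funext b
  rw [Finset.image_image]
  congr 1
  funext x
  simp

section Model
open Matrix Projectivization
open scoped LinearAlgebra.Projectivization

variable {F : Type*} [Field F] [Fintype F] [DecidableEq F]

noncomputable local instance : Fintype (ℙ F (Fin 3 → F)) := Fintype.ofFinite _
noncomputable local instance : DecidableEq (ℙ F (Fin 3 → F)) := Classical.decEq _

open Classical in
/-- line with coordinates `w` -/
noncomputable def lin (w : ℙ F (Fin 3 → F)) : Finset (ℙ F (Fin 3 → F)) :=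
  Finset.univ.filter fun v => orthogonal v w

omit [DecidableEq F] in
theorem mem_lin {v w : ℙ F (Fin 3 → F)} : v ∈ lin w ↔ orthogonal v w := by
  classical
  simp [lin]

omit [DecidableEq F] in
theorem card_pts (hF : Fintype.card F = 4) : Fintype.card (ℙ F (Fin 3 → F)) = 21 := by
  rw [Fintype.card_eq_nat_card, card_of_finrank F (Fin 3 → F) (n := 3) (by simp)]
  simp [Finset.sum_range_succ, Nat.card_eq_fintype_card, hF]

theorem card_lin (hF : Fintype.card F = 4) (w : ℙ F (Fin 3 → F)) : (lin w).card = 5 := by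
  have h1 := Configuration.ProjectivePlane.card_points (ℙ F (Fin 3 → F)) (ℙ F (Fin 3 → F))
  rw [card_pts hF] at h1
  have h2 : Configuration.ProjectivePlane.order (ℙ F (Fin 3 → F)) (ℙ F (Fin 3 → F)) = 4 := by
    set n := Configuration.ProjectivePlane.order (ℙ F (Fin 3 → F)) (ℙ F (Fin 3 → F)) with hn
    have : n < 5 := by
      by_contra hcon
      push Not at hcon
      nlinarith
    interval_cases n <;> omega
  have h3 := Configuration.ProjectivePlane.pointCount_eq (ℙ F (Fin 3 → F)) w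
  rw [h2, Configuration.pointCount] at h3
  have h4 : Nat.card { p : ℙ F (Fin 3 → F) // p ∈ w } = (lin w).card := by
    classical
    rw [Nat.card_eq_fintype_card, Fintype.card_subtype, lin]
    rfl
  rw [← h4, h3]

theorem isPl (hF : Fintype.card F = 4) : IsPl (Set.range (lin (F := F))) := by
  refine ⟨card_pts hF, ?_, ?_⟩
  · rintro _ ⟨w, rfl⟩
    exact card_lin hF w
  · intro s hs
    obtain ⟨x, y, hxy, rfl⟩ := Finset.card_eq_two.1 hs
    refine ⟨lin (cross x y), ⟨⟨_, rfl⟩, ?_⟩, ?_⟩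
    · rw [Finset.insert_subset_iff, Finset.singleton_subset_iff, mem_lin, mem_lin]
      exact ⟨orthogonal_cross_left hxy, orthogonal_cross_right hxy⟩
    · rintro _ ⟨⟨w, rfl⟩, hw⟩
      rw [Finset.insert_subset_iff, Finset.singleton_subset_iff, mem_lin, mem_lin] at hw
      rcases Configuration.ofField.eq_or_eq_of_orthogonal hw.1 hw.2 (orthogonal_cross_left hxy)
        (orthogonal_cross_right hxy) with h | h
      · exact absurd h hxy
      · rw [h]

/-- the transvection `x ↦ x + (φ·x) v` as an element of `SL₃` -/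
def tvSL (v φ : Fin 3 → F) (h : φ ⬝ᵥ v = 0) : SpecialLinearGroup (Fin 3) F := ⟨tvM v φ, tv_det v φ h⟩

omit [Fintype F] [DecidableEq F] in
theorem tvSL_smul (v φ : Fin 3 → F) (h : φ ⬝ᵥ v = 0) (x : Fin 3 → F) : tvSL v φ h • x = x + (φ ⬝ᵥ x) • v := by
  change (tvM v φ) *ᵥ x = _
  exact tvM_mulVec v φ x

omit [Fintype F] [DecidableEq F] in
theorem tvSL_smul_mk (v φ : Fin 3 → F) (h : φ ⬝ᵥ v = 0) (x : Fin 3 → F) (hx : x ≠ 0) (hx' : x + (φ ⬝ᵥ x) • v ≠ 0) :
    tvSL v φ h • (mk F x hx) = mk F (x + (φ ⬝ᵥ x) • v) hx' := by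
  rw [smul_mk]
  congr 1
  exact tvSL_smul v φ h x

omit [Fintype F] [DecidableEq F] in
theorem add_ne_zero (v φ : Fin 3 → F) (h : φ ⬝ᵥ v = 0) {x : Fin 3 → F} (hx : x ≠ 0) : x + (φ ⬝ᵥ x) • v ≠ 0 := by
  rw [← tvSL_smul v φ h]
  exact (smul_ne_zero_iff_ne _).2 hx

omit [Fintype F] [DecidableEq F] in
theorem dot_tv (v φ : Fin 3 → F) (h : φ ⬝ᵥ v = 0) (x w : Fin 3 → F) :
    (x + (φ ⬝ᵥ x) • v) ⬝ᵥ (w + (v ⬝ᵥ w) • (-φ)) = x ⬝ᵥ w := by
  have h' : v ⬝ᵥ φ = 0 := by rw [dotProduct_comm]; exact h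
  have h2 : x ⬝ᵥ φ = φ ⬝ᵥ x := dotProduct_comm _ _
  simp only [add_dotProduct, dotProduct_add, smul_dotProduct, dotProduct_smul, dotProduct_neg, smul_eq_mul, h', h2]
  ring

theorem tv_image (hF : Fintype.card F = 4) (v φ : Fin 3 → F) (h : φ ⬝ᵥ v = 0) (w : Fin 3 → F) (hw : w ≠ 0)
    (hw' : w + (v ⬝ᵥ w) • (-φ) ≠ 0) :
    (lin (mk F w hw)).image (fun p => tvSL v φ h • p) = lin (mk F (w + (v ⬝ᵥ w) • (-φ)) hw') := by
  apply Finset.eq_of_subset_of_card_le
  · intro y hy
    obtain ⟨x, hx, rfl⟩ := Finset.mem_image.1 hy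
    induction x using Projectivization.ind with | _ x hx0 =>
    rw [mem_lin, orthogonal_mk] at hx
    rw [tvSL_smul_mk v φ h x hx0 (add_ne_zero v φ h hx0), mem_lin, orthogonal_mk, dot_tv v φ h, hx]
  · rw [card_lin hF, Finset.card_image_of_injective _ (MulAction.injective _), card_lin hF]

omit [Fintype F] [DecidableEq F] in
theorem wne (v φ : Fin 3 → F) (h : φ ⬝ᵥ v = 0) {w : Fin 3 → F} (hw : w ≠ 0) : w + (v ⬝ᵥ w) • (-φ) ≠ 0 := by
  have h' : (-v) ⬝ᵥ φ = 0 := by rw [neg_dotProduct, dotProduct_comm, h, neg_zero]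
  have := add_ne_zero φ (-v) h' hw
  intro e
  apply this
  rw [← e]
  ext i
  simp

theorem elation_mem (hF : Fintype.card F = 4) (σ : Equiv.Perm (ℙ F (Fin 3 → F)))
    (hσ : ∀ l ∈ Set.range (lin (F := F)), l.image σ ∈ Set.range (lin (F := F)))
    (c : ℙ F (Fin 3 → F)) (a : Finset (ℙ F (Fin 3 → F))) (ha : a ∈ Set.range (lin (F := F))) (hca : c ∈ a)
    (hfa : ∀ x ∈ a, σ x = x) (hc : ∀ l ∈ Set.range (lin (F := F)), c ∈ l → l.image σ = l) :
    ∃ g : SpecialLinearGroup (Fin 3) F, ∀ x, σ x = g • x := by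
  have hP := isPl hF
  obtain ⟨w, rfl⟩ := ha
  induction w using Projectivization.ind with | _ φ hφ =>
  induction c using Projectivization.ind with | _ v hv =>
  obtain ⟨p, hp⟩ := exists_not_orthogonal_self (mk F φ hφ)
  induction p using Projectivization.ind with | _ x hx =>
  rw [orthogonal_mk] at hp
  have hφv : φ ⬝ᵥ v = 0 := by
    rw [mem_lin, orthogonal_mk] at hca
    rw [dotProduct_comm]; exact hca
  have hφx : φ ⬝ᵥ x ≠ 0 := by rw [dotProduct_comm]; exact hp
  have hpa : mk F x hx ∉ lin (mk F φ hφ) := by rw [mem_lin, orthogonal_mk]; exact hp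
  have hcp : mk F v hv ≠ mk F x hx := fun e => hpa (e ▸ hca)
  set m := hP.ln (mk F v hv) (mk F x hx) with hm
  have hmL := hP.ln_mem hcp
  rw [← hm] at hmL
  have hne : ∀ μ : F, x + μ • v ≠ 0 := by
    intro μ e
    apply hφx
    have := congrArg (fun y => φ ⬝ᵥ y) e
    simpa [dotProduct_add, dotProduct_smul, hφv] using this
  -- the points `x + μ v`
  have hset : (Finset.univ.image fun μ : F => mk F (x + μ • v) (hne μ)) = m.erase (mk F v hv) := by
    apply Finset.eq_of_subset_of_card_le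
    · intro y hy
      obtain ⟨μ, -, rfl⟩ := Finset.mem_image.1 hy
      obtain ⟨u, hu⟩ := hmL
      induction u using Projectivization.ind with | _ ψ hψ =>
      have h1 : v ⬝ᵥ ψ = 0 := by
        rw [← orthogonal_mk hv hψ, ← mem_lin, hu]; exact hP.left_mem hcp
      have h2 : x ⬝ᵥ ψ = 0 := by
        rw [← orthogonal_mk hx hψ, ← mem_lin, hu]; exact hP.right_mem hcp
      rw [Finset.mem_erase]
      constructor
      · intro e
        have e2 : mk F (x + μ • v) (hne μ) ∈ lin (mk F φ hφ) := by rw [e]; exact hca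
        rw [mem_lin, orthogonal_mk, dotProduct_comm] at e2
        apply hφx
        simpa [dotProduct_add, dotProduct_smul, hφv] using e2
      · rw [← hu, mem_lin, orthogonal_mk]
        simp [add_dotProduct, smul_dotProduct, h1, h2]
    · rw [Finset.card_erase_of_mem (hP.left_mem hcp), hP.line_card hmL, Finset.card_image_of_injective]
      · rw [Finset.card_univ, hF]
      · intro μ μ' e
        rw [mk_eq_mk_iff'] at e
        obtain ⟨t, ht⟩ := e
        have h1 := congrArg (fun y => φ ⬝ᵥ y) ht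
        simp only [dotProduct_smul, dotProduct_add, hφv, smul_eq_mul, mul_zero, add_zero] at h1
        have ht1 : t = 1 := by
          apply mul_right_cancel₀ hφx
          rw [h1, one_mul]
        rw [ht1, one_smul] at ht
        have h2 : μ' • v = μ • v := add_left_cancel ht
        by_contra hne'
        have h3 : (μ' - μ) • v = 0 := by rw [sub_smul, h2, sub_self]
        rcases smul_eq_zero.1 h3 with h4 | h4
        · exact hne' (sub_eq_zero.1 h4).symm
        · exact hv h4
  have hσp : σ (mk F x hx) ∈ m.erase (mk F v hv) := by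
    rw [Finset.mem_erase]
    constructor
    · intro e
      have : σ (mk F x hx) = σ (mk F v hv) := by rw [e, hfa _ hca]
      exact hcp (σ.injective this).symm
    · have h1 := hc m hmL (hP.left_mem hcp)
      rw [← h1]
      exact Finset.mem_image.2 ⟨_, hP.right_mem hcp, rfl⟩
  rw [← hset, Finset.mem_image] at hσp
  obtain ⟨μ, -, hμ⟩ := hσp
  set lam := μ / (φ ⬝ᵥ x) with hlam
  have hφl : φ ⬝ᵥ (lam • v) = 0 := by rw [dotProduct_smul, hφv, smul_zero]
  set g := tvSL (lam • v) φ hφl with hg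
  -- properties of g
  have hgL : ∀ w : Fin 3 → F, (hw : w ≠ 0) → ∃ hw', (lin (mk F w hw)).image (fun p => g • p) =
      lin (mk F (w + ((lam • v) ⬝ᵥ w) • (-φ)) hw') := fun w hw =>
    ⟨wne _ _ hφl hw, tv_image hF _ _ hφl w hw (wne _ _ hφl hw)⟩
  have hgp : g • mk F x hx = σ (mk F x hx) := by
    rw [hg, tvSL_smul_mk _ _ hφl x hx (add_ne_zero _ _ hφl hx), ← hμ]
    congr 1
    rw [smul_smul, hlam, mul_div_cancel₀ _ hφx]
  have hga : ∀ y ∈ lin (mk F φ hφ), g • y = y := by
    intro y hy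
    induction y using Projectivization.ind with | _ y hy0 =>
    rw [mem_lin, orthogonal_mk, dotProduct_comm] at hy
    rw [hg, tvSL_smul_mk _ _ hφl y hy0 (add_ne_zero _ _ hφl hy0)]
    congr 1
    rw [hy, zero_smul, add_zero]
  have hgc : ∀ l ∈ Set.range (lin (F := F)), mk F v hv ∈ l → l.image (fun p => g • p) = l := by
    rintro _ ⟨u, rfl⟩ hvu
    induction u using Projectivization.ind with | _ ψ hψ =>
    rw [mem_lin, orthogonal_mk] at hvu
    obtain ⟨hw', h1⟩ := hgL ψ hψ
    rw [h1]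
    congr 2
    rw [smul_dotProduct, hvu, smul_zero, zero_smul, add_zero]
  refine ⟨g, ?_⟩
  -- τ = g⁻¹ σ
  let γ : Equiv.Perm (ℙ F (Fin 3 → F)) := MulAction.toPerm g
  have hγ : ∀ y, γ y = g • y := fun _ => rfl
  have key : ∀ q, (γ⁻¹ * σ) q = q := by
    have hback : ∀ l m' : Finset (ℙ F (Fin 3 → F)), m'.image γ = l → l.image ⇑γ⁻¹ = m' := by
      rintro _ m' rfl
      rw [Finset.image_image]
      ext y; simp
    refine fix_all hP (γ⁻¹ * σ) ?_ ⟨_, rfl⟩ hca ?_ ?_ hpa ?_
    · intro l hl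
      have h1 := hσ l hl
      obtain ⟨u, hu⟩ := h1
      have h2 : l.image ⇑(γ⁻¹ * σ) = (l.image σ).image ⇑γ⁻¹ := by
        rw [Finset.image_image]; rfl
      rw [h2, ← hu]
      -- inverse of g is the transvection with `-`
      have hbij : Set.BijOn (fun l : Finset (ℙ F (Fin 3 → F)) => l.image γ) (Set.range (lin (F := F)))
          (Set.range (lin (F := F))) := by
        have hmaps : Set.MapsTo (fun l : Finset (ℙ F (Fin 3 → F)) => l.image γ) (Set.range (lin (F := F)))
          (Set.range (lin (F := F))) := by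
          rintro _ ⟨u, rfl⟩
          induction u using Projectivization.ind with | _ ψ hψ =>
          obtain ⟨hw', h1⟩ := hgL ψ hψ
          exact ⟨_, h1.symm⟩
        have hinj : Set.InjOn (fun l : Finset (ℙ F (Fin 3 → F)) => l.image γ) (Set.range (lin (F := F))) :=
          (Finset.image_injective γ.injective).injOn
        refine ⟨hmaps, hinj, ?_⟩
        have h3 : (fun l : Finset (ℙ F (Fin 3 → F)) => l.image γ) '' (Set.range (lin (F := F))) =
            Set.range (lin (F := F)) := by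
          apply Set.eq_of_subset_of_ncard_le _ _ (Set.toFinite _)
          · rintro _ ⟨l, hl, rfl⟩
            exact hmaps hl
          · rw [hinj.ncard_image]
        intro y hy
        rw [h3]
        exact hy
      obtain ⟨l', hl', hl2⟩ := hbij.surjOn ⟨u, rfl⟩
      rw [hback _ l' hl2]
      exact hl'
    · intro y hy
      rw [Equiv.Perm.mul_apply, hfa y hy, Equiv.Perm.inv_eq_iff_eq]
      exact (hga y hy).symm
    · intro l hl hcl
      have h2 : l.image ⇑(γ⁻¹ * σ) = (l.image σ).image ⇑γ⁻¹ := by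
        rw [Finset.image_image]; rfl
      rw [h2, hc l hl hcl]
      exact hback _ _ (hgc l hl hcl)
    · rw [Equiv.Perm.mul_apply, Equiv.Perm.inv_eq_iff_eq]
      exact hgp.symm
  intro y
  have h1 := key y
  rw [Equiv.Perm.mul_apply, Equiv.Perm.inv_eq_iff_eq] at h1
  exact h1

end Model

end Rec34

open Matrix Projectivization in
open scoped LinearAlgebra.Projectivization in
theorem psl34_of_plane {G α : Type*} [Group G] [Finite G] [Fintype α] [DecidableEq α] [MulAction G α]
    {L : Set (Finset α)} (hL : Cfsg.Agent.H93.IsPl L)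
    (hinv : ∀ g : G, ∀ l ∈ L, l.image (fun x => g • x) ∈ L) (hf : ∀ g : G, (∀ x : α, g • x = x) → g = 1)
    (E : Set G) (hgen : Subgroup.closure E = ⊤)
    (hE : ∀ t ∈ E, ∃ (c : α) (a : Finset α), a ∈ L ∧ c ∈ a ∧ (∀ x ∈ a, t • x = x) ∧
      ∀ l ∈ L, c ∈ l → l.image (fun x => t • x) = l) (hcard : Nat.card G = 20160) :
    ∃ (F : Type) (_ : Field F) (_ : Fintype F), Fintype.card F = 4 ∧
      Nonempty (G ≃* Matrix.ProjectiveSpecialLinearGroup (Fin 3) F) := by
  classical
  let F := GaloisField 2 2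
  let _ : Fintype F := Fintype.ofFinite F
  have hF : Fintype.card F = 4 := by
    rw [Fintype.card_eq_nat_card]
    exact GaloisField.card 2 2 (by norm_num)
  refine ⟨F, inferInstance, inferInstance, hF, ?_⟩
  let _ : Fintype (ℙ F (Fin 3 → F)) := Fintype.ofFinite _
  have hP := Rec34.isPl hF
  obtain ⟨e, he⟩ := Rec34.plane_iso hL.card hP.card hL.st hP.st
  let Φ : G →* Equiv.Perm (ℙ F (Fin 3 → F)) := (Equiv.permCongrHom e).toMonoidHom.comp (MulAction.toPermHom G α)
  have hΦ : ∀ (g : G) (x : α), Φ g (e x) = e (g • x) := by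
    intro g x
    simp [Φ, Equiv.permCongrHom]
  have hΦinj : Function.Injective Φ := by
    rw [injective_iff_map_eq_one]
    intro g hg
    apply hf g
    intro x
    apply e.injective
    rw [← hΦ, hg, Equiv.Perm.one_apply]
  have himg : ∀ (g : G) (l : Finset α), (l.image e).image (Φ g) = (l.image (fun x => g • x)).image e := by
    intro g l
    rw [Finset.image_image, Finset.image_image]
    congr 1
    funext x
    exact hΦ g x
  have hle : (⊤ : Subgroup G) ≤ (MulAction.toPermHom (SpecialLinearGroup (Fin 3) F) (ℙ F (Fin 3 → F))).range.comap Φ := by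
    rw [← hgen, Subgroup.closure_le]
    intro t ht
    obtain ⟨c, a, ha, hca, hfa, hc⟩ := hE t ht
    obtain ⟨g, hg⟩ := Rec34.elation_mem hF (Φ t)
      (by
        rw [← he]
        rintro _ ⟨l, hl, rfl⟩
        refine ⟨l.image (fun x => t • x), hinv t l hl, ?_⟩
        exact (himg t l).symm)
      (e c) (a.image e) (by rw [← he]; exact ⟨a, ha, rfl⟩) (Finset.mem_image_of_mem _ hca)
      (by
        intro y hy
        obtain ⟨x, hx, rfl⟩ := Finset.mem_image.1 hy
        rw [hΦ, hfa x hx])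
      (by
        rw [← he]
        rintro _ ⟨l, hl, rfl⟩ hcl
        obtain ⟨c', hc', hcc⟩ := Finset.mem_image.1 hcl
        have := e.injective hcc
        subst this
        have h1 := himg t l
        rw [hc l hl hc'] at h1
        exact h1)
    rw [SetLike.mem_coe, Subgroup.mem_comap, MonoidHom.mem_range]
    refine ⟨g, ?_⟩
    ext1 x
    exact (hg x).symm
  have hle2 : Φ.range ≤ (PSLAction.toPermHom (K := F) (ι := Fin 3)).range := by
    rintro _ ⟨t, rfl⟩
    obtain ⟨g, hg⟩ := hle (Subgroup.mem_top t)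
    exact ⟨QuotientGroup.mk g, hg⟩
  have hcP : Nat.card (Matrix.ProjectiveSpecialLinearGroup (Fin 3) F) = 20160 := by
    have h : Nat.gcd 3 (4 - 1) * ((4 - 1) * Nat.card (Matrix.ProjectiveSpecialLinearGroup (Fin 3) F)) =
        ∏ i : Fin 3, (4 ^ 3 - 4 ^ (i : ℕ)) := by
      rw [← hF, ← Matrix.card_GL_field, ← Cfsg.Agent.H4.card_SL_mul 3 (by omega),
        ← Cfsg.Agent.H4.card_PSL_mul 3 (by omega)]
      ring
    rw [Fin.prod_univ_three] at h
    have e : (4 ^ 3 - 4 ^ ((0 : Fin 3) : ℕ)) * (4 ^ 3 - 4 ^ ((1 : Fin 3) : ℕ)) * (4 ^ 3 - 4 ^ ((2 : Fin 3) : ℕ)) = 181440 := by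
      decide
    rw [e] at h
    have e2 : Nat.gcd 3 (4 - 1) = 3 := by decide
    rw [e2] at h
    omega
  have i1 : G ≃* Φ.range := MonoidHom.ofInjective hΦinj
  have i2 : Matrix.ProjectiveSpecialLinearGroup (Fin 3) F ≃* (PSLAction.toPermHom (K := F) (ι := Fin 3)).range :=
    MonoidHom.ofInjective Matrix.ProjectiveSpecialLinearGroup.toPermHom_injective
  have heq : Φ.range = (PSLAction.toPermHom (K := F) (ι := Fin 3)).range := by
    apply Subgroup.eq_of_le_of_card_ge hle2
    rw [← Nat.card_congr i1.toEquiv, ← Nat.card_congr i2.toEquiv, hcard, hcP]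
  exact ⟨i1.trans ((MulEquiv.subgroupCongr heq).trans i2.symm)⟩

end Cfsg.Agent.CIT
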