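import Mathlib
import Cfsg.Agent.CIT.Final1
import Cfsg.Agent.CIT.Plane
import Cfsg.Agent.CIT.Sixty2
import Cfsg.Agent.CIT.Dih
import Cfsg.Agent.CIT.NoPSU
import Cfsg.Agent.CIT.Rec34
import Cfsg.Agent.RK.SE
import Cfsg.Agent.RK.Simple

set_option autoImplicit false

/-!
# CIT groups XX: simple CIT groups of even order
-/

namespace Cfsg.Agent.CIT

open Subgroup Cfsg.Agent.H80 Cfsg.Agent.H32

universe u

theorem IsCIT.of_equiv {G H : Type*} [Group G] [Group H] (f : G ≃* H) (hG : IsCIT G) : IsCIT H := by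
  intro t ht
  have h1 : orderOf (f.symm t) = 2 := by rw [MulEquiv.orderOf_eq]; exact ht
  have h2 := hG _ h1
  rintro ⟨x, hx⟩
  have hx' : f.symm x ∈ centralizer ({f.symm t} : Set G) := by
    rw [mem_centralizer_singleton_iff] at hx ⊢
    rw [← map_mul, ← map_mul, hx]
  obtain ⟨k, hk⟩ := h2 ⟨f.symm x, hx'⟩
  refine ⟨k, Subtype.ext ?_⟩
  have hk' := congrArg Subtype.val hk
  have h3 : f.symm (x ^ 2 ^ k) = f.symm 1 := by rw [map_pow, map_one]; exact hk'
  exact f.symm.injective h3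

variable {G : Type u} [Group G] [Finite G]

/-- the `L₃(4)` case -/
theorem psl_three [IsSimpleGroup G] (hG : IsCIT G) (hna : ¬ IsMulCommutative G) (S : Sylow 2 G)
    {T W W' : Subgroup G} (h : Pair T W W') (hTS : T ≤ (S : Subgroup G)) (hq : Nat.card (Om T) = 4) :
    ∃ (F : Type) (_ : Field F) (_ : Fintype F), Fintype.card F = 4 ∧
        Nonempty (G ≃* Matrix.ProjectiveSpecialLinearGroup (Fin 3) F) := by
  have e := h.eq_sylow hG (H65.index_ne_two hna) S hTS hq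
  subst e
  have hP : GP (S : Subgroup G) W W' := ⟨hG, h, fun X hX => isSylowIn_of_le S hX⟩
  exact psl34_of_plane (hP.isPl hq) (fun x l hl => GP.inv_line x l hl) (hP.faithful hq)
    {t : G | t ≠ 1 ∧ t * t = 1} hP.closure_inv (fun t ht => hP.elation ht.1 ht.2) (hP.card_G hq)

/-- simple CIT groups of even order, strong form -/
theorem cit_strong [IsSimpleGroup G] (hG : IsCIT G) (hna : ¬ IsMulCommutative G) (h2 : 2 ∣ Nat.card G) :
    (∃ (F : Type) (_ : Field F) (_ : Fintype F),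
        (Fintype.card F = 9 ∨ (∃ n : ℕ, Fintype.card F = 2 ^ n) ∨
          ((Fintype.card F).Prime ∧ ∃ k : ℕ, Fintype.card F = 2 ^ k + 1 ∨ Fintype.card F + 1 = 2 ^ k)) ∧
        Nonempty (G ≃* Matrix.ProjectiveSpecialLinearGroup (Fin 2) F)) ∨
    (∃ (F : Type) (_ : Field F) (_ : Fintype F), Fintype.card F = 4 ∧
        Nonempty (G ≃* Matrix.ProjectiveSpecialLinearGroup (Fin 3) F)) ∨
    Cfsg.Lie.IsoSuzuki G := by
  classical
  haveI : Fact (Nat.Prime 2) := ⟨Nat.prime_two⟩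
  obtain ⟨S⟩ : Nonempty (Sylow 2 G) := inferInstance
  have hne : (S : Subgroup G) ≠ ⊥ := S.ne_bot_of_dvd_card h2
  have hna' : ∃ a b : G, a * b ≠ b * a := by
    by_contra hcon
    push Not at hcon
    exact hna ⟨⟨hcon⟩⟩
  rcases dich hG S hne with ⟨Q, hQ1, hQS, hSQ, hQ⟩ | ⟨T, W, W', hTS, hT⟩
  · have hQ2 : IsPGroup 2 Q := S.2.to_le hQS
    obtain ⟨M, hM, hP⟩ := exists_se hG hna' hQ1 hQ2 hQ
    obtain ⟨R, hRM, hRn, h3, h4⟩ := se_reg hG hna' hM hP
    obtain ⟨t, hS⟩ := RK.setup_of_stronglyEmbedded M hM R hRM hRn h3 h4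
    rcases RK.simple_classification hS with ⟨F, i1, i2, ⟨n, -, hc⟩, hf⟩ | hsz | ⟨F, i1, i2, n, hn, hc, ⟨f⟩⟩
    · exact Or.inl ⟨F, i1, i2, Or.inr (Or.inl ⟨n, hc⟩), hf⟩
    · exact Or.inr (Or.inr hsz)
    · refine absurd (hG.of_equiv f) (not_cit_psu hc ?_ ?_)
      · exact (Nat.even_pow).mpr ⟨even_two, by omega⟩
      · calc 4 = 2 ^ 2 := by norm_num
          _ ≤ 2 ^ n := Nat.pow_le_pow_right (by norm_num) hn
  · rcases hT.q_eq hG with hq | hq
    · exact Or.inl (hT.psl_two hna hG S hTS hq)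
    · exact Or.inr (Or.inl (psl_three hG hna S hT hTS hq))

/-- simple CIT groups of even order -/
theorem cit_main [IsSimpleGroup G] (hG : IsCIT G) (hna : ¬ IsMulCommutative G) (h2 : 2 ∣ Nat.card G) :
    (∃ (F : Type) (_ : Field F) (_ : Fintype F),
        (Fintype.card F = 9 ∨ (∃ n : ℕ, Fintype.card F = 2 ^ n) ∨
          ((Fintype.card F).Prime ∧ ∃ k : ℕ, Fintype.card F = 2 ^ k + 1 ∨ Fintype.card F + 1 = 2 ^ k)) ∧
        Nonempty (G ≃* Matrix.ProjectiveSpecialLinearGroup (Fin 2) F)) ∨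
    (∃ (F : Type) (_ : Field F) (_ : Fintype F), Fintype.card F = 4 ∧
        Nonempty (G ≃* Matrix.ProjectiveSpecialLinearGroup (Fin 3) F)) ∨
    Cfsg.IsSuzuki G := by
  rcases cit_strong hG hna h2 with h | h | h
  · exact Or.inl h
  · exact Or.inr (Or.inl h)
  · exact Or.inr (Or.inr (RK.isSuzuki_of_iso h))

end Cfsg.Agent.CIT
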