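import Mathlib
import Cfsg.Agent.CIT.TwoP5
import Cfsg.Agent.CIT.AlmPSL
import Cfsg.Agent.JY.Eppo
import Cfsg.Agent.JY.Cit

set_option autoImplicit false

/-!
# Nonsolvable groups of class (D) in which no prime divides three element orders
-/

namespace Cfsg.Agent.CIT.Non

open Subgroup Cfsg.Agent.CIT.TwoP

universe u

variable {G : Type u} [Group G] [Finite G] {p : ℕ}

/-- no prime divides three element orders -/
def H3 (G : Type*) [Group G] : Prop :=
  ∀ r : ℕ, r.Prime → ∀ a b c : G, orderOf a ≠ orderOf b → orderOf b ≠ orderOf c →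
    orderOf a ≠ orderOf c → ¬ (r ∣ orderOf a ∧ r ∣ orderOf b ∧ r ∣ orderOf c)

/-- `[S, g]` centralizes `X`, version without Sylow hypothesis -/
theorem comm_gen (h : DG G p) {S X : Subgroup G} (hS : ∀ s ∈ S, s * s = 1) (hX : IsPGroup p X)
    (hSX : S ≤ normalizer (X : Set G)) {g : G}
    (hg2 : ∀ x ∈ zpowers g, (∃ k, x ^ 2 ^ k = 1) → ∀ s ∈ S, x * s = s * x)
    (hgX : g ∈ normalizer (X : Set G)) (hgS : g ∈ normalizer (S : Set G)) :
    ∀ s ∈ S, s * (g * s⁻¹ * g⁻¹) ∈ centralizer (X : Set G) := by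
  have hinv : ∀ s ∈ S, s⁻¹ = s := fun s hs => inv_eq_of_mul_eq_one_left (hS s hs)
  have hcomm : ∀ a ∈ S, ∀ b ∈ S, a * b = b * a := by
    intro a ha b hb
    have h1 := hinv _ (mul_mem ha hb)
    rw [mul_inv_rev, hinv a ha, hinv b hb] at h1
    exact h1.symm
  have hnc : ∀ g ∈ normalizer (X : Set G), ∀ c ∈ centralizer (X : Set G), g * c * g⁻¹ ∈ centralizer (X : Set G) := by
    intro g hg c hc
    rw [mem_centralizer_iff]
    intro x hx
    have h1 : g⁻¹ * x * g ∈ (X : Set G) := by
      have := (mem_normalizer_iff.1 (inv_mem hg) x).1 hx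
      rwa [inv_inv] at this
    have h2 := mem_centralizer_iff.1 hc _ h1
    calc x * (g * c * g⁻¹) = g * (g⁻¹ * x * g * c) * g⁻¹ := by group
      _ = g * (c * (g⁻¹ * x * g)) * g⁻¹ := by rw [h2]
      _ = g * c * g⁻¹ * x := by group
  let H : Subgroup G :=
    { carrier := {g | g ∈ normalizer (X : Set G) ∧ g ∈ normalizer (S : Set G) ∧
        ∀ s ∈ S, s * (g * s⁻¹ * g⁻¹) ∈ centralizer (X : Set G)}
      one_mem' := ⟨one_mem _, one_mem _, fun s _ => by simp [one_mem]⟩
      mul_mem' := by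
        rintro a b ⟨ha1, ha2, ha3⟩ ⟨hb1, hb2, hb3⟩
        refine ⟨mul_mem ha1 hb1, mul_mem ha2 hb2, fun s hs => ?_⟩
        have h1 : s * (a * b * s⁻¹ * (a * b)⁻¹) = (s * (a * s⁻¹ * a⁻¹)) * (a * (s * (b * s⁻¹ * b⁻¹)) * a⁻¹) := by
          group
        rw [h1]
        exact mul_mem (ha3 s hs) (hnc a ha1 _ (hb3 s hs))
      inv_mem' := by
        rintro a ⟨ha1, ha2, ha3⟩
        refine ⟨inv_mem ha1, inv_mem ha2, fun s hs => ?_⟩
        have h1 := hnc _ (inv_mem ha1) _ (inv_mem (ha3 s hs))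
        have h3 : a⁻¹ * (s * (a * s⁻¹ * a⁻¹))⁻¹ * a⁻¹⁻¹ = (s * (a⁻¹ * s⁻¹ * a⁻¹⁻¹)) := by
          have h4 : a⁻¹ * (s * (a * s⁻¹ * a⁻¹))⁻¹ * a⁻¹⁻¹ = s * (a⁻¹ * s⁻¹ * a⁻¹⁻¹) := by group
          exact h4
        rwa [h3] at h1 }
  suffices hg : g ∈ H from hg.2.2
  apply mem_of_pp'
  rintro l hl x hx ⟨k, hk⟩
  have hxX : x ∈ normalizer (X : Set G) := zpowers_le.2 hgX hx
  have hxS : x ∈ normalizer (S : Set G) := zpowers_le.2 hgS hx
  refine ⟨hxX, hxS, fun s hs => ?_⟩
  rcases eq_or_ne l 2 with rfl | h2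
  · have h3 : s * (x * s⁻¹ * x⁻¹) = 1 := by
      rw [hg2 x hx ⟨k, hk⟩ _ (inv_mem hs)]; group
    rw [h3]; exact one_mem _
  rcases eq_or_ne x 1 with rfl | hx1
  · simp [one_mem]
  rcases eq_or_ne l p with rfl | hp
  · exact h.comm_prime hS hX hSX hxX hxS hl h2 (h.order_of_pow (h.expp ⟨k, hk⟩) hx1) s hs
  -- a power of order `l`
  obtain ⟨j, hj, hjx⟩ := (Nat.dvd_prime_pow hl).1 (orderOf_dvd_of_pow_eq_one hk)
  have hj0 : j ≠ 0 := by
    rintro rfl
    rw [pow_zero, orderOf_eq_one_iff] at hjx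
    exact hx1 hjx
  set x0 := x ^ l ^ (j - 1) with hx0
  have h3 : orderOf x0 = l := by
    rw [hx0, orderOf_pow_of_dvd (pow_ne_zero _ hl.ne_zero) (by rw [hjx]; exact pow_dvd_pow _ (by omega)), hjx,
      Nat.pow_div (by omega) hl.pos]
    have : j - (j - 1) = 1 := by omega
    rw [this, pow_one]
  have h4 := h.comm_prime hS hX hSX (pow_mem hxX _) (pow_mem hxS _) hl h2 h3
  have hx0S : ∀ s ∈ S, x0 * s * x0⁻¹ ∈ S := fun s hs => (mem_normalizer_iff.1 (pow_mem hxS _) s).1 hs
  have hb : Function.Bijective (fun u : S => (⟨u.1 * (x0 * u.1⁻¹ * x0⁻¹), mul_mem u.2 (hx0S _ (inv_mem u.2))⟩ : S)) := by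
    refine NormTr.shift_bij hcomm hx0S ?_
    intro e he hee
    exact h.no_comm2 hl h2 hp h3 (hS e he) (mul_inv_eq_iff_eq_mul.1 hee)
  have h5 : ∀ s ∈ S, s ∈ centralizer (X : Set G) := by
    intro s hs
    obtain ⟨u, hu⟩ := hb.2 ⟨s, hs⟩
    have h6 : u.1 * (x0 * u.1⁻¹ * x0⁻¹) = s := congrArg Subtype.val hu
    rw [← h6]
    exact h4 _ u.2
  exact mul_mem (h5 s hs) (h5 _ ((mem_normalizer_iff.1 hxS _).1 (inv_mem hs)))

theorem solv_of_odd_index {L : Type u} [Group L] [Finite L] (K : Subgroup L) [K.Normal] (hK : Group.IsSolvable K)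
    (ho : ¬ 2 ∣ K.index) : Group.IsSolvable L := by
  have h1 : Group.IsSolvable (L ⧸ K) := by
    apply Cfsg.Agent.FT.solvable_of_odd
    rw [← Nat.not_even_iff_odd, even_iff_two_dvd]
    exact ho
  exact Group.isSolvable_of_ker_le_range K.subtype (QuotientGroup.mk' K) (by
    rw [QuotientGroup.ker_mk', Subgroup.range_subtype])

theorem solv_of_le {K M : Subgroup G} (hM : Group.IsSolvable M) (h : K ≤ M) : Group.IsSolvable K := by
  haveI := hM
  exact Group.isSolvable_of_isSolvable_injective (f := Subgroup.inclusion h) (Subgroup.inclusion_injective h)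

/-- a minimal nonsolvable subgroup -/
theorem exists_min_nonsolv (hns : ¬ Group.IsSolvable G) :
    ∃ L : Subgroup G, ¬ Group.IsSolvable L ∧ ∀ K : Subgroup L, K ≠ ⊤ → Group.IsSolvable K := by
  classical
  obtain ⟨L, hL, hmin⟩ := Set.exists_min_image {L : Subgroup G | ¬ Group.IsSolvable L}
    (fun L => Nat.card L) (Set.toFinite _) ⟨⊤, fun h => hns (by
      haveI := h
      exact Group.isSolvable_of_isSolvable_injective (f := (Subgroup.topEquiv (G := G)).symm.toMonoidHom)
        (Subgroup.topEquiv (G := G)).symm.injective)⟩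
  refine ⟨L, hL, ?_⟩
  intro K hK
  by_contra hKs
  have h1 : ¬ Group.IsSolvable (K.map L.subtype) := by
    intro hs
    apply hKs
    haveI := hs
    let e : K ≃* K.map L.subtype := K.equivMapOfInjective L.subtype L.subtype_injective
    exact Group.isSolvable_of_isSolvable_injective (f := e.toMonoidHom) e.injective
  have h2 := hmin _ h1
  rw [card_map_of_injective L.subtype_injective] at h2
  exact hK (Subgroup.eq_top_of_card_eq K (le_antisymm (Subgroup.card_le_card_group K) h2))

theorem min_index {L : Type u} [Group L] [Finite L] (hL : ¬ Group.IsSolvable L)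
    (hmin : ∀ K : Subgroup L, K ≠ ⊤ → Group.IsSolvable K) : ∀ H : Subgroup L, H.index ≠ 2 := by
  intro H hH
  haveI := normal_of_index_eq_two hH
  have h1 := hmin H (by rintro rfl; rw [index_top] at hH; omega)
  apply hL
  have h2 : Group.IsSolvable (L ⧸ H) := by
    haveI : IsCyclic (L ⧸ H) := by
      haveI := Fact.mk Nat.prime_two
      exact isCyclic_of_prime_card (p := 2) hH
    exact Group.isSolvable_of_comm (fun a b => mul_comm' a b)
  exact Group.isSolvable_of_ker_le_range H.subtype (QuotientGroup.mk' H) (by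
    rw [QuotientGroup.ker_mk', Subgroup.range_subtype])

theorem DG_subgroup (h : DG G p) (L : Subgroup G) : DG L p := by
  refine ⟨h.prime, h.ne2, ?_, ?_, ?_⟩
  · rintro x ⟨k, hk⟩
    exact Subtype.ext (h.exp2 x.1 ⟨k, congrArg Subtype.val hk⟩)
  · intro t x ht hx
    have := h.cen2 t.1 x.1 (by rw [Subgroup.orderOf_coe, ht]) (congrArg Subtype.val hx)
    rwa [Subgroup.orderOf_coe] at this
  · intro t x ht hx
    have := h.cenp t.1 x.1 (by rw [Subgroup.orderOf_coe, ht]) (congrArg Subtype.val hx)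
    rwa [Subgroup.orderOf_coe] at this

theorem syl_sq (h : DG G p) (S : Sylow 2 G) : ∀ s ∈ (S : Subgroup G), s * s = 1 := by
  intro s hs
  obtain ⟨k, hk⟩ := S.2 ⟨s, hs⟩
  exact h.exp2 s ⟨k, congrArg Subtype.val hk⟩

theorem comm_of_sq {X : Type*} [Group X] {S : Subgroup X} (hS : ∀ s ∈ S, s * s = 1) :
    ∀ a ∈ S, ∀ b ∈ S, a * b = b * a := by
  have hinv : ∀ s ∈ S, s⁻¹ = s := fun s hs => inv_eq_of_mul_eq_one_left (hS s hs)
  intro a ha b hb
  have h1 := hinv _ (mul_mem ha hb)
  rw [mul_inv_rev, hinv a ha, hinv b hb] at h1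
  exact h1.symm

/-- the Sylow 2-subgroups of a group without subgroups of index 2 have order 1 or at least 4 -/
theorem card_syl {L : Type u} [Group L] [Finite L] (h : DG L p) (hL : ¬ Group.IsSolvable L)
    (hG2 : ∀ H : Subgroup L, H.index ≠ 2) (S : Sylow 2 L) : 2 ^ 2 ≤ Nat.card S := by
  haveI := Fact.mk Nat.prime_two
  have hS := syl_sq h S
  have hinv : ∀ s ∈ (S : Subgroup L), s⁻¹ = s := fun s hs => inv_eq_of_mul_eq_one_left (hS s hs)
  obtain ⟨n, hn⟩ := IsPGroup.iff_card.1 S.2
  rw [hn]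
  apply Nat.pow_le_pow_right (by norm_num)
  by_contra hlt
  have h01 : n = 0 ∨ n = 1 := by omega
  rcases h01 with rfl | rfl
  · rw [pow_zero] at hn
    have hSb : (S : Subgroup L) = ⊥ := Subgroup.eq_bot_of_card_eq _ hn
    have hodd : Odd (Nat.card L) := by
      rw [← Nat.not_even_iff_odd, even_iff_two_dvd]
      intro h2
      exact S.ne_bot_of_dvd_card h2 hSb
    exact hL (Cfsg.Agent.FT.solvable_of_odd hodd)
  · rw [pow_one] at hn
    have h2 := syl_eq_comm hG2 S hS ⊥ bot_le (by
      intro g hg s hs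
      rcases eq_or_ne s 1 with rfl | hs1
      · simp
      · have h3 : g * s * g⁻¹ = s := by
          have h4 : g * s * g⁻¹ ∈ (S : Subgroup L) := (mem_normalizer_iff.1 hg s).1 hs
          have h5 : g * s * g⁻¹ ≠ 1 := by rwa [ne_eq, conj_eq_one_iff]
          by_contra hne
          haveI : Fintype (S : Subgroup L) := Fintype.ofFinite _
          classical
          have h6 : ({1, ⟨s, hs⟩, ⟨_, h4⟩} : Finset (S : Subgroup L)).card ≤ Nat.card (S : Subgroup L) := by
            rw [Nat.card_eq_fintype_card]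
            exact Finset.card_le_univ _
          rw [hn] at h6
          rw [Finset.card_insert_of_notMem, Finset.card_insert_of_notMem, Finset.card_singleton] at h6
          · omega
          · simp only [Finset.mem_singleton, Subtype.mk.injEq]
            exact fun h7 => hne h7.symm
          · simp only [Finset.mem_insert, Finset.mem_singleton, not_or]
            exact ⟨fun h7 => hs1 (congrArg Subtype.val h7).symm, fun h7 => h5 (congrArg Subtype.val h7).symm⟩
        rw [mem_bot, hinv s hs, h3, hS s hs])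
    rw [← h2, card_bot] at hn
    omega

/-- (A) no odd normal subgroups; (B) no normal 2-subgroups. -/
theorem no_normal (h : DG G p) (hns : ¬ Group.IsSolvable G) {r : ℕ} (hr : r.Prime) {V : Subgroup G} [hV : V.Normal]
    (hVr : IsPGroup r V) : V = ⊥ := by
  haveI := Fact.mk Nat.prime_two
  haveI := Fact.mk hr
  haveI := Fact.mk h.prime
  by_contra hV1
  obtain ⟨L, hL, hmin⟩ := exists_min_nonsolv hns
  have hG2 := min_index hL hmin
  have hDL := DG_subgroup h L
  have S : Sylow 2 L := default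
  have hS4 := card_syl hDL hL hG2 S
  have hS := syl_sq hDL S
  have hSc := comm_of_sq hS
  -- the Sylow subgroup in `G`
  set T : Subgroup G := (S : Subgroup L).map L.subtype with hT
  have hTs : ∀ s ∈ T, s * s = 1 := by
    rintro _ ⟨s, hs, rfl⟩
    exact congrArg Subtype.val (hS s hs)
  have hTc := comm_of_sq hTs
  have hT4 : 2 ^ 2 ≤ Nat.card T := by
    rw [hT, card_map_of_injective L.subtype_injective]; exact hS4
  have hTE : Cfsg.IsElementaryAbelian 2 T :=
    ⟨⟨⟨fun a b => Subtype.ext (hTc _ a.2 _ b.2)⟩⟩, fun s hs => by rw [pow_two, hTs s hs]⟩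
  have hVn : ∀ K : Subgroup G, K ≤ normalizer (V : Set G) := by
    intro K
    rw [normalizer_eq_top_iff.2 hV]
    exact le_top
  -- it suffices that `T` centralizes `V`
  have key : T ≤ centralizer (V : Set G) → False := by
    intro hTV
    have hCn : (centralizer (V : Set G)).Normal := inferInstance
    set K : Subgroup L := (centralizer (V : Set G)).subgroupOf L with hK
    have hKn : K.Normal := inferInstance
    have hSK : (S : Subgroup L) ≤ K := by
      intro s hs
      rw [hK, mem_subgroupOf]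
      exact hTV ⟨s, hs, rfl⟩
    have hodd : ¬ 2 ∣ K.index := fun hd => S.not_dvd_index (hd.trans (Subgroup.index_dvd_of_le hSK))
    apply hL
    refine solv_of_odd_index K ?_ hodd
    -- `K` is solvable
    obtain ⟨v, hv, hv1⟩ : ∃ v ∈ V, v ≠ 1 := by
      by_contra hcon
      push Not at hcon
      exact hV1 ((Subgroup.eq_bot_iff_forall V).2 hcon)
    have hKG : Group.IsSolvable (K.map L.subtype) := by
      apply h.solv
      rintro _ ⟨x, hx, rfl⟩
      rw [hK, SetLike.mem_coe, mem_subgroupOf] at hx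
      have hxv := mem_centralizer_iff.1 hx v hv
      by_cases hr2 : r = 2
      · subst hr2
        have hvv : v * v = 1 := by
          obtain ⟨k, hk⟩ := hVr ⟨v, hv⟩
          exact h.exp2 v ⟨k, congrArg Subtype.val hk⟩
        exact h.cen2 v _ (DG.order_two hvv hv1) hxv.symm
      · have hVp : IsPGroup p V := h.pgroup_of_inv hTE hT4 (by
          obtain ⟨k, hk⟩ := IsPGroup.iff_card.1 hVr
          rw [hk]
          intro h2
          exact hr2 ((Nat.prime_dvd_prime_iff_eq Nat.prime_two hr).1 (Nat.prime_two.dvd_of_dvd_pow h2)).symm) (hVn T)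
        exact h.cenp v _ (h.order_of_pow (h.pgroup_pow hVp hv) hv1) hxv.symm
    haveI := hKG
    let e : K ≃* K.map L.subtype := K.equivMapOfInjective L.subtype L.subtype_injective
    exact Group.isSolvable_of_isSolvable_injective (f := e.toMonoidHom) e.injective
  by_cases hr2 : r = 2
  · subst hr2
    apply key
    have h1 : IsPGroup 2 (T ⊔ V : Subgroup G) := (SigF.isPGroup_of_elem hTE).to_sup_of_normal_right hVr
    have h2 : ∀ s ∈ (T ⊔ V : Subgroup G), s * s = 1 := by
      intro s hs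
      obtain ⟨k, hk⟩ := h1 ⟨s, hs⟩
      exact h.exp2 s ⟨k, congrArg Subtype.val hk⟩
    intro t ht
    rw [mem_centralizer_iff]
    intro v hv
    exact comm_of_sq h2 v (mem_sup_right hv) t (mem_sup_left ht)
  · have hVp : IsPGroup p V := h.pgroup_of_inv hTE hT4 (by
      obtain ⟨k, hk⟩ := IsPGroup.iff_card.1 hVr
      rw [hk]
      intro h2
      exact hr2 ((Nat.prime_dvd_prime_iff_eq Nat.prime_two hr).1 (Nat.prime_two.dvd_of_dvd_pow h2)).symm) (hVn T)
    apply key
    have hSC : (S : Subgroup L) ⊓ (centralizer (V : Set G)).subgroupOf L = S := by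
      apply syl_eq_comm hG2 S hS _ inf_le_left
      intro g hg s hs
      refine ⟨mul_mem hs ((mem_normalizer_iff.1 hg _).1 (inv_mem hs)), mem_subgroupOf.2 ?_⟩
      refine comm_gen h hTs hVp (hVn T) (g := (g : G)) ?_ (hVn ⊤ (mem_top _)) ?_ (s : G) ⟨s, hs, rfl⟩
      · rintro x ⟨m, hm⟩ ⟨k, hk⟩ _ ⟨t, ht, rfl⟩
        -- `x` is in the Sylow subgroup
        have hx : (g : L) ^ m ∈ (S : Subgroup L) := by
          have h1 : ((g : L) ^ m) ^ 2 ^ k = 1 := by
            apply Subtype.ext
            rw [Subgroup.coe_pow, Subgroup.coe_zpow]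
            change ((g : G) ^ m) ^ 2 ^ k = 1
            rw [show (g : G) ^ m = x from hm, hk]
          have h2 : IsPGroup 2 (zpowers ((g : L) ^ m)) := by
            obtain ⟨j, hj, hjx⟩ := (Nat.dvd_prime_pow Nat.prime_two).1 (orderOf_dvd_of_pow_eq_one h1)
            exact IsPGroup.of_card (n := j) (by rw [Nat.card_zpowers, hjx])
          have h3 : IsPGroup 2 ((S : Subgroup L) ⊔ zpowers ((g : L) ^ m) : Subgroup L) :=
            S.2.to_sup_of_normal_left' h2 (zpowers_le.2 (zpow_mem hg m))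
          have h4 := S.3 h3 le_sup_left
          rw [← h4]
          exact mem_sup_right (mem_zpowers _)
        have h5 := congrArg Subtype.val (hSc _ hx t ht)
        rw [Subgroup.coe_mul, Subgroup.coe_mul, Subgroup.coe_zpow, show (g : G) ^ m = x from hm] at h5
        exact h5
      · apply mem_norm_of_le
        rintro _ ⟨t, ht, rfl⟩
        exact ⟨g * t * g⁻¹, (mem_normalizer_iff.1 hg t).1 ht, rfl⟩
    rintro _ ⟨s, hs, rfl⟩
    rw [SetLike.mem_coe, ← hSC] at hs
    exact mem_subgroupOf.1 hs.2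

end Cfsg.Agent.CIT.Non
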