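import Mathlib
import Cfsg.Agent.CIT.DGNon
import Cfsg.Agent.JY.Simple

set_option autoImplicit false
set_option linter.unusedSectionVars false

/-!
# Nonsolvable groups of class (D) in which no prime divides three element orders: the conclusion
-/

namespace Cfsg.Agent.CIT.Non

open Subgroup Cfsg Cfsg.Agent.CIT.TwoP

universe u

variable {G : Type u} [Group G] [Finite G] {p : ℕ}

theorem exists_simple (hsb : ∀ N : Subgroup G, N.Normal → Group.IsSolvable N → N = ⊥)
    (hC : ∀ t : G, orderOf t = 2 → Group.IsSolvable (centralizer ({t} : Set G))) (hns : ¬ Group.IsSolvable G) :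
    ∃ L : Subgroup G, L.Normal ∧ IsSimpleGroup L ∧ (∃ a b : L, a * b ≠ b * a) ∧
      centralizer (L : Set G) = ⊥ := by
  classical
  have htop : (⊤ : Subgroup G) ≠ ⊥ := by
    intro e
    apply hns
    haveI : Subsingleton G := Subgroup.subsingleton_iff.1 (subsingleton_of_bot_eq_top e.symm)
    infer_instance
  obtain ⟨N, -, hN, hN1, hmin⟩ := JY.exists_min (⊤ : Subgroup G) inferInstance htop
  haveI := hN
  haveI : Nontrivial N := (nontrivial_iff_ne_bot N).2 hN1
  -- nonsolvable subgroups contain involutions
  have hev : ∀ K : Subgroup G, ¬ Group.IsSolvable K → ∃ t ∈ K, orderOf t = 2 := by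
    intro K hK
    haveI := Fact.mk Nat.prime_two
    obtain ⟨t, ht⟩ := exists_prime_orderOf_dvd_card' (G := K) 2 (JY.even_card JY.os hK)
    exact ⟨t, t.2, by rw [Subgroup.orderOf_coe, ht]⟩
  -- commuting nonsolvable subgroups do not exist
  have hcn : ∀ K K' : Subgroup G, ¬ Group.IsSolvable K → ¬ Group.IsSolvable K' →
      (∀ x ∈ K, ∀ y ∈ K', x * y = y * x) → False := by
    intro K K' hK hK' hc
    obtain ⟨t, htK, ht⟩ := hev K hK
    apply hK'
    have h1 : K' ≤ centralizer ({t} : Set G) := fun y hy => JY.mem_centr.2 (hc t htK y hy)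
    exact Non.solv_of_le (hC t ht) h1
  -- minimal normal subgroups of `N` are everything
  have hsimple : ∀ K : Subgroup N, K.Normal → K ≠ ⊥ → K = ⊤ := by
    intro K hK hK1
    obtain ⟨K0, hK0K, hK0, hK01, hmin0⟩ := JY.exists_min K hK hK1
    rw [eq_top_iff]
    refine le_trans ?_ hK0K
    -- `K0` is not solvable
    have hns0 : ¬ Group.IsSolvable K0 := by
      intro hs
      haveI : Nontrivial K0 := (nontrivial_iff_ne_bot K0).2 hK01
      obtain ⟨r, V, hr, hV, hVc, hVr, hV1, -⟩ := Frob.exists_characteristic_abelian (G := K0) hs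
      haveI := hK0
      have h1 : (V.map K0.subtype).Normal := inferInstance
      have h3 : V.map K0.subtype ≤ pCore r N := Solv.le_pCore h1 (hVr.map _)
      have h4 : ((pCore r N).map N.subtype).Normal := inferInstance
      have h5 := hsb _ h4 (by
        haveI := Fact.mk hr
        haveI := ((Solv.pCore_isPGroup (G := N) r).map N.subtype).isNilpotent
        infer_instance)
      rw [map_eq_bot_iff_of_injective _ N.subtype_injective] at h5
      rw [h5, le_bot_iff, map_eq_bot_iff_of_injective _ K0.subtype_injective] at h3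
      exact hV1 h3
    -- conjugates of `K0`
    have hnorm : ∀ g : G, ∀ x ∈ K0, (⟨g * (x : G) * g⁻¹, hN.conj_mem _ x.2 g⟩ : N) ∈ K0 := by
      intro g
      let f : N ≃* N := MulAut.conjNormal g
      have hf : ∀ x : N, ((f x : N) : G) = g * x * g⁻¹ := fun x => MulAut.conjNormal_apply g x
      let K1 : Subgroup N := K0.map f.toMonoidHom
      have hK1n : K1.Normal := hK0.map _ f.surjective
      have hK1c : Nat.card K1 = Nat.card K0 := Subgroup.card_map_of_injective f.injective
      have hK1s : ¬ Group.IsSolvable K1 := by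
        intro hs
        apply hns0
        let e : K0 ≃* K1 := K0.equivMapOfInjective f.toMonoidHom f.injective
        haveI := hs
        exact Group.isSolvable_of_isSolvable_injective (f := e.toMonoidHom) e.injective
      have hK1e : K1 = K0 := by
        by_contra hne
        have hinf : K0 ⊓ K1 = ⊥ := by
          by_contra hi
          haveI := hK0
          haveI := hK1n
          have h1 := hmin0 (K0 ⊓ K1) inf_le_left inferInstance hi
          have h3 : K0 ≤ K1 := by rw [← h1]; exact inf_le_right
          exact hne (Subgroup.eq_of_le_of_card_ge h3 (by rw [hK1c])).symm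
        apply hcn (K0.map N.subtype) (K1.map N.subtype)
        · intro hs
          apply hns0
          let e : K0 ≃* K0.map N.subtype := K0.equivMapOfInjective N.subtype N.subtype_injective
          haveI := hs
          exact Group.isSolvable_of_isSolvable_injective (f := e.toMonoidHom) e.injective
        · intro hs
          apply hK1s
          let e : K1 ≃* K1.map N.subtype := K1.equivMapOfInjective N.subtype N.subtype_injective
          haveI := hs
          exact Group.isSolvable_of_isSolvable_injective (f := e.toMonoidHom) e.injective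
        · rintro _ ⟨x, hx, rfl⟩ _ ⟨y, hy, rfl⟩
          have h1 : x * y * x⁻¹ * y⁻¹ ∈ K0 ⊓ K1 := by
            refine ⟨?_, ?_⟩
            · have : x * y * x⁻¹ * y⁻¹ = x * (y * x⁻¹ * y⁻¹) := by group
              rw [this]
              exact K0.mul_mem hx (hK0.conj_mem _ (K0.inv_mem hx) y)
            · exact K1.mul_mem (hK1n.conj_mem _ hy x) (K1.inv_mem hy)
          rw [hinf, mem_bot, mul_inv_eq_one, mul_inv_eq_iff_eq_mul] at h1
          exact congrArg Subtype.val h1
      intro x hx
      have h1 : f x ∈ K1 := mem_map_of_mem _ hx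
      rw [hK1e] at h1
      have h3 : f x = (⟨g * (x : G) * g⁻¹, hN.conj_mem _ x.2 g⟩ : N) := Subtype.ext (hf x)
      rwa [h3] at h1
    have hKn : (K0.map N.subtype).Normal := by
      constructor
      rintro _ ⟨x, hx, rfl⟩ g
      exact ⟨_, hnorm g x hx, rfl⟩
    have h3 := hmin (K0.map N.subtype) (map_subtype_le _) hKn (by
      rw [Ne, map_eq_bot_iff_of_injective _ N.subtype_injective]; exact hK01)
    intro x _
    have h4 : (x : G) ∈ K0.map N.subtype := by rw [h3]; exact x.2
    obtain ⟨y, hy, hyx⟩ := h4
    have : y = x := Subtype.ext hyx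
    rwa [← this]
  have hNs : ¬ Group.IsSolvable N := fun hs => hN1 (hsb N hN hs)
  have hsimp : IsSimpleGroup N := by
    constructor
    intro K hK
    by_cases h : K = ⊥
    · exact Or.inl h
    · exact Or.inr (hsimple K hK h)
  refine ⟨N, hN, hsimp, ?_, ?_⟩
  · by_contra hc
    push Not at hc
    apply hNs
    exact Group.isSolvable_of_comm hc
  · by_contra hC1
    have hCn : (centralizer (N : Set G)).Normal := inferInstance
    have hCs : ¬ Group.IsSolvable (centralizer (N : Set G)) := fun hs => hC1 (hsb _ hCn hs)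
    exact hcn _ _ hCs hNs (fun x hx y hy => (mem_centralizer_iff.1 hx y hy).symm)


theorem H3.subgroup {G : Type*} [Group G] (h : H3 G) (L : Subgroup G) : H3 L := by
  intro r hr a b c h1 h2 h3
  have := h r hr (a : G) b c (by rwa [Subgroup.orderOf_coe, Subgroup.orderOf_coe])
    (by rwa [Subgroup.orderOf_coe, Subgroup.orderOf_coe]) (by rwa [Subgroup.orderOf_coe, Subgroup.orderOf_coe])
  rwa [Subgroup.orderOf_coe, Subgroup.orderOf_coe, Subgroup.orderOf_coe] at this

theorem H3.of_equiv {G H : Type*} [Group G] [Group H] (h : H3 G) (e : G ≃* H) : H3 H := by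
  intro r hr a b c h1 h2 h3
  have := h r hr (e.symm a) (e.symm b) (e.symm c)
  rw [e.symm.orderOf_eq, e.symm.orderOf_eq, e.symm.orderOf_eq] at this
  exact this h1 h2 h3

theorem solv_bot (h : DG G p) (hns : ¬ Group.IsSolvable G) (N : Subgroup G) (hN : N.Normal)
    (hs : Group.IsSolvable N) : N = ⊥ := by
  by_contra hne
  haveI : Nontrivial N := (nontrivial_iff_ne_bot N).2 hne
  obtain ⟨r, V, hr, hV, hVc, hVr, hV1, -⟩ := Frob.exists_characteristic_abelian (G := N) hs
  haveI h1 : (V.map N.subtype).Normal := inferInstance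
  have hb : V.map N.subtype = ⊥ := no_normal h hns hr (hVr.map _)
  rw [map_eq_bot_iff_of_injective _ N.subtype_injective] at hb
  exact hV1 hb

theorem dg_main (h : DG G p) (h3 : H3 G) (hns : ¬ Group.IsSolvable G) :
    ∃ (F : Type) (_ : Field F) (_ : Fintype F), 4 ≤ Fintype.card F ∧
      Nonempty (G ≃* Matrix.ProjectiveSpecialLinearGroup (Fin 2) F) := by
  obtain ⟨L, hL, hLs, hab, hC⟩ := exists_simple (solv_bot h hns) (fun t ht => h.solv (fun x hx =>
    h.cen2 t x ht (mem_centralizer_singleton_iff.1 hx))) hns
  obtain ⟨F, _, _, ⟨e⟩⟩ := TwoP.main hab (DG_subgroup h L)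
  have hLns : ¬ Group.IsSolvable L := JY.not_solvable_of hab
  have hq := JY.four_le hLns e
  have htop : L = ⊤ := by
    refine Alm.top_of_psl L hC hq e (fun x hx => ?_) h3
    have h1 := h.exp2 x ⟨2, by rw [show 2 ^ 2 = 4 by norm_num, ← hx, pow_orderOf_eq_one]⟩
    have h2 : orderOf x ∣ 2 := orderOf_dvd_of_pow_eq_one (by rw [pow_two, h1])
    rw [hx] at h2
    omega
  subst htop
  exact ⟨F, inferInstance, inferInstance, hq, ⟨Subgroup.topEquiv.symm.trans e⟩⟩

end Cfsg.Agent.CIT.Non
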