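import Mathlib
import Cfsg.Agent.CIT.TwoP5
import Cfsg.Agent.CIT.Final2
import Cfsg.Agent.JY.Eppo
import Cfsg.Agent.S0330

set_option autoImplicit false

/-!
# Finite simple groups with at most one composite element order
-/

namespace Cfsg.Agent.CIT.OneComp

open Subgroup

universe u

/-- at most one composite element order -/
def OC (G : Type*) [Group G] : Prop :=
  ∀ x y : G, 1 < orderOf x → ¬ (orderOf x).Prime → 1 < orderOf y → ¬ (orderOf y).Prime → orderOf x = orderOf y

theorem OC.of_equiv {G H : Type*} [Group G] [Group H] (h : OC G) (e : G ≃* H) : OC H := by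
  intro x y hx hx' hy hy'
  have := h (e.symm x) (e.symm y)
  rw [e.symm.orderOf_eq, e.symm.orderOf_eq] at this
  exact this hx hx' hy hy'

/-- composite orders come from involutions with odd centralizing elements -/
theorem cit_or {G : Type u} [Group G] [Finite G] (h : OC G) : IsCIT G ∨ ∃ p, TwoP.DG G p := by
  by_cases hc : IsCIT G
  · exact Or.inl hc
  right
  rw [IsCIT] at hc
  push Not at hc
  obtain ⟨t, ht, hct⟩ := hc
  haveI := Fact.mk Nat.prime_two
  -- an element of odd prime order commuting with `t`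
  obtain ⟨p, hp, hp2, y, hy, hyt⟩ : ∃ p, p.Prime ∧ p ≠ 2 ∧ ∃ y : G, orderOf y = p ∧ y * t = t * y := by
    by_contra hcon
    push Not at hcon
    apply hct
    rw [IsPGroup.iff_card]
    refine ⟨_, Nat.eq_prime_pow_of_unique_prime_dvd (Nat.card_pos (α := centralizer ({t} : Set G))).ne' ?_⟩
    intro d hd hdc
    haveI := Fact.mk hd
    by_contra hd2
    obtain ⟨x, hx⟩ := exists_prime_orderOf_dvd_card' (G := centralizer ({t} : Set G)) d hdc
    have h1 := hcon d hd hd2 x.1 (by rw [Subgroup.orderOf_coe, hx])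
    exact h1 (mem_centralizer_singleton_iff.1 x.2)
  have hmul : ∀ x y : G, x * y = y * x → Nat.Coprime (orderOf x) (orderOf y) → orderOf (x * y) = orderOf x * orderOf y :=
    fun x y hxy hc => Commute.orderOf_mul_eq_mul_orderOf_of_coprime hxy hc
  have hty : orderOf (t * y) = 2 * p := by
    rw [hmul t y hyt.symm, ht, hy]
    rw [ht, hy]
    exact (Nat.coprime_primes Nat.prime_two hp).2 hp2.symm
  have hnp : ∀ a b : ℕ, 1 < a → 1 < b → ¬ (a * b).Prime := fun a b ha hb => Nat.not_prime_mul (by omega) (by omega)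
  have hcomp : ∀ x : G, orderOf x = 1 ∨ (orderOf x).Prime ∨ orderOf x = 2 * p := by
    intro x
    rcases Nat.lt_or_ge 1 (orderOf x) with h1 | h1
    · by_cases h2 : (orderOf x).Prime
      · exact Or.inr (Or.inl h2)
      · right; right
        rw [← hty]
        exact h x (t * y) h1 h2 (by rw [hty]; have := hp.two_le; omega) (by
          rw [hty]; exact hnp 2 p (by norm_num) hp.one_lt)
    · left
      have := orderOf_pos x
      omega
  refine ⟨p, hp, hp2, ?_, ?_, ?_⟩
  · rintro x ⟨k, hk⟩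
    have h1 := orderOf_dvd_of_pow_eq_one hk
    rcases hcomp x with h2 | h2 | h2
    · rw [orderOf_eq_one_iff.1 h2, one_mul]
    · have h3 : orderOf x = 2 := (Nat.prime_dvd_prime_iff_eq h2 Nat.prime_two).1 (h2.dvd_of_dvd_pow h1)
      rw [← pow_two, ← h3, pow_orderOf_eq_one]
    · exfalso
      rw [h2] at h1
      exact hp2 ((Nat.prime_dvd_prime_iff_eq hp Nat.prime_two).1 (hp.dvd_of_dvd_pow ((dvd_mul_left p 2).trans h1)))
  · intro s x hs hxs
    rcases hcomp x with h2 | h2 | h2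
    · rw [h2]; exact one_dvd _
    · rcases eq_or_ne (orderOf x) 2 with h3 | h3
      · rw [h3]; exact dvd_mul_right _ _
      · have h4 : Nat.Coprime (orderOf s) (orderOf x) := by
          rw [hs]; exact (Nat.coprime_primes Nat.prime_two h2).2 h3.symm
        have h5 := hmul s x hxs.symm h4
        rcases hcomp (s * x) with h6 | h6 | h6
        · rw [h6, hs] at h5
          have := h2.two_le
          omega
        · exfalso
          rw [h5, hs] at h6
          exact hnp 2 _ (by norm_num) h2.one_lt h6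
        · rw [h5, hs] at h6
          have h7 : orderOf x = p := Nat.eq_of_mul_eq_mul_left (by norm_num) h6
          rw [h7]; exact dvd_mul_left _ _
    · rw [h2]
  · intro s x hs hxs
    rcases hcomp x with h2 | h2 | h2
    · rw [h2]; exact one_dvd _
    · rcases eq_or_ne (orderOf x) p with h3 | h3
      · rw [h3]; exact dvd_mul_left _ _
      · have h4 : Nat.Coprime (orderOf s) (orderOf x) := by
          rw [hs]; exact (Nat.coprime_primes hp h2).2 h3.symm
        have h5 := hmul s x hxs.symm h4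
        rcases hcomp (s * x) with h6 | h6 | h6
        · rw [h6, hs] at h5
          have h8 := hp.two_le
          have h9 := h2.two_le
          nlinarith
        · exfalso
          rw [h5, hs] at h6
          exact hnp p _ hp.one_lt h2.one_lt h6
        · rw [h5, hs, mul_comm 2 p] at h6
          have h7 : orderOf x = 2 := Nat.eq_of_mul_eq_mul_left hp.pos h6
          rw [h7]; exact dvd_mul_right _ _
    · rw [h2]

/-! ### Arithmetic -/

/-- arithmetic form of the hypothesis -/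
def NC (a b : ℕ) : Prop :=
  ∀ m n : ℕ, (m ∣ a ∨ m ∣ b) → (n ∣ a ∨ n ∣ b) → 1 < m → ¬ m.Prime → 1 < n → ¬ n.Prime → m = n

theorem not_prime_of_dvd {d n : ℕ} (hd : d ∣ n) (h1 : d ≠ 1) (h2 : d ≠ n) : ¬ n.Prime := by
  intro h
  rcases (Nat.dvd_prime h).1 hd with h3 | h3
  · exact h1 h3
  · exact h2 h3

theorem three_dvd_pow (n : ℕ) : (n % 2 = 0 → 2 ^ n % 3 = 1) ∧ (n % 2 = 1 → 2 ^ n % 3 = 2) := by
  induction n with
  | zero => simp
  | succ n ih => constructor <;> intro h <;> rw [pow_succ] <;> omega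

theorem even_num {n : ℕ} (hn : 2 ≤ n) (h : NC (2 ^ n - 1) (2 ^ n + 1)) :
    n = 2 ∨ n = 3 ∨ n = 4 ∨ ((2 ^ n - 1).Prime ∧ ∃ r, r.Prime ∧ 2 ^ n + 1 = 3 * r) := by
  rcases Nat.even_or_odd n with ⟨m, hm⟩ | hodd
  · have hm' : n = 2 * m := by omega
    subst hm'
    rcases Nat.lt_or_ge m 3 with h3 | h3
    · have : m = 1 ∨ m = 2 := by omega
      rcases this with rfl | rfl
      · left; rfl
      · right; right; left; rfl
    exfalso
    have h8 : 8 ≤ 2 ^ m := by
      calc 8 = 2 ^ 3 := by norm_num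
        _ ≤ 2 ^ m := Nat.pow_le_pow_right (by norm_num) h3
    have hfac : 2 ^ (2 * m) - 1 = (2 ^ m - 1) * (2 ^ m + 1) := by
      obtain ⟨k, hk⟩ : ∃ k, 2 ^ m = k + 1 := ⟨2 ^ m - 1, by omega⟩
      rw [two_mul, pow_add, hk]
      have : (k + 1) * (k + 1) - 1 = k * (k + 1 + 1) := by
        have : (k + 1) * (k + 1) = k * (k + 1 + 1) + 1 := by ring
        omega
      rw [this, Nat.add_sub_cancel]
    obtain ⟨u, hu, hu3, hu7⟩ : ∃ u, u ∣ 2 ^ (2 * m) - 1 ∧ 3 ∣ u ∧ 7 ≤ u ∧ u < 2 ^ (2 * m) - 1 := by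
      have hlt1 : 2 ^ m - 1 < (2 ^ m - 1) * (2 ^ m + 1) := by nlinarith [Nat.sub_add_cancel (show 1 ≤ 2 ^ m by omega)]
      have hlt2 : 2 ^ m + 1 < (2 ^ m - 1) * (2 ^ m + 1) := by nlinarith [Nat.sub_add_cancel (show 1 ≤ 2 ^ m by omega)]
      have := three_dvd_pow m
      rcases Nat.even_or_odd m with he | ho
      · refine ⟨2 ^ m - 1, by rw [hfac]; exact dvd_mul_right _ _, ?_, by omega, by rw [hfac]; exact hlt1⟩
        have h5 := this.1 (Nat.even_iff.1 he)
        omega
      · refine ⟨2 ^ m + 1, by rw [hfac]; exact dvd_mul_left _ _, ?_, by omega, by rw [hfac]; exact hlt2⟩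
        have h5 := this.2 (Nat.odd_iff.1 ho)
        omega
    have h1 := h u (2 ^ (2 * m) - 1) (Or.inl hu) (Or.inl dvd_rfl) (by omega)
      (not_prime_of_dvd hu3 (by norm_num) (by omega)) (by omega)
      (not_prime_of_dvd hu (by omega) (by omega))
    omega
  · rcases Nat.lt_or_ge n 5 with h5 | h5
    · right; left
      obtain ⟨m, hm⟩ := hodd
      omega
    right; right; right
    have h32 : 32 ≤ 2 ^ n := by
      calc 32 = 2 ^ 5 := by norm_num
        _ ≤ 2 ^ n := Nat.pow_le_pow_right (by norm_num) h5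
    have h3 : 3 ∣ 2 ^ n + 1 := by
      have := (three_dvd_pow n).2 (Nat.odd_iff.1 hodd)
      omega
    obtain ⟨r, hr⟩ := h3
    have hcomp : ¬ (2 ^ n + 1).Prime := not_prime_of_dvd (Dvd.intro _ hr.symm) (by norm_num) (by omega)
    refine ⟨?_, r, ?_, hr⟩
    · by_contra hnp
      have := h (2 ^ n - 1) (2 ^ n + 1) (Or.inl dvd_rfl) (Or.inr dvd_rfl) (by omega) hnp (by omega) hcomp
      omega
    · by_contra hnp
      have := h r (2 ^ n + 1) (Or.inr (Dvd.intro_left _ hr.symm)) (Or.inr dvd_rfl) (by omega) hnp (by omega) hcomp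
      omega

theorem three_pow_mod (n : ℕ) : 3 ^ n % 8 = 1 ∨ 3 ^ n % 8 = 3 := by
  induction n with
  | zero => left; rfl
  | succ n ih => rw [pow_succ]; omega

theorem odd_num {q : ℕ} (hq : 4 ≤ q) (hodd : q % 2 = 1) (hpp : 3 ∣ q → ∃ n, q = 3 ^ n)
    (h : NC ((q - 1) / 2) ((q + 1) / 2)) :
    q = 5 ∨ q = 7 ∨ q = 9 ∨ q = 11 ∨ q = 13 ∨
      ∃ n r s : ℕ, r.Prime ∧ s.Prime ∧ 3 ^ n - 1 = 2 * r ∧ 3 ^ n + 1 = 4 * s ∧ q = 3 ^ n := by
  have key : ∀ e o : ℕ, (∀ m, m ∣ 2 * e ∨ m ∣ o → m ∣ (q - 1) / 2 ∨ m ∣ (q + 1) / 2) → 3 ≤ e → o ≠ 2 * e → 1 < o →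
      e.Prime ∧ o.Prime := by
    intro e o hdiv he hoe ho
    have hc : ¬ (2 * e).Prime := Nat.not_prime_mul (by norm_num) (by omega)
    constructor
    · by_contra hnp
      have := h e (2 * e) (hdiv _ (Or.inl (dvd_mul_left _ _))) (hdiv _ (Or.inl dvd_rfl)) (by omega) hnp (by omega) hc
      omega
    · by_contra hnp
      have := h o (2 * e) (hdiv _ (Or.inr dvd_rfl)) (hdiv _ (Or.inl dvd_rfl)) ho hnp (by omega) hc
      omega
  have hthree : ∀ x : ℕ, x.Prime → 3 ∣ x → x = 3 := fun x hx h3 =>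
    ((Nat.prime_dvd_prime_iff_eq Nat.prime_three hx).1 h3).symm
  have hq4 : q % 4 = 1 ∨ q % 4 = 3 := by omega
  rcases hq4 with h4 | h4
  · obtain ⟨k, hk⟩ : ∃ k, q = 4 * k + 1 := ⟨q / 4, by omega⟩
    subst hk
    rcases Nat.lt_or_ge k 3 with h3 | h3
    · have : k = 1 ∨ k = 2 := by omega
      rcases this with rfl | rfl
      · left; rfl
      · right; right; left; rfl
    obtain ⟨hkp, hop⟩ := key k (2 * k + 1) (by
      intro m hm
      rcases hm with hm | hm
      · left
        have : (4 * k + 1 - 1) / 2 = 2 * k := by omega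
        rwa [this]
      · right
        have : (4 * k + 1 + 1) / 2 = 2 * k + 1 := by omega
        rwa [this]) h3 (by omega) (by omega)
    have h0 : (4 * k + 1) % 3 = 0 ∨ (4 * k + 1) % 3 = 1 ∨ (4 * k + 1) % 3 = 2 := by omega
    rcases h0 with h0 | h0 | h0
    · exfalso
      obtain ⟨n, hn⟩ := hpp (Nat.dvd_of_mod_eq_zero h0)
      have h8 := three_pow_mod n
      have hkodd : k % 2 = 1 := by
        rcases hkp.eq_two_or_odd with h5 | h5 <;> omega
      omega
    · have : k = 3 := hthree k hkp (by omega)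
      subst this
      right; right; right; right; left; rfl
    · have := hthree (2 * k + 1) hop (by omega)
      omega
  · obtain ⟨k, hk⟩ : ∃ k, q = 4 * k - 1 ∧ 1 ≤ k := ⟨q / 4 + 1, by omega, by omega⟩
    obtain ⟨hk, hk1⟩ := hk
    subst hk
    rcases Nat.lt_or_ge k 3 with h3 | h3
    · have : k = 1 ∨ k = 2 := by omega
      rcases this with rfl | rfl
      · omega
      · right; left; rfl
    obtain ⟨hkp, hop⟩ := key k (2 * k - 1) (by
      intro m hm
      rcases hm with hm | hm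
      · right
        have : (4 * k - 1 + 1) / 2 = 2 * k := by clear hpp; omega
        rwa [this]
      · left
        have : (4 * k - 1 - 1) / 2 = 2 * k - 1 := by clear hpp; omega
        rwa [this]) h3 (by omega) (by omega)
    have h0 : (4 * k - 1) % 3 = 0 ∨ (4 * k - 1) % 3 = 1 ∨ (4 * k - 1) % 3 = 2 := by omega
    rcases h0 with h0 | h0 | h0
    · obtain ⟨n, hn⟩ := hpp (Nat.dvd_of_mod_eq_zero h0)
      right; right; right; right; right
      refine ⟨n, 2 * k - 1, k, hop, hkp, by clear hpp; omega, by clear hpp; omega, hn⟩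
    · have := hthree (2 * k - 1) hop (by omega)
      omega
    · have : k = 3 := hthree k hkp (by omega)
      subst this
      right; right; right; left; rfl

/-- the list -/
def L2 (G : Type*) [Group G] : Prop :=
    (∃ (F : Type) (_ : Field F) (_ : Fintype F), (Fintype.card F = 5 ∨ Fintype.card F = 7 ∨ Fintype.card F = 8 ∨ Fintype.card F = 9 ∨
        Fintype.card F = 11 ∨ Fintype.card F = 13 ∨ Fintype.card F = 16) ∧ Nonempty (G ≃* Matrix.ProjectiveSpecialLinearGroup (Fin 2) F)) ∨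
    (∃ (F : Type) (_ : Field F) (_ : Fintype F), ∃ n r s : ℕ, r.Prime ∧ s.Prime ∧ 3 ^ n - 1 = 2 * r ∧ 3 ^ n + 1 = 4 * s ∧
        Fintype.card F = 3 ^ n ∧ Nonempty (G ≃* Matrix.ProjectiveSpecialLinearGroup (Fin 2) F)) ∨
    (∃ (F : Type) (_ : Field F) (_ : Fintype F), ∃ n r : ℕ, (2 ^ n - 1).Prime ∧ r.Prime ∧ 2 ^ n + 1 = 3 * r ∧
        Fintype.card F = 2 ^ n ∧ Nonempty (G ≃* Matrix.ProjectiveSpecialLinearGroup (Fin 2) F))

theorem psl2 {G : Type*} [Group G] [Finite G] (hns : ¬ Group.IsSolvable G) (h : OC G)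
    (hF : ∃ (F : Type) (_ : Field F) (_ : Fintype F), Nonempty (G ≃* Matrix.ProjectiveSpecialLinearGroup (Fin 2) F)) :
    L2 G := by
  obtain ⟨F, i1, i2, ⟨e⟩⟩ := hF
  have h4 := JY.four_le hns e
  have hp : ∃ p : ℕ, p.Prime ∧ CharP F p := by
    obtain ⟨p, hp⟩ := CharP.exists F
    exact ⟨p, (CharP.char_is_prime_or_zero F p).resolve_right (CharP.char_ne_zero_of_finite F p), hp⟩
  obtain ⟨p, hp, hpF⟩ := hp
  haveI := Fact.mk hp
  have hspec := S2475.result (F := F) p h4
  obtain ⟨n, -, hn⟩ := FiniteField.card F p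
  have hord : NC ((Fintype.card F - 1) / Nat.gcd 2 (Fintype.card F - 1))
      ((Fintype.card F + 1) / Nat.gcd 2 (Fintype.card F - 1)) := by
    intro m k hm hk hm1 hmp hk1 hkp
    have h1 : m ∈ Set.range (orderOf : Matrix.ProjectiveSpecialLinearGroup (Fin 2) F → ℕ) := by
      rw [hspec]; exact Or.inr hm
    have h2 : k ∈ Set.range (orderOf : Matrix.ProjectiveSpecialLinearGroup (Fin 2) F → ℕ) := by
      rw [hspec]; exact Or.inr hk
    obtain ⟨x, rfl⟩ := h1
    obtain ⟨y, rfl⟩ := h2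
    exact h.of_equiv e x y hm1 hmp hk1 hkp
  rcases Nat.mod_two_eq_zero_or_one (Fintype.card F) with hev | hodd
  · have hp2 : p = 2 := by
      have h2 : 2 ∣ p ^ (n : ℕ) := by rw [← hn]; exact Nat.dvd_of_mod_eq_zero hev
      exact ((Nat.prime_dvd_prime_iff_eq Nat.prime_two hp).1 (Nat.prime_two.dvd_of_dvd_pow h2)).symm
    subst hp2
    have hg : Nat.gcd 2 (Fintype.card F - 1) = 1 := by
      have : ¬ 2 ∣ Fintype.card F - 1 := by omega
      exact (Nat.Prime.coprime_iff_not_dvd Nat.prime_two).2 this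
    rw [hg, Nat.div_one, Nat.div_one, hn] at hord
    have hn2 : 2 ≤ (n : ℕ) := by
      by_contra hcon
      have : (n : ℕ) < 2 := by omega
      rw [hn] at h4
      interval_cases (n : ℕ) <;> omega
    rcases even_num hn2 hord with h5 | h5 | h5 | ⟨h5, r, h6, h7⟩
    · -- q = 4
      left
      rw [h5] at hn
      obtain ⟨f⟩ := JY.psl_simple_four (F := F) hn
      haveI : Fact (Nat.Prime 5) := ⟨Nat.prime_five⟩
      haveI := S2540.psl_simple (F := ZMod 5) 2 le_rfl (by rintro ⟨-, h1⟩; rw [ZMod.card] at h1; omega)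
      obtain ⟨g⟩ := S0494.result (G := Matrix.ProjectiveSpecialLinearGroup (Fin 2) (ZMod 5)) (by
        have h6 := H14.SubField.card_PSL2_odd (F := ZMod 5) (by rw [ZMod.card]; decide)
        rw [ZMod.card] at h6
        omega)
      refine ⟨ZMod 5, inferInstance, inferInstance, Or.inl (ZMod.card 5), ⟨(e.trans f).trans g.symm⟩⟩
    · left
      exact ⟨F, i1, i2, Or.inr (Or.inr (Or.inl (by rw [hn, h5]; norm_num))), ⟨e⟩⟩
    · left
      exact ⟨F, i1, i2, by rw [hn, h5]; norm_num, ⟨e⟩⟩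
    · right; right
      exact ⟨F, i1, i2, n, r, h5, h6, h7, hn, ⟨e⟩⟩
  · have hg : Nat.gcd 2 (Fintype.card F - 1) = 2 := Nat.gcd_eq_left (by omega)
    rw [hg] at hord
    rcases odd_num h4 hodd (by
      intro h3
      have h2 : 3 ∣ p ^ (n : ℕ) := by rw [← hn]; exact h3
      have : 3 = p := (Nat.prime_dvd_prime_iff_eq Nat.prime_three hp).1 (Nat.prime_three.dvd_of_dvd_pow h2)
      exact ⟨n, by rw [hn, this]⟩) hord with h5 | h5 | h5 | h5 | h5 | ⟨k, r, s, h6, h7, h8, h9, h10⟩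
    · left; exact ⟨F, i1, i2, by rw [h5]; norm_num, ⟨e⟩⟩
    · left; exact ⟨F, i1, i2, by rw [h5]; norm_num, ⟨e⟩⟩
    · left; exact ⟨F, i1, i2, by rw [h5]; norm_num, ⟨e⟩⟩
    · left; exact ⟨F, i1, i2, by rw [h5]; norm_num, ⟨e⟩⟩
    · left; exact ⟨F, i1, i2, by rw [h5]; norm_num, ⟨e⟩⟩
    · right; left
      exact ⟨F, i1, i2, k, r, s, h6, h7, h8, h9, h10, ⟨e⟩⟩

/-- Suzuki groups -/
theorem suz {G : Type*} [Group G] [Finite G] (h : OC G) (hs : Cfsg.Lie.IsoSuzuki G) :
    ∃ (F : Type) (_ : Field F) (_ : Fintype F), Fintype.card F = 8 ∧ Nonempty (G ≃* ↥(Cfsg.Lie.Sz F 4)) := by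
  obtain ⟨F, i1, i2, m, hm, hF, ⟨e⟩⟩ := hs
  obtain ⟨f⟩ := Suz.nonempty_lieEquiv hm hF
  have h' : OC (Cfsg.Sz F m) := h.of_equiv (e.trans f.symm)
  haveI : Finite (Cfsg.Sz F m) := Finite.of_equiv G (e.trans f.symm).toEquiv
  haveI : Fact (Nat.Prime 2) := ⟨Nat.prime_two⟩
  obtain ⟨P⟩ : Nonempty (Sylow 2 (Cfsg.Sz F m)) := inferInstance
  obtain ⟨-, hexp, -, -⟩ := S0330.result hm hF P
  -- an element of order 4
  obtain ⟨z, hz⟩ : ∃ z : Cfsg.Sz F m, orderOf z = 4 := by
    by_contra hcon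
    push Not at hcon
    have h1 : Monoid.exponent P ∣ 2 := by
      apply Monoid.exponent_dvd_of_forall_pow_eq_one
      intro x
      have h2 : orderOf x ∣ 4 := by
        have h6 := Monoid.order_dvd_exponent x
        rwa [hexp] at h6
      have h3 : orderOf x ≠ 4 := by
        rw [← Subgroup.orderOf_coe]; exact hcon x
      have h4 : orderOf x ∣ 2 := by
        have h5 : orderOf x ∣ 2 ^ 2 := by norm_num; exact h2
        obtain ⟨j, hj, hjx⟩ := (Nat.dvd_prime_pow Nat.prime_two).1 h5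
        rw [hjx] at h3 ⊢
        interval_cases j
        · norm_num
        · norm_num
        · exact absurd (by norm_num) h3
      exact orderOf_dvd_iff_pow_eq_one.1 h4
    rw [hexp] at h1
    omega
  have hz1 : 1 < orderOf z := by rw [hz]; norm_num
  have hz2 : ¬ (orderOf z).Prime := by rw [hz]; norm_num
  have h3 : 2 ^ (m + 1) < 2 ^ (2 * m + 1) := Nat.pow_lt_pow_right (by norm_num) (by omega)
  have key : ∀ k ∈ ({2 ^ (2 * m + 1) + 2 ^ (m + 1) + 1, 2 ^ (2 * m + 1) - 2 ^ (m + 1) + 1} : Set ℕ), 5 ∣ k →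
      k % 2 = 1 → k = 5 := by
    intro k hk h5 hodd
    obtain ⟨x, hx⟩ := JY.exists_torus_order hm hF hk
    by_contra hne
    have hnp : ¬ k.Prime := not_prime_of_dvd h5 (by norm_num) (by omega)
    have hk1 : 1 < k := by
      have : k ≠ 1 := by rintro rfl; omega
      omega
    have := h' x z (by rw [hx]; exact hk1) (by rw [hx]; exact hnp) hz1 hz2
    rw [hx, hz] at this
    omega
  have he1 : 2 ^ (2 * m + 1) % 2 = 0 := by rw [pow_succ]; omega
  have he2 : 2 ^ (m + 1) % 2 = 0 := by rw [pow_succ]; omega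
  have h4 : 4 ≤ 2 ^ (m + 1) := by
    calc 4 = 2 ^ 2 := by norm_num
      _ ≤ 2 ^ (m + 1) := Nat.pow_le_pow_right (by norm_num) (by omega)
  rcases JY.five_dvd m with h5 | h5
  · have := key _ (Or.inl rfl) h5 (by omega)
    omega
  · have h6 := key _ (Or.inr rfl) h5 (by omega)
    have hm1 : m = 1 := by
      by_contra hne
      have h7 : 2 ^ (m + 1) * 2 ≤ 2 ^ (2 * m + 1) := by
        rw [← pow_succ]; exact Nat.pow_le_pow_right (by norm_num) (by omega)
      have h8 : 8 ≤ 2 ^ (m + 1) := by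
        calc 8 = 2 ^ 3 := by norm_num
          _ ≤ 2 ^ (m + 1) := Nat.pow_le_pow_right (by norm_num) (by omega)
      omega
    subst hm1
    exact ⟨F, i1, i2, by rw [hF]; norm_num, ⟨e⟩⟩

end Cfsg.Agent.CIT.OneComp
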