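import Mathlib
import Cfsg.Agent.CIT.DGFin
import Cfsg.Agent.CIT.OneComp

set_option autoImplicit false

/-!
# No prime divides three element orders: the dichotomy
-/

namespace Cfsg.Agent.CIT.Non

open Subgroup Cfsg

universe u

variable {G : Type u} [Group G] [Finite G]

theorem cit_or (h : H3 G) : IsCIT G ∨ ∃ p, TwoP.DG G p := by
  by_cases hc : IsCIT G
  · exact Or.inl hc
  right
  rw [IsCIT] at hc
  push Not at hc
  obtain ⟨t, ht, hct⟩ := hc
  haveI := Fact.mk Nat.prime_two
  -- an element of odd prime order commuting with `t`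
  obtain ⟨p, hp, hp2, y, hy, hyt⟩ : ∃ p, p.Prime ∧ p ≠ 2 ∧ ∃ y : G, orderOf y = p ∧ y * t = t * y := by
    by_contra hcon
    push Not at hcon
    apply hct
    rw [IsPGroup.iff_card]
    refine ⟨_, Nat.eq_prime_pow_of_unique_prime_dvd (Nat.card_pos (α := centralizer ({t} : Set G))).ne' ?_⟩
    intro d hd hdc
    haveI := Fact.mk hd
    by_contra hd2
    obtain ⟨x, hx⟩ := exists_prime_orderOf_dvd_card' (G := centralizer ({t} : Set G)) d hdc
    have h1 := hcon d hd hd2 x.1 (by rw [Subgroup.orderOf_coe, hx])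
    exact h1 (mem_centralizer_singleton_iff.1 x.2)
  have hmul : ∀ x y : G, x * y = y * x → Nat.Coprime (orderOf x) (orderOf y) → orderOf (x * y) = orderOf x * orderOf y :=
    fun x y hxy hc => Commute.orderOf_mul_eq_mul_orderOf_of_coprime hxy hc
  have hty : orderOf (t * y) = 2 * p := by
    rw [hmul t y hyt.symm, ht, hy]
    rw [ht, hy]
    exact (Nat.coprime_primes Nat.prime_two hp).2 hp2.symm
  have hp2' := hp.two_le
  have hev : ∀ x : G, 2 ∣ orderOf x → orderOf x = 2 ∨ orderOf x = 2 * p := by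
    intro x hx
    by_contra hcon
    push Not at hcon
    refine h 2 Nat.prime_two t (t * y) x ?_ ?_ ?_ ⟨?_, ?_, hx⟩
    · rw [ht, hty]; omega
    · rw [hty]; exact fun h => hcon.2 h.symm
    · rw [ht]; exact fun h => hcon.1 h.symm
    · rw [ht]
    · rw [hty]; exact dvd_mul_right _ _
  have hpp : ∀ x : G, p ∣ orderOf x → orderOf x = p ∨ orderOf x = 2 * p := by
    intro x hx
    by_contra hcon
    push Not at hcon
    refine h p hp y (t * y) x ?_ ?_ ?_ ⟨?_, ?_, hx⟩
    · rw [hy, hty]; omega
    · rw [hty]; exact fun h => hcon.2 h.symm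
    · rw [hy]; exact fun h => hcon.1 h.symm
    · rw [hy]
    · rw [hty]; exact dvd_mul_left _ _
  have hpodd : ¬ 2 ∣ p := fun h2 => hp2 ((Nat.prime_dvd_prime_iff_eq Nat.prime_two hp).1 h2).symm
  refine ⟨p, hp, hp2, ?_, ?_, ?_⟩
  · rintro x ⟨k, hk⟩
    obtain ⟨j, -, hj⟩ := (Nat.dvd_prime_pow Nat.prime_two).1 (orderOf_dvd_of_pow_eq_one hk)
    rcases Nat.eq_zero_or_pos j with rfl | hj0
    · rw [pow_zero, orderOf_eq_one_iff] at hj
      rw [hj, one_mul]
    · have h2 : 2 ∣ orderOf x := by rw [hj]; exact dvd_pow_self 2 hj0.ne'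
      rcases hev x h2 with h3 | h3
      · rw [← pow_two, ← h3, pow_orderOf_eq_one]
      · exfalso
        rw [hj] at h3
        exact hp2 ((Nat.prime_dvd_prime_iff_eq hp Nat.prime_two).1 (hp.dvd_of_dvd_pow (by
          rw [h3]; exact dvd_mul_left p 2)))
  · intro s x hs hxs
    by_cases h2 : 2 ∣ orderOf x
    · rcases hev x h2 with h3 | h3
      · rw [h3]; exact dvd_mul_right _ _
      · rw [h3]
    · have h4 : Nat.Coprime (orderOf s) (orderOf x) := by
        rw [hs]; exact (Nat.Prime.coprime_iff_not_dvd Nat.prime_two).2 h2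
      have h5 := hmul s x hxs.symm h4
      rw [hs] at h5
      rcases hev (s * x) (by rw [h5]; exact dvd_mul_right _ _) with h6 | h6
      · rw [h5] at h6
        have h7 : orderOf x = 1 := by omega
        rw [h7]; exact one_dvd _
      · rw [h5] at h6
        have h7 : orderOf x = p := by omega
        rw [h7]; exact dvd_mul_left _ _
  · intro s x hs hxs
    by_cases h2 : p ∣ orderOf x
    · rcases hpp x h2 with h3 | h3
      · rw [h3]; exact dvd_mul_left _ _
      · rw [h3]
    · have h4 : Nat.Coprime (orderOf s) (orderOf x) := by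
        rw [hs]; exact (Nat.Prime.coprime_iff_not_dvd hp).2 h2
      have h5 := hmul s x hxs.symm h4
      rw [hs] at h5
      rcases hpp (s * x) (by rw [h5]; exact dvd_mul_right _ _) with h6 | h6
      · rw [h5] at h6
        have h7 : orderOf x = 1 := Nat.eq_of_mul_eq_mul_left hp.pos (by rw [h6, mul_one])
        rw [h7]; exact one_dvd _
      · rw [h5, mul_comm 2 p] at h6
        have h7 : orderOf x = 2 := Nat.eq_of_mul_eq_mul_left hp.pos h6
        rw [h7]; exact dvd_mul_right _ _

end Cfsg.Agent.CIT.Non
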