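import Mathlib
import Cfsg.Agent.CIT.H3Dich
import Cfsg.Agent.CIT.NormTr
import Cfsg.Agent.JY.EppoMain
import Cfsg.Agent.JY.Six
import Cfsg.Agent.JY.EvenGraph
import Cfsg.Agent.H36.PQuot

set_option autoImplicit false

/-!
# No prime divides three element orders: tools for the CIT case
-/

namespace Cfsg.Agent.CIT.Non

open Subgroup Cfsg

universe u

theorem exists_order_dvd {G : Type*} [Group G] [Finite G] (x : G) {d : ℕ} (hd : d ∣ orderOf x) :
    ∃ y : G, orderOf y = d :=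
  ⟨_, orderOf_pow_orderOf_div (orderOf_pos x).ne' hd⟩

theorem H3.ord {G : Type*} [Group G] (h : H3 G) {r a b c : ℕ} (hr : r.Prime) (ha : ∃ x : G, orderOf x = a)
    (hb : ∃ x : G, orderOf x = b) (hc : ∃ x : G, orderOf x = c) (hab : a ≠ b) (hbc : b ≠ c) (hac : a ≠ c)
    (h1 : r ∣ a) (h2 : r ∣ b) (h3 : r ∣ c) : False := by
  obtain ⟨x, rfl⟩ := ha
  obtain ⟨y, rfl⟩ := hb
  obtain ⟨z, rfl⟩ := hc
  exact h r hr x y z hab hbc hac ⟨h1, h2, h3⟩

/-- element orders are products of at most two primes -/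
theorem H3.len_le {G : Type*} [Group G] [Finite G] (h : H3 G) {n : ℕ} (hn : ∃ x : G, orderOf x = n) :
    n.primeFactorsList.length ≤ 2 := by
  obtain ⟨x, rfl⟩ := hn
  by_contra hcon
  push Not at hcon
  have hpos := orderOf_pos x
  obtain ⟨a, b, c, l, hl⟩ : ∃ a b c l, (orderOf x).primeFactorsList = a :: b :: c :: l := by
    rcases hl : (orderOf x).primeFactorsList with _ | ⟨a, _ | ⟨b, _ | ⟨c, l⟩⟩⟩
    · rw [hl] at hcon; simp at hcon
    · rw [hl] at hcon; simp at hcon
    · rw [hl] at hcon; simp at hcon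
    · exact ⟨a, b, c, l, rfl⟩
  have hprod := Nat.prod_primeFactorsList hpos.ne'
  rw [hl] at hprod
  simp only [List.prod_cons] at hprod
  have ha : a.Prime := Nat.prime_of_mem_primeFactorsList (n := orderOf x) (by rw [hl]; simp)
  have hb : b.Prime := Nat.prime_of_mem_primeFactorsList (n := orderOf x) (by rw [hl]; simp)
  have hc : c.Prime := Nat.prime_of_mem_primeFactorsList (n := orderOf x) (by rw [hl]; simp)
  have ha2 := ha.two_le
  have hb2 := hb.two_le
  have hc2 := hc.two_le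
  have hab : a < a * b := by nlinarith
  have habc : a * b < a * b * c := by nlinarith
  refine h.ord ha (exists_order_dvd x (d := a) ?_) (exists_order_dvd x (d := a * b) ?_)
    (exists_order_dvd x (d := a * b * c) ?_) (by omega) (by omega) (by omega) dvd_rfl (dvd_mul_right _ _)
    (Dvd.dvd.mul_right (dvd_mul_right _ _) _)
  · exact ⟨_, hprod.symm⟩
  · exact ⟨c * l.prod, by rw [← hprod]; ring⟩
  · exact ⟨l.prod, by rw [← hprod]; ring⟩

theorem H3.no_eight {G : Type*} [Group G] [Finite G] (h : H3 G) (x : G) : ¬ 8 ∣ orderOf x := fun h8 =>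
  h.ord Nat.prime_two (exists_order_dvd x (d := 2) ((by norm_num : 2 ∣ 8).trans h8))
    (exists_order_dvd x (d := 4) ((by norm_num : 4 ∣ 8).trans h8)) (exists_order_dvd x (d := 8) h8)
    (by norm_num) (by norm_num) (by norm_num) (by norm_num) (by norm_num) (by norm_num)

theorem H3.pow_four {G : Type*} [Group G] [Finite G] (h : H3 G) {x : G} (hx : ∃ k, x ^ 2 ^ k = 1) : x ^ 4 = 1 := by
  obtain ⟨k, hk⟩ := hx
  obtain ⟨j, -, hj⟩ := (Nat.dvd_prime_pow Nat.prime_two).1 (orderOf_dvd_of_pow_eq_one hk)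
  have hj3 : j < 3 := by
    by_contra hcon
    push Not at hcon
    apply h.no_eight x
    rw [hj, show 8 = 2 ^ 3 by norm_num]
    exact pow_dvd_pow 2 hcon
  apply orderOf_dvd_iff_pow_eq_one.1
  rw [hj, show 4 = 2 ^ 2 by norm_num]
  exact pow_dvd_pow 2 (by omega)

/-- orders of `G/N` divide orders of `G` -/
theorem exists_dvd_of_quot {G : Type*} [Group G] [Finite G] {N : Subgroup G} [N.Normal] {n : ℕ}
    (hn : ∃ x : G ⧸ N, orderOf x = n) : ∃ x : G, orderOf x = n := by
  obtain ⟨x, rfl⟩ := hn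
  obtain ⟨g, rfl⟩ := QuotientGroup.mk_surjective x
  exact exists_order_dvd g (orderOf_map_dvd (QuotientGroup.mk' N) g)

/-- in a CIT group, elements of even order are 2-elements -/
theorem even_pow {G : Type*} [Group G] [Finite G] (hG : JY.CIT G) {x : G} (hx : 2 ∣ orderOf x) : ∃ k, orderOf x = 2 ^ k := by
  have h1 := orderOf_pow_orderOf_div (orderOf_pos x).ne' hx
  have h2 : x ∈ centralizer ({x ^ (orderOf x / 2)} : Set G) := JY.mem_centr.2 (Commute.pow_self x _)
  obtain ⟨k, hk⟩ := hG _ h1 ⟨x, h2⟩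
  have hk' : x ^ 2 ^ k = 1 := congrArg Subtype.val hk
  obtain ⟨j, -, hj⟩ := (Nat.dvd_prime_pow Nat.prime_two).1 (orderOf_dvd_of_pow_eq_one hk')
  exact ⟨j, hj⟩

theorem eppo_of {G : Type u} [Group G] [Finite G] (hG : JY.CIT G) {L : Subgroup (G ⧸ pCore 2 G)} (hD : JY.Dat G L)
    (h : ∀ x : L, ¬ 2 ∣ orderOf x → x ≠ 1 → IsPrimePow (orderOf x)) : JY.EPPO G := by
  intro g hg
  by_cases h2 : 2 ∣ orderOf g
  · obtain ⟨k, hk⟩ := even_pow hG h2
    have hk0 : k ≠ 0 := by
      rintro rfl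
      rw [pow_zero, orderOf_eq_one_iff] at hk
      exact hg hk
    rw [hk]
    exact Nat.prime_two.isPrimePow.pow hk0
  · obtain ⟨x, hx⟩ := (hD.odd_iff h2).2 ⟨g, rfl⟩
    rw [← hx]
    apply h x (by rwa [hx])
    rintro rfl
    rw [orderOf_one] at hx
    exact hg (orderOf_eq_one_iff.1 hx.symm)

/-- the norm argument for the normal 2-subgroup -/
theorem core_of_four {G : Type u} [Group G] [Finite G] (hG : JY.CIT G) (h4 : ∀ x : G, (∃ k, x ^ 2 ^ k = 1) → x ^ 4 = 1)
    {Q : Subgroup G} [Q.Normal] (hQ2 : IsPGroup 2 Q)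
    {l : ℕ} (hl : l.Prime) (hl2 : l ≠ 2) {x : G ⧸ Q} (hx : orderOf x = l)
    (hN : 4 ∣ Nat.card (normalizer (zpowers x : Set (G ⧸ Q)))) : Q = ⊥ := by
  haveI := Fact.mk hl
  haveI := Fact.mk Nat.prime_two
  by_contra hQ
  have hodd : ¬ 2 ∣ l := fun h => hl2 ((Nat.prime_dvd_prime_iff_eq Nat.prime_two hl).1 h).symm
  -- lift the element
  obtain ⟨g, hg, hgx⟩ : ∃ g : G, orderOf g = l ∧ zpowers (QuotientGroup.mk g : G ⧸ Q) = zpowers x := by
    obtain ⟨g0, rfl⟩ := QuotientGroup.mk_surjective x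
    have h1 : g0 ^ l ∈ Q := by
      rw [← QuotientGroup.eq_one_iff, QuotientGroup.mk_pow, ← hx, pow_orderOf_eq_one]
    obtain ⟨k, hk⟩ := hQ2 ⟨_, h1⟩
    have hk' : (g0 ^ l) ^ 2 ^ k = 1 := congrArg Subtype.val hk
    have hcop : Nat.Coprime (orderOf (QuotientGroup.mk g0 : G ⧸ Q)) (2 ^ k) := by
      rw [hx]
      exact Nat.Coprime.pow_right k ((Nat.Prime.coprime_iff_not_dvd Nat.prime_two).2 hodd).symm
    have h2 : zpowers ((QuotientGroup.mk g0 : G ⧸ Q) ^ 2 ^ k) = zpowers (QuotientGroup.mk g0 : G ⧸ Q) := by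
      apply Subgroup.eq_of_le_of_card_ge (zpowers_le.2 (pow_mem (mem_zpowers _) _))
      rw [Nat.card_zpowers, Nat.card_zpowers, hcop.orderOf_pow]
    refine ⟨g0 ^ 2 ^ k, ?_, by rw [QuotientGroup.mk_pow, h2]⟩
    apply orderOf_eq_prime
    · rw [← pow_mul, mul_comm, pow_mul, hk']
    · intro h3
      have h4 : orderOf ((QuotientGroup.mk g0 : G ⧸ Q) ^ 2 ^ k) = l := by rw [hcop.orderOf_pow, hx]
      rw [← QuotientGroup.mk_pow, h3, QuotientGroup.mk_one, orderOf_one] at h4
      exact hl.one_lt.ne h4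
  set E : Subgroup G := zpowers g with hE
  have hEc : Nat.card E = l := by rw [hE, Nat.card_zpowers, hg]
  have hEp : IsPGroup l E := IsPGroup.of_card (n := 1) (by rw [hEc, pow_one])
  have hcop : (Nat.card Q).Coprime l := by
    obtain ⟨k, hk⟩ := IsPGroup.iff_card.1 hQ2
    rw [hk]
    exact Nat.Coprime.pow_left k ((Nat.Prime.coprime_iff_not_dvd Nat.prime_two).2 hodd)
  have hmap := H36.PQuot.map_normalizer (N := Q) hcop hEp
  have hEm : E.map (QuotientGroup.mk' Q) = zpowers x := by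
    rw [hE, MonoidHom.map_zpowers, ← hgx]; rfl
  rw [hEm] at hmap
  have hNE : 4 ∣ Nat.card (normalizer (E : Set G)) := by
    refine hN.trans ?_
    rw [← hmap]
    exact Subgroup.card_map_dvd _ _
  obtain ⟨T0, hT0, -⟩ := Sylow.exists_subgroup_card_pow_prime_le (G := normalizer (E : Set G)) 2 (n := 0) (m := 2) (by
    norm_num; exact hNE) ⊥ (by simp) (by norm_num)
  set T : Subgroup G := T0.map (normalizer (E : Set G)).subtype with hT
  have hTc : Nat.card T = 4 := by
    rw [hT, card_map_of_injective (normalizer (E : Set G)).subtype_injective, hT0]; norm_num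
  have hTE : ∀ t ∈ T, ∀ e ∈ E, t * e * t⁻¹ ∈ E := by
    rintro _ ⟨t, -, rfl⟩ e he
    exact (mem_normalizer_iff.1 t.2 e).1 he
  have hTp : IsPGroup 2 T := IsPGroup.of_card (n := 2) (by rw [hTc]; norm_num)
  have hT2 : ∀ t ∈ T, ∃ k, t ^ 2 ^ k = 1 := by
    intro t ht
    obtain ⟨k, hk⟩ := hTp ⟨t, ht⟩
    exact ⟨k, congrArg Subtype.val hk⟩
  have hEo : ∀ e ∈ E, ¬ 2 ∣ orderOf e := by
    intro e he h2
    have h3 := Subgroup.orderOf_dvd_natCard E he
    rw [hEc] at h3
    exact hodd (h2.trans h3)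
  have hfree : ∀ t ∈ T, t ≠ 1 → ∀ e ∈ E, t * e = e * t → e = 1 := by
    intro t ht ht1 e he hc
    obtain ⟨k, hk⟩ := hT2 t ht
    exact hG.odd_comm ht1 hk (hEo e he) hc
  have hg1 : g ≠ 1 := by
    rintro rfl
    rw [orderOf_one] at hg
    exact hl.one_lt.ne hg
  have hgE : g ∈ E := mem_zpowers g
  -- an element of order 4
  obtain ⟨y, hy, hy4⟩ : ∃ y ∈ T, orderOf y = 4 := by
    by_contra hcon
    push Not at hcon
    have hsq : ∀ t ∈ T, t * t = 1 := by
      intro t ht
      have h1 : orderOf t ∣ 4 := by rw [← hTc]; exact Subgroup.orderOf_dvd_natCard T ht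
      have h2 := hcon t ht
      have h3 : orderOf t ≤ 4 := Nat.le_of_dvd (by norm_num) h1
      rw [← pow_two]
      apply orderOf_dvd_iff_pow_eq_one.1
      interval_cases h5 : orderOf t
      · simp at h1
      · norm_num
      · norm_num
      · omega
      · exact absurd rfl h2
    have hinv : ∀ t ∈ T, t ≠ 1 → t * g * t⁻¹ = g⁻¹ := fun t ht ht1 =>
      JY.inverts (hsq t ht) (hTE t ht) (fun e he hc => hfree t ht ht1 e he hc) hgE
    obtain ⟨a, ha, b, hb, ha1, hb1, hab⟩ : ∃ a ∈ T, ∃ b ∈ T, a ≠ 1 ∧ b ≠ 1 ∧ a ≠ b := by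
      obtain ⟨a, ha, ha1⟩ : ∃ a ∈ T, a ≠ 1 := by
        by_contra hno
        push Not at hno
        have := (Subgroup.eq_bot_iff_forall T).2 hno
        rw [this, card_bot] at hTc
        omega
      obtain ⟨b, hb, hb1⟩ : ∃ b ∈ T, b ∉ zpowers a := by
        by_contra hno
        push Not at hno
        have h1 : T ≤ zpowers a := hno
        have h2 := Subgroup.card_le_of_le h1
        rw [hTc, Nat.card_zpowers] at h2
        have h3 : orderOf a ≤ 2 := Nat.le_of_dvd (by norm_num) (orderOf_dvd_of_pow_eq_one (by rw [pow_two, hsq a ha]))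
        omega
      refine ⟨a, ha, b, hb, ha1, ?_, ?_⟩
      · rintro rfl; exact hb1 (one_mem _)
      · rintro rfl; exact hb1 (mem_zpowers _)
    have hab1 : a * b ≠ 1 := by
      intro h
      apply hab
      have h1 := mul_eq_one_iff_eq_inv.1 h
      rw [h1, inv_eq_of_mul_eq_one_left (hsq b hb)]
    apply hg1
    apply hfree (a * b) (T.mul_mem ha hb) hab1 g hgE
    have h1 : a * b * g * (a * b)⁻¹ = g := by
      calc a * b * g * (a * b)⁻¹ = a * (b * g * b⁻¹) * a⁻¹ := by group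
        _ = (a * g * a⁻¹)⁻¹ := by rw [hinv b hb hb1]; group
        _ = g := by rw [hinv a ha ha1, inv_inv]
    exact mul_inv_eq_iff_eq_mul.1 h1
  -- the norm trick
  have hEcomm : ∀ a ∈ E, ∀ b ∈ E, a * b = b * a := by
    rintro _ ⟨i, rfl⟩ _ ⟨j, rfl⟩
    exact (Commute.refl g).zpow_zpow i j
  have key := NormTr.gen (K := G) (E := E) hEcomm (y := y) (fun i e he => hTE _ (pow_mem hy i) e he) (l := 4)
    (by norm_num) (by
      intro i hi0 hi4 e he hc
      refine hfree _ (pow_mem hy i) ?_ e he (mul_inv_eq_iff_eq_mul.1 hc)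
      intro h1
      have h2 := orderOf_dvd_of_pow_eq_one h1
      rw [hy4] at h2
      have := Nat.le_of_dvd hi0 h2
      omega) (p := 2) (by
      rw [hEc]; exact ((Nat.Prime.coprime_iff_not_dvd Nat.prime_two).2 hodd).symm) (Nat.card Q) (Γ := G)
      (MonoidHom.id G) Q hQ2 le_rfl (by
        intro q hq e he
        apply h4
        rw [MonoidHom.id_apply]
        have h1 : IsPGroup 2 (Q ⊔ zpowers (e * y * e⁻¹) : Subgroup G) := by
          apply hQ2.to_sup_of_normal_left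
          apply IsPGroup.of_card (n := 2)
          have h2 : orderOf (e * y * e⁻¹) = orderOf y :=
            orderOf_injective (MulAut.conj e).toMonoidHom (MulAut.conj e).injective y
          rw [Nat.card_zpowers, h2, hy4]; norm_num
        obtain ⟨k, hk⟩ := h1 ⟨q * (e * y * e⁻¹), mul_mem (mem_sup_left hq) (mem_sup_right (mem_zpowers _))⟩
        exact ⟨k, congrArg Subtype.val hk⟩)
  -- contradiction
  obtain ⟨z, hz⟩ := exists_prime_orderOf_dvd_card' (G := Q) 2 (by
    haveI : Nontrivial Q := (nontrivial_iff_ne_bot _).2 hQ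
    obtain ⟨n, hn, hn1⟩ := hQ2.nontrivial_iff_card.1 inferInstance
    rw [hn1]; exact dvd_pow_self 2 (by omega))
  have hz1 : (z : G) ≠ 1 := by
    intro h
    have : z = 1 := Subtype.ext h
    rw [this, orderOf_one] at hz
    omega
  have hz2 : (z : G) ^ 2 ^ 1 = 1 := by
    have := pow_orderOf_eq_one z
    rw [hz] at this
    rw [pow_one]
    exact congrArg Subtype.val this
  have h5 := key g hgE z z.2
  rw [MonoidHom.id_apply] at h5
  exact hg1 (hG.odd_comm hz1 hz2 (hEo g hgE) (mul_inv_eq_iff_eq_mul.1 h5).symm)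

end Cfsg.Agent.CIT.Non
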