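import Mathlib
import Cfsg.Agent.CIT.H3B

set_option autoImplicit false

/-!
# No prime divides three element orders: the conclusion
-/

namespace Cfsg.Agent.CIT.Non

open Subgroup Cfsg

universe u

/-- the five conclusions -/
def Concl (G : Type*) [Group G] : Prop :=
    (∃ (F : Type) (_ : Field F) (_ : Fintype F), CharP F 2 ∧ 4 ≤ Fintype.card F ∧
        (Fintype.card F + 1).primeFactorsList.length ≤ 2 ∧ (Fintype.card F - 1).primeFactorsList.length ≤ 2 ∧
        Nonempty (G ⧸ Cfsg.pCore 2 G ≃* Matrix.ProjectiveSpecialLinearGroup (Fin 2) F)) ∨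
    (∃ (F : Type) (_ : Field F) (_ : Fintype F), 5 < Fintype.card F ∧ (Fintype.card F % 8 = 3 ∨ Fintype.card F % 8 = 5) ∧
        ((Fintype.card F + 1) / 2).primeFactorsList.length ≤ 2 ∧ ((Fintype.card F - 1) / 2).primeFactorsList.length ≤ 2 ∧
        Nonempty (G ≃* Matrix.ProjectiveSpecialLinearGroup (Fin 2) F)) ∨
    (∃ (F : Type) (_ : Field F) (_ : Fintype F), (Fintype.card F = 7 ∨ Fintype.card F = 9) ∧
        Nonempty (G ≃* Matrix.ProjectiveSpecialLinearGroup (Fin 2) F)) ∨
    (∃ (F : Type) (_ : Field F) (_ : Fintype F), Fintype.card F = 4 ∧ Nonempty (G ≃* Matrix.ProjectiveSpecialLinearGroup (Fin 3) F)) ∨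
    (∃ n : ℕ, 1 ≤ n ∧ IsSimpleGroup G ∧ Nat.card G = (2 ^ (2 * n + 1)) ^ 2 * ((2 ^ (2 * n + 1)) ^ 2 + 1) * (2 ^ (2 * n + 1) - 1) ∧
        (2 ^ (2 * n + 1) - 1).primeFactorsList.length ≤ 2 ∧ (2 ^ (2 * n + 1) - 2 ^ (n + 1) + 1).primeFactorsList.length ≤ 2 ∧
        (2 ^ (2 * n + 1) + 2 ^ (n + 1) + 1).primeFactorsList.length ≤ 2)

theorem gcd_even {q : ℕ} (h : q % 2 = 0) (hq : 0 < q) : Nat.gcd 2 (q - 1) = 1 := by
  have : ¬ 2 ∣ q - 1 := by omega
  exact (Nat.Prime.coprime_iff_not_dvd Nat.prime_two).2 this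

theorem gcd_odd {q : ℕ} (h : q % 2 = 1) : Nat.gcd 2 (q - 1) = 2 := Nat.gcd_eq_left (by omega)

theorem core_simple {G : Type u} [Group G] [Finite G] [IsSimpleGroup G] (hns : ¬ Group.IsSolvable G) :
    pCore 2 G = ⊥ := by
  haveI := Fact.mk Nat.prime_two
  rcases IsSimpleGroup.eq_bot_or_eq_top_of_normal (pCore 2 G) inferInstance with h | h
  · exact h
  · exfalso
    apply hns
    have h1 : IsPGroup 2 (⊤ : Subgroup G) := by rw [← h]; exact JY.pCore_two
    have h2 : IsPGroup 2 G := by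
      intro g
      obtain ⟨k, hk⟩ := h1 ⟨g, mem_top g⟩
      exact ⟨k, congrArg Subtype.val hk⟩
    haveI := h2.isNilpotent
    infer_instance

/-- a group isomorphic to `PSL₂(q)` without elements of order 4 -/
theorem concl_psl {G : Type u} [Group G] [Finite G] (h : H3 G) (hns : ¬ Group.IsSolvable G)
    {F : Type} [Field F] [Fintype F] (e : G ≃* Matrix.ProjectiveSpecialLinearGroup (Fin 2) F)
    (he : ∀ x : G, orderOf x ≠ 4) : Concl G := by
  have h4 := JY.four_le hns e
  obtain ⟨p, n, hp, hn, hn0, hpF, hspec⟩ := spec h4 e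
  haveI hsF : IsSimpleGroup (Matrix.ProjectiveSpecialLinearGroup (Fin 2) F) :=
    S2540.psl_simple (F := F) 2 le_rfl (by rintro ⟨-, h1⟩; omega)
  haveI : IsSimpleGroup G := MulEquiv.isSimpleGroup e
  obtain ⟨f⟩ := JY.equiv_of' (core_simple hns)
  rcases Nat.mod_two_eq_zero_or_one (Fintype.card F) with hev | hodd
  · left
    have hp2 : p = 2 := by
      have h2 : 2 ∣ p ^ (n : ℕ) := by rw [← hn]; exact Nat.dvd_of_mod_eq_zero hev
      exact ((Nat.prime_dvd_prime_iff_eq Nat.prime_two hp).1 (Nat.prime_two.dvd_of_dvd_pow h2)).symm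
    subst hp2
    rw [gcd_even hev (by omega), Nat.div_one, Nat.div_one] at hspec
    refine ⟨F, inferInstance, inferInstance, hpF, h4, ?_, ?_, ⟨f.symm.trans e⟩⟩
    · exact h.len_le ((hspec _).2 (Or.inr (Or.inr dvd_rfl)))
    · exact h.len_le ((hspec _).2 (Or.inr (Or.inl dvd_rfl)))
  · rw [gcd_odd hodd] at hspec
    have h8 : Fintype.card F % 8 = 3 ∨ Fintype.card F % 8 = 5 := by
      by_contra hcon
      have h9 : Fintype.card F % 8 = 1 ∨ Fintype.card F % 8 = 7 := by omega
      obtain ⟨x, hx⟩ : ∃ x : G, orderOf x = 4 := by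
        rw [hspec]
        rcases h9 with h9 | h9
        · right; left; omega
        · right; right; omega
      exact he x hx
    rcases eq_or_ne (Fintype.card F) 5 with h5 | h5
    · left
      have hA : Nonempty (G ≃* alternatingGroup (Fin 5)) := by
        apply S0494.result
        have h3 := H14.SubField.card_PSL2_odd (F := F) (by rw [h5]; decide)
        rw [h5] at h3
        have hc := Nat.card_congr e.toEquiv
        rw [hc]
        omega
      obtain ⟨g⟩ := hA
      obtain ⟨K, j1, j2, hK, ⟨g'⟩⟩ := JY.alt_five_psl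
      obtain ⟨p', n', hp', hn', hn0', hpF', -⟩ := spec (F := K) (by omega) (MulEquiv.refl _)
      have hp2 : p' = 2 := by
        have h2 : 2 ∣ p' ^ (n' : ℕ) := by rw [← hn', hK]; norm_num
        exact ((Nat.prime_dvd_prime_iff_eq Nat.prime_two hp').1 (Nat.prime_two.dvd_of_dvd_pow h2)).symm
      subst hp2
      refine ⟨K, j1, j2, hpF', by omega, ?_, ?_, ⟨(f.symm.trans g).trans g'⟩⟩
      · rw [hK, Nat.primeFactorsList_prime (by norm_num : Nat.Prime 5)]; simp
      · rw [hK, Nat.primeFactorsList_prime (by norm_num : Nat.Prime 3)]; simp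
    · right; left
      refine ⟨F, inferInstance, inferInstance, by omega, h8, ?_, ?_, ⟨e⟩⟩
      · exact h.len_le ((hspec _).2 (Or.inr (Or.inr dvd_rfl)))
      · exact h.len_le ((hspec _).2 (Or.inr (Or.inl dvd_rfl)))

section Cit

variable {G : Type u} [Group G] [Finite G]

/-- even orders in `G` and its sections -/
theorem ord_le_four (h : H3 G) (hX : JY.CIT (G ⧸ pCore 2 G)) {x : G ⧸ pCore 2 G} (hx : 2 ∣ orderOf x) : orderOf x ≤ 4 := by
  obtain ⟨k, hk⟩ := even_pow hX hx
  obtain ⟨y, hy⟩ := exists_dvd_of_quot (N := pCore 2 G) ⟨x, rfl⟩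
  have h8 := h.no_eight y
  rw [hy, hk] at h8
  have hk3 : k < 3 := by
    by_contra hcon
    push Not at hcon
    exact h8 (by rw [show 8 = 2 ^ 3 by norm_num]; exact pow_dvd_pow 2 hcon)
  rw [hk]
  calc 2 ^ k ≤ 2 ^ 2 := Nat.pow_le_pow_right (by norm_num) (by omega)
    _ = 4 := by norm_num

/-- `L = A₅` -/
theorem case_four (hG : JY.CIT G) {L : Subgroup (G ⧸ pCore 2 G)} (hD : JY.Dat G L)
    {F : Type} [Field F] [Fintype F] (hF : Fintype.card F = 4)
    (e : L ≃* Matrix.ProjectiveSpecialLinearGroup (Fin 2) F) : Concl G := by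
  haveI := hD.normal
  obtain ⟨p, n, hp, hn, hn0, hpF, hspec⟩ := spec (by omega) e
  have hp2 : p = 2 := by
    have h2 : 2 ∣ p ^ n := by rw [← hn, hF]; norm_num
    exact ((Nat.prime_dvd_prime_iff_eq Nat.prime_two hp).1 (Nat.prime_two.dvd_of_dvd_pow h2)).symm
  subst hp2
  rw [hF] at hspec
  have hE : JY.EPPO G := by
    apply eppo_of hG hD
    intro x hx hx1
    have h1 : orderOf x ≠ 1 := fun h => hx1 (orderOf_eq_one_iff.1 h)
    rcases (hspec _).1 ⟨x, rfl⟩ with h | h | h
    · rw [(Nat.dvd_prime Nat.prime_two).1 h |>.resolve_left h1] at hx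
      exact absurd dvd_rfl hx
    · norm_num at h
      rw [((Nat.dvd_prime Nat.prime_three).1 h).resolve_left h1]
      exact Nat.prime_three.isPrimePow
    · norm_num at h
      rw [((Nat.dvd_prime Nat.prime_five).1 h).resolve_left h1]
      exact Nat.prime_five.isPrimePow
  have htop := (hE.quot (pCore 2 G)).top_small L hD.quot (Or.inr (by
    rw [Nat.card_congr e.toEquiv, JY.card_psl2_four hF]))
  obtain ⟨f⟩ := JY.equiv_of htop
  left
  refine ⟨F, inferInstance, inferInstance, hpF, by omega, ?_, ?_, ⟨f.trans e⟩⟩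
  · rw [hF, Nat.primeFactorsList_prime (by norm_num : Nat.Prime 5)]; simp
  · rw [hF, Nat.primeFactorsList_prime (by norm_num : Nat.Prime 3)]; simp

theorem case_even (h : H3 G) (hG : JY.CIT G) {L : Subgroup (G ⧸ pCore 2 G)} (hD : JY.Dat G L)
    {F : Type} [Field F] [Fintype F] (h4 : 4 ≤ Fintype.card F) {n : ℕ} (hF : Fintype.card F = 2 ^ n)
    (e : L ≃* Matrix.ProjectiveSpecialLinearGroup (Fin 2) F) : Concl G := by
  haveI := hD.normal
  have hn2 : 2 ≤ n := by
    by_contra hcon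
    have : n < 2 := by omega
    interval_cases n <;> omega
  rcases Nat.lt_or_ge n 3 with h3 | h3
  · have : n = 2 := by omega
    subst this
    exact case_four hG hD hF e
  have htop := hD.citX.top_even L hD.quot h3 hF e
  obtain ⟨f⟩ := JY.equiv_of htop
  obtain ⟨p, m, hp, hm, hm0, hpF, hspec⟩ := spec h4 e
  have hev : Fintype.card F % 2 = 0 := by
    obtain ⟨k, rfl⟩ := Nat.exists_eq_add_of_le' hn2
    rw [hF, pow_add]; omega
  have hp2 : p = 2 := by
    have h2 : 2 ∣ p ^ m := by rw [← hm]; exact Nat.dvd_of_mod_eq_zero hev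
    exact ((Nat.prime_dvd_prime_iff_eq Nat.prime_two hp).1 (Nat.prime_two.dvd_of_dvd_pow h2)).symm
  subst hp2
  rw [gcd_even hev (by omega), Nat.div_one, Nat.div_one] at hspec
  left
  refine ⟨F, inferInstance, inferInstance, hpF, h4, ?_, ?_, ⟨f.trans e⟩⟩
  · exact h.len_le ((hD.odd_iff (by omega)).1 ((hspec _).2 (Or.inr (Or.inr dvd_rfl))))
  · exact h.len_le ((hD.odd_iff (by omega)).1 ((hspec _).2 (Or.inr (Or.inl dvd_rfl))))

theorem case_seven (hG : JY.CIT G) {L : Subgroup (G ⧸ pCore 2 G)} (hD : JY.Dat G L)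
    {F : Type} [Field F] [Fintype F] (hF : Fintype.card F = 7)
    (e : L ≃* Matrix.ProjectiveSpecialLinearGroup (Fin 2) F) : Concl G := by
  haveI := hD.normal
  obtain ⟨p, n, hp, hn, hn0, hpF, hspec⟩ := spec (by omega) e
  have hp7 : p = 7 := by
    have h2 : p ∣ 7 := by rw [← hF, hn]; exact dvd_pow_self p hn0.ne'
    exact (Nat.prime_dvd_prime_iff_eq hp (by norm_num)).1 h2
  subst hp7
  rw [hF] at hspec
  have hE : JY.EPPO G := by
    apply eppo_of hG hD
    intro x hx hx1
    have h1 : orderOf x ≠ 1 := fun h => hx1 (orderOf_eq_one_iff.1 h)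
    rcases (hspec _).1 ⟨x, rfl⟩ with h | h | h
    · rw [((Nat.dvd_prime (by norm_num)).1 h).resolve_left h1]
      exact (by norm_num : Nat.Prime 7).isPrimePow
    · norm_num at h
      rw [((Nat.dvd_prime Nat.prime_three).1 h).resolve_left h1]
      exact Nat.prime_three.isPrimePow
    · norm_num at h
      exfalso
      obtain ⟨k, -, hk⟩ := (Nat.dvd_prime_pow Nat.prime_two).1 (show orderOf x ∣ 2 ^ 2 by norm_num; exact h)
      rcases Nat.eq_zero_or_pos k with rfl | hk0
      · exact h1 (by rw [hk, pow_zero])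
      · exact hx (by rw [hk]; exact dvd_pow_self 2 hk0.ne')
  have hc : Nat.card L = 168 := by
    rw [Nat.card_congr e.toEquiv]
    have h3 := H14.SubField.card_PSL2_odd (F := F) (by rw [hF]; decide)
    rw [hF] at h3
    omega
  have htop := (hE.quot (pCore 2 G)).top_small L hD.quot (Or.inl hc)
  have hb := hE.core_bot (Or.inl ((JY.card_eq_of_top htop).trans hc))
  obtain ⟨f⟩ := JY.equiv_of htop
  obtain ⟨g⟩ := JY.equiv_of' hb
  right; right; left
  exact ⟨F, inferInstance, inferInstance, Or.inl hF, ⟨(g.trans f).trans e⟩⟩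

theorem case_nine (h : H3 G) (hG : JY.CIT G) {L : Subgroup (G ⧸ pCore 2 G)} (hD : JY.Dat G L)
    {F : Type} [Field F] [Fintype F] (hF : Fintype.card F = 9)
    (e : L ≃* Matrix.ProjectiveSpecialLinearGroup (Fin 2) F) : Concl G := by
  haveI := hD.normal
  haveI := hD.simple
  haveI : Fact (Nat.Prime 3) := ⟨Nat.prime_three⟩
  haveI : Fact (Nat.Prime 2) := ⟨Nat.prime_two⟩
  obtain ⟨p, n, hp, hn, hn0, hpF, hspec⟩ := spec (by omega) e
  have hp3 : p = 3 := by
    have h2 : p ∣ 3 ^ 2 := by rw [show 3 ^ 2 = 9 by norm_num, ← hF, hn]; exact dvd_pow_self p hn0.ne'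
    exact (Nat.prime_dvd_prime_iff_eq hp (by norm_num)).1 (hp.dvd_of_dvd_pow h2)
  subst hp3
  rw [hF] at hspec
  have hc : Nat.card L = 360 := by
    rw [Nat.card_congr e.toEquiv]
    have h3 := H14.SubField.card_PSL2_odd (F := F) (by rw [hF]; decide)
    rw [hF] at h3
    omega
  obtain ⟨e6⟩ : Nonempty (L ≃* alternatingGroup (Fin 6)) := S0497.result hc
  have hle : ∀ x : L, orderOf x ≤ 5 := by
    intro x
    rcases (hspec _).1 ⟨x, rfl⟩ with h | h | h
    · exact (Nat.le_of_dvd (by norm_num) h).trans (by norm_num)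
    · norm_num at h
      exact (Nat.le_of_dvd (by norm_num) h).trans (by norm_num)
    · norm_num at h
      exact (Nat.le_of_dvd (by norm_num) h)
  have htop : L = ⊤ := by
    refine JY.top_six hD.citX (fun x => ?_) L hD.quot (fun s t hs ht => hD.list.one_class s t hs ht) e6
    by_cases h2 : 2 ∣ orderOf x
    · have := ord_le_four h hD.citX h2
      omega
    · have h3 := hle ⟨x, JY.mem_of_odd hD.quot h2⟩
      rwa [Subgroup.orderOf_mk] at h3
  have hcX : Nat.card (G ⧸ pCore 2 G) = 360 := (JY.card_eq_of_top htop).trans hc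
  have hb : pCore 2 G = ⊥ := by
    obtain ⟨P⟩ : Nonempty (Sylow 3 G) := inferInstance
    obtain ⟨a, ha⟩ := IsPGroup.iff_card.1 (JY.pCore_two (G := G))
    have hcG : Nat.card G = 3 ^ 2 * (40 * 2 ^ a) := by
      rw [Subgroup.card_eq_card_quotient_mul_card_subgroup (pCore 2 G), hcX, ha]; ring
    have h3a : ¬ 3 ∣ 40 * 2 ^ a := by
      intro h3
      rcases (Nat.Prime.dvd_mul Nat.prime_three).1 h3 with h4 | h4
      · omega
      · have := (Nat.prime_dvd_prime_iff_eq Nat.prime_three Nat.prime_two).1 (Nat.prime_three.dvd_of_dvd_pow h4)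
        omega
    have hPc : Nat.card P = 3 ^ 2 := by
      rw [Sylow.card_eq_multiplicity P, JY.factorization_eq Nat.prime_three hcG h3a]
    have hPab := JY.abelian_of_card_sq P hPc
    have hP3 : ∀ x ∈ (P : Subgroup G), x ^ 3 = 1 := by
      intro x hx
      obtain ⟨k, hk⟩ := P.2 ⟨x, hx⟩
      have hk' : x ^ 3 ^ k = 1 := congrArg Subtype.val hk
      obtain ⟨j, -, hj⟩ := (Nat.dvd_prime_pow Nat.prime_three).1 (orderOf_dvd_of_pow_eq_one hk')
      have hodd : ¬ 2 ∣ orderOf x := by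
        rw [hj]
        intro h2
        have := (Nat.prime_dvd_prime_iff_eq Nat.prime_two Nat.prime_three).1 (Nat.prime_two.dvd_of_dvd_pow h2)
        omega
      obtain ⟨y, hy⟩ := (hD.odd_iff hodd).2 ⟨x, rfl⟩
      have h5 := hle y
      rw [hy, hj] at h5
      have hj2 : j < 2 := by
        by_contra hcon
        push Not at hcon
        have : 3 ^ 2 ≤ 3 ^ j := Nat.pow_le_pow_right (by norm_num) hcon
        omega
      apply orderOf_dvd_iff_pow_eq_one.1
      rw [hj]
      exact pow_dvd_pow 3 (show j ≤ 1 by omega)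
    have hPe : Cfsg.IsElementaryAbelian 3 (P : Subgroup G) :=
      ⟨⟨⟨fun a b => Subtype.ext (hPab _ a.2 _ b.2)⟩⟩, hP3⟩
    have hbot := SigF.eq_of_fixed_le (K := pCore 2 G) (H := ⊥) hPe (by rw [hPc]) (by
      rw [ha]
      intro h3
      have := (Nat.prime_dvd_prime_iff_eq Nat.prime_three Nat.prime_two).1 (Nat.prime_three.dvd_of_dvd_pow h3)
      omega) (by
        rw [normalizer_eq_top_iff.2 inferInstance]; exact le_top) bot_le (by
        rintro x hx hx1 q ⟨hq, hqx⟩
        rw [mem_bot]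
        by_contra hq1
        obtain ⟨k, hk⟩ := JY.pCore_two (G := G) ⟨q, hq⟩
        have hk' : q ^ 2 ^ k = 1 := congrArg Subtype.val hk
        have hxo : orderOf x = 3 := orderOf_eq_prime (hP3 x hx) hx1
        exact hG.not_comm hq1 hk' Nat.prime_three (by norm_num) hxo (mem_centralizer_singleton_iff.1 hqx))
    exact hbot.symm
  obtain ⟨f⟩ := JY.equiv_of htop
  obtain ⟨g⟩ := JY.equiv_of' hb
  right; right; left
  exact ⟨F, inferInstance, inferInstance, Or.inr hF, ⟨(g.trans f).trans e⟩⟩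

theorem case_psl34 (hG : JY.CIT G) {L : Subgroup (G ⧸ pCore 2 G)} (hD : JY.Dat G L)
    {F : Type} [Field F] [Fintype F] (hF : Fintype.card F = 4)
    (e : L ≃* Matrix.ProjectiveSpecialLinearGroup (Fin 3) F) : Concl G := by
  haveI := hD.normal
  have hE : JY.EPPO G := eppo_of hG hD (fun x hx hx1 => psl34_odd hF e x hx hx1)
  have hc : Nat.card L = 20160 := by
    rw [Nat.card_congr e.toEquiv, JY.card_psl3_four hF]
  have htop := (hE.quot (pCore 2 G)).top_psl34 L hD.quot hc
  have hb := hE.core_bot (Or.inr ((JY.card_eq_of_top htop).trans hc))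
  obtain ⟨f⟩ := JY.equiv_of htop
  obtain ⟨g⟩ := JY.equiv_of' hb
  right; right; right; left
  exact ⟨F, inferInstance, inferInstance, hF, ⟨(g.trans f).trans e⟩⟩

end Cit

end Cfsg.Agent.CIT.Non
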