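import Mathlib
import Cfsg.Agent.CIT.H3C
import Cfsg.Agent.Suzuki.Simple

set_option autoImplicit false

/-!
# No prime divides three element orders: Suzuki groups and the conclusion
-/

namespace Cfsg.Agent.CIT.Non

open Subgroup Cfsg

universe u

variable {G : Type u} [Group G] [Finite G]

theorem case_sz (h : H3 G) (hns : ¬ Group.IsSolvable G) (hG : JY.CIT G) {L : Subgroup (G ⧸ pCore 2 G)} (hD : JY.Dat G L)
    {F : Type} [Field F] [Fintype F] {m : ℕ} (hm : 1 ≤ m) (hF : Fintype.card F = 2 ^ (2 * m + 1))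
    (e : L ≃* ↥(Cfsg.Lie.Sz F (2 ^ (m + 1)))) : Concl G := by
  haveI := hD.normal
  have htop := JY.eq_top_of_out_odd L hD.centr hD.quot (JY.out_odd hm hF e)
  obtain ⟨f⟩ := JY.equiv_of htop
  obtain ⟨s⟩ := Cfsg.Agent.Suz.nonempty_lieEquiv hm hF
  let E : (G ⧸ pCore 2 G) ≃* Cfsg.Sz F m := (f.trans e).trans s.symm
  have hr : 2 ^ (m + 1) < 2 ^ (2 * m + 1) := Nat.pow_lt_pow_right (by norm_num) (by omega)
  have hr0 : 2 ≤ 2 ^ (m + 1) := by
    calc 2 = 2 ^ 1 := by norm_num
      _ ≤ 2 ^ (m + 1) := Nat.pow_le_pow_right (by norm_num) (by omega)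
  have hev1 : 2 ^ (m + 1) % 2 = 0 := by rw [pow_succ]; omega
  have hev2 : 2 ^ (2 * m + 1) % 2 = 0 := by rw [pow_succ]; omega
  -- the core is trivial
  have hb : pCore 2 G = ⊥ := by
    obtain ⟨U, hU, hUc, -, hUN⟩ := S0333.result hm hF (2 ^ (2 * m + 1) - 2 ^ (m + 1) + 1) (Or.inr rfl)
    obtain ⟨u, hu⟩ := IsCyclic.exists_generator (α := U)
    set k := 2 ^ (2 * m + 1) - 2 ^ (m + 1) + 1 with hk
    have huo : orderOf (u : Cfsg.Sz F m) = k := by
      rw [Subgroup.orderOf_coe, ← hUc]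
      exact orderOf_eq_card_of_forall_mem_zpowers hu
    have hk1 : k ≠ 1 := by omega
    obtain ⟨l, hl, hlk⟩ := Nat.exists_prime_and_dvd hk1
    have hl2 : l ≠ 2 := by
      rintro rfl
      omega
    have hk0 : k ≠ 0 := by omega
    set x : Cfsg.Sz F m := (u : Cfsg.Sz F m) ^ (k / l) with hx
    have hxo : orderOf x = l := by
      rw [hx]
      have := orderOf_pow_orderOf_div (x := (u : Cfsg.Sz F m)) (n := l) (by rw [huo]; exact hk0) (by rw [huo]; exact hlk)
      rwa [huo] at this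
    -- the normalizer of `U` normalizes `⟨x⟩`
    have hNU : normalizer (U : Set (Cfsg.Sz F m)) ≤ normalizer (zpowers x : Set (Cfsg.Sz F m)) := by
      intro g hg
      apply JY.mem_normalizer_of_conj
      rintro _ ⟨j, rfl⟩
      change g * x ^ j * g⁻¹ ∈ zpowers x
      have h1 : g * (u : Cfsg.Sz F m) * g⁻¹ ∈ U := (mem_normalizer_iff.1 hg _).1 u.2
      obtain ⟨i, hi⟩ := hu ⟨_, h1⟩
      have hi' : (u : Cfsg.Sz F m) ^ i = g * u * g⁻¹ := congrArg Subtype.val hi
      have h2 : g * x ^ j * g⁻¹ = x ^ (i * j) := by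
        rw [← conj_zpow, hx, ← conj_pow, ← hi', zpow_mul]
        congr 1
        rw [← zpow_natCast, ← zpow_natCast, ← zpow_mul, ← zpow_mul, mul_comm]
      rw [h2]
      exact zpow_mem (mem_zpowers x) _
    have h4N : 4 ∣ Nat.card (normalizer (zpowers x : Set (Cfsg.Sz F m))) := by
      refine Dvd.dvd.trans ?_ (Subgroup.card_dvd_of_le hNU)
      rw [hUN]; exact dvd_mul_right _ _
    -- transport
    have h5 : 4 ∣ Nat.card (normalizer (zpowers (E.symm x) : Set (G ⧸ pCore 2 G))) := by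
      refine h4N.trans ?_
      rw [Nat.card_congr ((normalizer (zpowers x : Set (Cfsg.Sz F m))).equivMapOfInjective E.symm.toMonoidHom
        E.symm.injective).toEquiv]
      apply Subgroup.card_dvd_of_le
      rintro _ ⟨g, hg, rfl⟩
      apply JY.mem_normalizer_of_conj
      rintro _ ⟨j, rfl⟩
      obtain ⟨i, hi⟩ := (mem_normalizer_iff.1 hg (x ^ j)).1 (zpow_mem (mem_zpowers x) j)
      refine ⟨i, ?_⟩
      change (E.symm x) ^ i = E.symm g * (E.symm x) ^ j * (E.symm g)⁻¹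
      rw [← map_zpow, ← map_zpow, ← map_inv, ← map_mul, ← map_mul]
      congr 1
    exact core_of_four hG (fun y hy => h.pow_four hy) JY.pCore_two hl hl2
      (x := E.symm x) (by rw [E.symm.orderOf_eq, hxo]) h5
  obtain ⟨g⟩ := JY.equiv_of' hb
  let E' : G ≃* Cfsg.Sz F m := g.trans E
  haveI : IsSimpleGroup (Cfsg.Sz F m) := by
    have := Cfsg.Agent.Suz.charP_two hF
    exact Cfsg.Agent.Suz.isSimple hm hF
  haveI : IsSimpleGroup G := MulEquiv.isSimpleGroup E'
  have hord : ∀ n : ℕ, (∃ x : Cfsg.Sz F m, orderOf x = n) → n.primeFactorsList.length ≤ 2 := by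
    rintro n ⟨x, rfl⟩
    exact h.len_le ⟨E'.symm x, E'.symm.orderOf_eq x⟩
  right; right; right; right
  refine ⟨m, hm, inferInstance, ?_, ?_, ?_, ?_⟩
  · rw [Nat.card_congr E'.toEquiv, JY.sz_card hm hF]
  · exact hord _ (JY.exists_orderOf_HH hm hF)
  · exact hord _ (JY.exists_torus_order hm hF (Or.inr rfl))
  · exact hord _ (JY.exists_torus_order hm hF (Or.inl rfl))

/-- Fermat and Mersenne primes -/
theorem fermat_mersenne {q k : ℕ} (hq : q.Prime) (h4 : 4 ≤ q) (hk : q = 2 ^ k + 1 ∨ q + 1 = 2 ^ k)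
    (h8 : ¬ 8 ∣ (q - 1) / 2 ∧ ¬ 8 ∣ (q + 1) / 2) : q = 5 ∨ q = 7 := by
  have hk4 : k < 4 := by
    by_contra hcon
    push Not at hcon
    obtain ⟨j, rfl⟩ := Nat.exists_eq_add_of_le' hcon
    have e : 2 ^ (j + 4) = 16 * 2 ^ j := by rw [pow_add]; ring
    rw [e] at hk
    rcases hk with hk | hk
    · apply h8.1
      exact ⟨2 ^ j, by omega⟩
    · apply h8.2
      exact ⟨2 ^ j, by omega⟩
  interval_cases k
  · omega
  · omega
  · rcases hk with hk | hk
    · left; omega
    · omega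
  · rcases hk with hk | hk
    · exfalso
      rw [show q = 9 by omega] at hq
      norm_num at hq
    · right; omega

theorem cit_case (h : H3 G) (hns : ¬ Group.IsSolvable G) (hG : JY.CIT G) : Concl G := by
  obtain ⟨L, hD⟩ := JY.CIT.main JY.ct JY.os hG hns
  haveI := hD.normal
  haveI := hD.simple
  have hLns := JY.not_solvable_of hD.comm
  rcases hD.list with ⟨F, i1, i2, hF, ⟨e⟩⟩ | ⟨F, i1, i2, hF, ⟨e⟩⟩ | ⟨F, i1, i2, m, hm, hF, ⟨e⟩⟩
  · have h4 := JY.four_le hLns e
    rcases hF with h9 | ⟨n, hn⟩ | ⟨hpr, k, hk⟩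
    · exact case_nine h hG hD h9 e
    · exact case_even h hG hD h4 hn e
    · have hodd : Fintype.card F % 2 = 1 := hpr.eq_two_or_odd.resolve_left (by omega)
      obtain ⟨p, n, hp, hn, hn0, hpF, hspec⟩ := spec h4 e
      rw [gcd_odd hodd] at hspec
      have h8 : ∀ j, (j ∣ p ∨ j ∣ (Fintype.card F - 1) / 2 ∨ j ∣ (Fintype.card F + 1) / 2) → j ≠ 8 := by
        rintro j hj rfl
        obtain ⟨x, hx⟩ := (hspec 8).2 hj
        have h9 := ord_le_four h hD.citX (x := (x : G ⧸ pCore 2 G)) (by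
          rw [Subgroup.orderOf_coe, hx]; norm_num)
        rw [Subgroup.orderOf_coe, hx] at h9
        omega
      rcases fermat_mersenne hpr h4 hk ⟨fun hd => h8 8 (Or.inr (Or.inl hd)) rfl,
          fun hd => h8 8 (Or.inr (Or.inr hd)) rfl⟩ with h5 | h7
      · have hA : Nonempty (L ≃* alternatingGroup (Fin 5)) := by
          apply S0494.result
          have h3 := H14.SubField.card_PSL2_odd (F := F) (by rw [h5]; decide)
          rw [h5] at h3
          have hc := Nat.card_congr e.toEquiv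
          rw [hc]
          omega
        obtain ⟨f⟩ := hA
        obtain ⟨K, j1, j2, hK, ⟨g⟩⟩ := JY.alt_five_psl
        exact case_four hG hD hK (f.trans g)
      · exact case_seven hG hD h7 e
  · exact case_psl34 hG hD hF e
  · exact case_sz h hns hG hD hm hF e

/-- **Main theorem** -/
theorem h3_main (h : H3 G) (hns : ¬ Group.IsSolvable G) : Concl G := by
  rcases cit_or h with hC | ⟨p, hp⟩
  · exact cit_case h hns hC
  · obtain ⟨F, i1, i2, hq, ⟨e⟩⟩ := dg_main hp h hns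
    refine concl_psl h hns e (fun x hx => ?_)
    have h1 := hp.exp2 x ⟨2, by rw [show 2 ^ 2 = 4 by norm_num, ← hx, pow_orderOf_eq_one]⟩
    have h2 : orderOf x ∣ 2 := orderOf_dvd_of_pow_eq_one (by rw [pow_two, h1])
    rw [hx] at h2
    omega

end Cfsg.Agent.CIT.Non
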