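import Cfsg.Agent.Cop.Basic
import Cfsg.Agent.H91.GenCent

set_option autoImplicit false

/-!
Coprime action lemmas (helper57, for helper31)
-/

namespace Cfsg.Agent.CIT.PP

open Subgroup
open scoped Pointwise

universe u
variable {G : Type u} [Group G] [Finite G] {p : ℕ} [Fact p.Prime]

theorem norm_of {A K : Subgroup G} (h : ∀ a ∈ A, ∀ x ∈ K, a * x * a⁻¹ ∈ K) : A ≤ normalizer (K : Set G) := by
  intro a ha
  rw [mem_normalizer_iff]
  intro x
  refine ⟨h a ha x, fun hx => ?_⟩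
  have := h a⁻¹ (inv_mem ha) _ hx
  have e : a⁻¹ * (a * x * a⁻¹) * a⁻¹⁻¹ = x := by group
  rwa [e] at this

/-- an automorphism into itself is onto -/
theorem norm_of_one {K : Subgroup G} {a : G} (h : ∀ x ∈ K, a * x * a⁻¹ ∈ K) : zpowers a ≤ normalizer (K : Set G) := by
  rw [zpowers_le]
  have h1 : MulAut.conj a • K ≤ K := by
    intro x hx
    rw [Cfsg.Agent.Hall.mem_conj_smul] at hx
    have := h _ hx
    have e : a * (a⁻¹ * x * a) * a⁻¹ = x := by group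
    rwa [e] at this
  have h2 : MulAut.conj a • K = K := Subgroup.eq_of_le_of_card_ge h1 (Cfsg.Agent.Hall.card_conj_smul _ _).ge
  exact Cop.mem_normalizer_of_conj_smul_eq h2

omit [Finite G] in
theorem coprime_of_pow {K : Subgroup G} (hKc : (Nat.card K).Coprime p) {a : G} (hap : ∃ k : ℕ, a ^ p ^ k = 1) :
    (Nat.card (zpowers a)).Coprime (Nat.card K) := by
  obtain ⟨k, hk⟩ := hap
  rw [Nat.card_zpowers]
  exact Nat.Coprime.coprime_dvd_left (orderOf_dvd_of_pow_eq_one hk) (Nat.Coprime.pow_left _ hKc.symm)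

theorem core {N : Subgroup G} (hNc : (Nat.card N).Coprime p) {z y : G} (hzp : ∃ k : ℕ, z ^ p ^ k = 1)
    (hz : ∀ n ∈ N, z * n * z⁻¹ ∈ N) (hy : y * z⁻¹ ∈ N) (ho : orderOf y = orderOf z) : ∃ m ∈ N, m * z * m⁻¹ = y := by
  have hzN := norm_of_one hz
  have hyB : zpowers y ≤ N ⊔ zpowers z := by
    rw [zpowers_le]
    have e : y = (y * z⁻¹) * z := by group
    rw [e]
    exact mul_mem (mem_sup_left hy) (mem_sup_right (mem_zpowers z))
  have hcop := coprime_of_pow hNc hzp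
  have hs : Group.IsSolvable (zpowers z) := Group.isSolvable_of_comm (fun a b => mul_comm' a b)
  obtain ⟨m, hm, hB⟩ := Cop.sz_rel hzN hyB (by rw [Nat.card_zpowers, Nat.card_zpowers, ho]) hcop.symm (Or.inr hs)
  refine ⟨m, hm, ?_⟩
  have h1 : m * z * m⁻¹ ∈ zpowers y := by
    rw [← hB, Cfsg.Agent.Hall.mem_conj_smul]
    have e : m⁻¹ * (m * z * m⁻¹) * m = z := by group
    rw [e]; exact mem_zpowers z
  have h2 : m * z * m⁻¹ * y⁻¹ ∈ zpowers y := mul_mem h1 (inv_mem (mem_zpowers y))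
  have h3 : m * z * m⁻¹ * y⁻¹ ∈ N := by
    have e : m * z * m⁻¹ * y⁻¹ = m * (z * m⁻¹ * z⁻¹) * (y * z⁻¹)⁻¹ := by group
    rw [e]
    exact mul_mem (mul_mem hm (hz _ (inv_mem hm))) (inv_mem hy)
  have hcop2 : (Nat.card (zpowers y)).Coprime (Nat.card N) := by
    rw [Nat.card_zpowers, ho, ← Nat.card_zpowers]; exact hcop
  have h4 := Cop.eq_one_of_mem_of_mem hcop2 h2 h3
  exact mul_inv_eq_one.1 h4

theorem exists_fix {N : Subgroup G} (hNc : (Nat.card N).Coprime p) {z x : G} (hzp : ∃ k : ℕ, z ^ p ^ k = 1)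
    (hz : ∀ n ∈ N, z * n * z⁻¹ ∈ N) (hx : x * z * x⁻¹ * z⁻¹ ∈ N) : ∃ n ∈ N, (n * x) * z = z * (n * x) := by
  obtain ⟨m, hm, h⟩ := core hNc hzp hz hx (by
    have : x * z * x⁻¹ = MulAut.conj x z := rfl
    rw [this]
    exact orderOf_injective (MulAut.conj x).toMonoidHom (MulAut.conj x).injective z)
  refine ⟨m⁻¹, inv_mem hm, ?_⟩
  calc m⁻¹ * x * z = m⁻¹ * (x * z * x⁻¹) * x := by group
    _ = m⁻¹ * (m * z * m⁻¹) * x := by rw [h]
    _ = z * (m⁻¹ * x) := by group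

theorem exists_per {K : Subgroup G} (hKc : (Nat.card K).Coprime p) {a w : G} (hap : ∃ k : ℕ, a ^ p ^ k = 1)
    (ha : ∀ x ∈ K, a * x * a⁻¹ ∈ K) (hw : w ∈ K) :
    ∃ c ∈ K, ∃ k ∈ K, w = c * k ∧ c * a = a * c ∧ k ∈ closure ({a, w⁻¹ * a * w} : Set G) := by
  set H := closure ({a, w⁻¹ * a * w} : Set G) with hH
  have h1 : a ∈ H := subset_closure (by simp)
  have h2 : w⁻¹ * a * w ∈ H := subset_closure (by simp)
  have hNc : (Nat.card ↥(K ⊓ H)).Coprime p :=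
    Nat.Coprime.coprime_dvd_left (Subgroup.card_dvd_of_le inf_le_left) hKc
  have hN1 : ∀ n ∈ K ⊓ H, a * n * a⁻¹ ∈ K ⊓ H := by
    intro n hn
    obtain ⟨hn1, hn2⟩ := Subgroup.mem_inf.1 hn
    exact Subgroup.mem_inf.2 ⟨ha n hn1, mul_mem (mul_mem h1 hn2) (inv_mem h1)⟩
  have hN2 : w⁻¹ * a * w * a⁻¹ ∈ K ⊓ H := by
    refine Subgroup.mem_inf.2 ⟨?_, mul_mem h2 (inv_mem h1)⟩
    have e : w⁻¹ * a * w * a⁻¹ = w⁻¹ * (a * w * a⁻¹) := by group
    rw [e]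
    exact mul_mem (inv_mem hw) (ha w hw)
  obtain ⟨m, hm, h⟩ := core (N := K ⊓ H) (z := a) (y := w⁻¹ * a * w) hNc hap hN1 hN2
    (by
      have : w⁻¹ * a * w = MulAut.conj w⁻¹ a := by simp
      rw [this]
      exact orderOf_injective (MulAut.conj w⁻¹).toMonoidHom (MulAut.conj w⁻¹).injective a)
  obtain ⟨hm1, hm2⟩ := Subgroup.mem_inf.1 hm
  refine ⟨w * m, mul_mem hw hm1, m⁻¹, inv_mem hm1, by group, ?_, inv_mem hm2⟩
  calc w * m * a = w * (m * a * m⁻¹) * m := by group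
    _ = w * (w⁻¹ * a * w) * m := by rw [h]
    _ = a * (w * m) := by group

theorem gen_cent {A K W : Subgroup G} (hAp : IsPGroup p A) (hab : ∀ a ∈ A, ∀ b ∈ A, a * b = b * a) (hnc : ¬ IsCyclic A)
    (hKc : (Nat.card K).Coprime p) (hA : ∀ a ∈ A, ∀ x ∈ K, a * x * a⁻¹ ∈ K)
    (h : ∀ a ∈ A, a ≠ 1 → ∀ x ∈ K, x * a = a * x → x ∈ W) : K ≤ W := by
  haveI : IsMulCommutative A := ⟨⟨fun a b => Subtype.ext (hab a a.2 b b.2)⟩⟩
  have hcop : (Nat.card A).Coprime (Nat.card K) := by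
    obtain ⟨n, hn⟩ := hAp.exists_card_eq
    rw [hn]
    exact Nat.Coprime.pow_left _ hKc.symm
  have h1 := Cfsg.Agent.H91.genCent_eq A K hnc (norm_of hA) hcop
  have h2 : Cfsg.Agent.H91.genCent A K ≤ W := by
    refine iSup₂_le ?_
    rintro a ⟨ha, ha1⟩ x ⟨hx, hxa⟩
    exact h a ha ha1 x hx ((Subgroup.mem_centralizer_singleton_iff.1 hxa))
  rw [h1] at h2
  exact h2

end Cfsg.Agent.CIT.PP
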