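import Cfsg.Agent.H53.T3
import Cfsg.Agent.H9.S4781B
import Cfsg.Agent.JY.S4781A
import Cfsg.Agent.JY.S4781I

/-!
# S4781, piece (S11a) (owner: helper57)
-/

set_option autoImplicit false
set_option linter.style.haveILetI false
set_option linter.unusedSectionVars false

namespace Cfsg.Agent.H53.D3

open scoped commutatorElement
open Cfsg Cfsg.Agent.CharBase Cfsg.Agent.Char Cfsg.Agent.H75

universe u

variable {G : Type u} [Group G] [Finite G] {K L Y C : Subgroup G} [hL : L.Normal] {p r k : ℕ}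

/-- orbit counting -/
theorem dvd_card_of_stab {A Ω : Type*} [Group A] [Finite A] [MulAction A Ω] [Finite Ω] (n : ℕ)
    (h : ∀ x : Ω, n ∣ (MulAction.stabilizer A x).index) : n ∣ Nat.card Ω := by
  classical
  haveI := Fintype.ofFinite Ω
  haveI : Fintype (Quotient (MulAction.orbitRel A Ω)) := Fintype.ofFinite _
  rw [Nat.card_congr (MulAction.selfEquivSigmaOrbits A Ω), Nat.card_sigma]
  apply Finset.dvd_sum
  intro ω _
  rw [Nat.card_coe_set_eq, ← MulAction.index_stabilizer]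
  exact h _

/-- a power outside `L` with prime power in `L` -/
theorem exists_prime_power_out (L : Subgroup G) [hL : L.Normal] {y : G} (hy : y ∉ L) :
    ∃ (n t : ℕ), t.Prime ∧ t ∣ L.index ∧ y ^ n ∉ L ∧ (y ^ n) ^ t ∈ L := by
  classical
  set π := QuotientGroup.mk' L with hπ
  have hker : ∀ x : G, π x = 1 ↔ x ∈ L := fun x => by
    rw [hπ]; exact QuotientGroup.eq_one_iff x
  set o := orderOf (π y) with ho
  have ho1 : o ≠ 1 := by
    intro h1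
    rw [ho, orderOf_eq_one_iff, hker] at h1
    exact hy h1
  have ho0 : 0 < o := orderOf_pos _
  obtain ⟨m, hm⟩ := Nat.minFac_dvd o
  have ht : (Nat.minFac o).Prime := Nat.minFac_prime ho1
  have hm0 : 0 < m := by
    rcases Nat.eq_zero_or_pos m with h | h
    · rw [h, mul_zero] at hm; omega
    · exact h
  refine ⟨m, Nat.minFac o, ht, ?_, ?_, ?_⟩
  · refine (Nat.minFac_dvd o).trans ?_
    have h1 : o ∣ Nat.card (G ⧸ L) := orderOf_dvd_natCard _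
    exact h1
  · rw [← hker, map_pow]
    intro h1
    have h2 := Nat.le_of_dvd hm0 (orderOf_dvd_of_pow_eq_one h1)
    rw [← ho] at h2
    have h3 := ht.two_le
    nlinarith
  · rw [← hker, map_pow, map_pow, ← pow_mul, mul_comm, ← hm, ho, pow_orderOf_eq_one]

namespace Core2

theorem relC (c : Core2 G K L Y C p r k) : C.relIndex (L ⊓ Y) = (⁅L, L⁆ ⊔ C).relIndex L := by
  have hd : ⁅L, L⁆ ⊓ C = ⊥ := by
    rw [eq_bot_iff, ← c.h1]
    exact inf_le_inf le_rfl (c.hCB.trans inf_le_right)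
  have e1 := card_sup_of_disjoint ⁅L, L⁆ C hd
  have e2 := card_sup_of_disjoint ⁅L, L⁆ (L ⊓ Y) c.toCore.h3
  rw [c.toCore.h4] at e2
  have e3 := Subgroup.relIndex_mul_relIndex ⊥ (⁅L, L⁆ ⊔ C) L bot_le
    (sup_le (Subgroup.commutator_le_left L L) (c.hCB.trans inf_le_left))
  have e4 := Subgroup.relIndex_mul_relIndex ⊥ C (L ⊓ Y) bot_le c.hCB
  rw [Subgroup.relIndex_bot_left, Subgroup.relIndex_bot_left] at e3 e4
  rw [e1, e2, ← e4, mul_assoc] at e3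
  have h5 := Nat.eq_of_mul_eq_mul_left Nat.card_pos e3
  exact (Nat.eq_of_mul_eq_mul_left Nat.card_pos h5).symm

theorem s11a (c : Core2 G K L Y C p r k)
    (hcen : ∀ a ∈ ⁅⁅L, L⁆, ⁅L, L⁆⁆, ∀ h ∈ ⁅L, L⁆, a * h = h * a)
    (hne : ⁅⁅L, L⁆, ⁅L, L⁆⁆ ≠ ⊥) :
    ⁅⁅L, L⁆, ⁅L, L⁆⁆.relIndex ⁅L, L⁆ ≤ Nat.card ↥⁅⁅L, L⁆, ⁅L, L⁆⁆ := by
  classical
  have hr2 : 2 ≤ r := c.hr.two_le
  have hW : Nat.card (↥⁅L, L⁆ →* ℂˣ) = r ^ k := by rw [card_hom', c.hV]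
  have hW1 : 1 < Nat.card (↥⁅L, L⁆ →* ℂˣ) := by
    rw [hW]; exact Nat.one_lt_pow c.hk.ne' hr2
  haveI : Nontrivial (↥⁅L, L⁆ →* ℂˣ) := Finite.one_lt_card_iff_nontrivial.mp hW1
  obtain ⟨w0, hw0⟩ := exists_ne (1 : ↥⁅L, L⁆ →* ℂˣ)
  obtain ⟨y1, hy1Y, hy1L, hy1s⟩ := c.toCore.exists_y w0 hw0
  obtain ⟨e, t, ht, htL, hy0L, hy0t⟩ := exists_prime_power_out L hy1L
  set y0 : G := y1 ^ e with hy0
  have hy0Y : y0 ∈ Y := Y.pow_mem hy1Y e
  have hy0s : y0 ∈ St ⁅L, L⁆ w0 := Subgroup.pow_mem _ hy1s e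
  -- the subgroups of `Y`
  let B' : Subgroup Y := L.subgroupOf Y
  let C' : Subgroup Y := C.subgroupOf Y
  haveI hB'n : B'.Normal := inferInstance
  have hC'c : ∀ x ∈ C', ∀ y : Y, y * x = x * y := by
    intro x hx y
    exact Subtype.ext (c.hCc x hx y y.2)
  haveI hC'n : C'.Normal := by
    constructor
    intro n hn g
    rw [hC'c n hn g, mul_inv_cancel_right]
    exact hn
  have hCB' : C' ≤ B' := by
    intro x hx
    exact (c.hCB hx).1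
  have hab : ∀ a ∈ B', ∀ b ∈ B', a * b = b * a := by
    intro a ha b hb
    exact Subtype.ext (c.hB a ⟨ha, a.2⟩ b ⟨hb, b.2⟩)
  let Y0 : Y := ⟨y0, hy0Y⟩
  let Z' : Subgroup Y :=
    { carrier := {b | b ∈ B' ∧ b * Y0 * b⁻¹ * Y0⁻¹ ∈ C'}
      one_mem' := by
        refine ⟨B'.one_mem, ?_⟩
        simp
      mul_mem' := by
        rintro a b ⟨ha, ha'⟩ ⟨hb, hb'⟩
        refine ⟨B'.mul_mem ha hb, ?_⟩
        have h1 : a * b * Y0 * (a * b)⁻¹ * Y0⁻¹ =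
            (a * (b * Y0 * b⁻¹ * Y0⁻¹) * a⁻¹) * (a * Y0 * a⁻¹ * Y0⁻¹) := by group
        rw [h1]
        exact C'.mul_mem (hC'n.conj_mem _ hb' a) ha'
      inv_mem' := by
        rintro a ⟨ha, ha'⟩
        refine ⟨B'.inv_mem ha, ?_⟩
        have h1 : a⁻¹ * Y0 * a⁻¹⁻¹ * Y0⁻¹ = a⁻¹ * (a * Y0 * a⁻¹ * Y0⁻¹)⁻¹ * a⁻¹⁻¹ := by group
        rw [h1]
        exact hC'n.conj_mem _ (C'.inv_mem ha') a⁻¹ }
  have hZ' : ∀ b, b ∈ Z' ↔ b ∈ B' ∧ b * Y0 * b⁻¹ * Y0⁻¹ ∈ C' := fun b => Iff.rfl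
  -- the count on `W`
  letI act : MulDistribMulAction Y (↥⁅L, L⁆ →* ℂˣ) := homAct ⁅L, L⁆ Y
  have hfix : ∀ (y : Y) (μ : ↥⁅L, L⁆ →* ℂˣ), y • μ = μ ↔ (y : G) ∈ St ⁅L, L⁆ μ := fun y μ =>
    homAct_fix ⁅L, L⁆ Y y μ
  have hcop : ¬ t ∣ C'.relIndex B' := by
    have h1 : C'.relIndex B' = C.relIndex (L ⊓ Y) := by
      show (C.subgroupOf Y).relIndex (L.subgroupOf Y) = _
      rw [← Subgroup.inf_subgroupOf_right L Y]
      exact Subgroup.relIndex_subgroupOf inf_le_right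
    rw [h1, c.relC]
    obtain ⟨ψ, hψ, hψd⟩ := c.hdeg
    obtain ⟨-, -, -, -, h2⟩ := c.hyp.ext ψ hψ
    rw [← hψd]
    intro h3
    have h4 : t ∣ 1 := by
      rw [← h2]
      exact Nat.dvd_gcd h3 htL
    exact ht.one_lt.ne' (Nat.dvd_one.mp h4)
  have hcount := Cfsg.Agent.H9.S4781.count (Y := Y) (W := ↥⁅L, L⁆ →* ℂˣ) B' C' Z' hCB' hab
    (by
      intro w hw b hb
      rw [hfix]
      exact c.hCs w hw b ⟨hb, b.2⟩)
    (by
      intro w y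
      obtain ⟨b, hb, hbs⟩ := c.toCore.Ytransit w y
      refine ⟨⟨b, hb.2⟩, hb.1, ?_⟩
      have h1 : ((⟨b, hb.2⟩ : Y)⁻¹ * y) • w = w := by
        rw [hfix]; exact hbs
      rw [mul_smul, inv_smul_eq_iff] at h1
      exact h1)
    ht (y0 := Y0) hy0L hy0t hcop hw0 (by rw [hfix]; exact hy0s) hZ'
  -- fixed points of `y0`
  let F : Subgroup (↥⁅L, L⁆ →* ℂˣ) :=
    { carrier := {w | Y0 • w = w}
      one_mem' := smul_one Y0
      mul_mem' := by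
        intro a b ha hb
        exact (smul_mul' Y0 a b).trans (congrArg₂ (· * ·) ha hb)
      inv_mem' := by
        intro a ha
        exact (smul_inv' Y0 a).trans (congrArg (·⁻¹) ha) }
  have hF : Nat.card {w : ↥⁅L, L⁆ →* ℂˣ // Y0 • w = w} = Nat.card F := rfl
  obtain ⟨m, hmk, hm⟩ := (Nat.dvd_prime_pow c.hr).mp (hW ▸ Subgroup.card_subgroup_dvd_card F)
  rw [hF, hm, hW] at hcount
  have hm1 : 1 ≤ m := by
    by_contra h0
    have h1 : m = 0 := by omega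
    rw [h1, pow_zero, Subgroup.card_eq_one] at hm
    have h2 : w0 ∈ F := by
      show Y0 • w0 = w0
      rw [hfix]; exact hy0s
    rw [hm, Subgroup.mem_bot] at h2
    exact hw0 h2
  have hmk' : m < k := by
    rcases hmk.lt_or_eq with h | h
    · exact h
    exfalso
    rw [h] at hcount
    have h1 : 0 < r ^ k - 1 := by
      have := Nat.one_lt_pow c.hk.ne' hr2
      omega
    have h2 : Z'.relIndex B' = 1 := by
      have h3 : 1 * (r ^ k - 1) = Z'.relIndex B' * (r ^ k - 1) := by rw [one_mul]; exact hcount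
      exact (Nat.eq_of_mul_eq_mul_right h1 h3).symm
    rw [Subgroup.relIndex_eq_one] at h2
    obtain ⟨x, hx, hxK⟩ := c.toCore.exists_x
    have h3 : (⟨x, hx.2⟩ : Y) ∈ Z' := h2 (show (⟨x, hx.2⟩ : Y) ∈ L.subgroupOf Y from hx.1)
    apply hxK
    exact c.toCore.mem_K_of_comm hx.1 hy0L (c.hCK h3.2)
  -- `H1`
  have hH1p : IsPGroup r ↥⁅⁅L, L⁆, ⁅L, L⁆⁆ := Cfsg.Agent.JY.S4781I.rgroup hcen c.hr c.hV
  haveI : Fact r.Prime := ⟨c.hr⟩
  obtain ⟨k', hk'⟩ := IsPGroup.iff_card.mp hH1p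
  have hk'1 : 1 ≤ k' := by
    by_contra h0
    have h1 : k' = 0 := by omega
    rw [h1, pow_zero, Subgroup.card_eq_one] at hk'
    exact hne hk'
  have hH1c : ⁅⁅⁅L, L⁆, ⁅L, L⁆⁆, ⁅⁅L, L⁆, ⁅L, L⁆⁆⁆ = ⊥ := by
    rw [eq_bot_iff, Subgroup.commutator_le]
    intro a ha b hb
    rw [Subgroup.mem_bot, commutatorElement_eq_one_iff_mul_comm]
    exact hcen a ha b (Subgroup.commutator_le_left _ _ hb)
  have hW1c : Nat.card (↥⁅⁅L, L⁆, ⁅L, L⁆⁆ →* ℂˣ) = r ^ k' := by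
    rw [card_hom', hH1c, Subgroup.relIndex_bot_left, hk']
  have hn : Z'.relIndex B' ∣ r ^ k' - 1 := by
    letI act1 : MulDistribMulAction Y (↥⁅⁅L, L⁆, ⁅L, L⁆⁆ →* ℂˣ) := homAct ⁅⁅L, L⁆, ⁅L, L⁆⁆ Y
    have hfix1 : ∀ (y : Y) (μ : ↥⁅⁅L, L⁆, ⁅L, L⁆⁆ →* ℂˣ), y • μ = μ ↔
        (y : G) ∈ St ⁅⁅L, L⁆, ⁅L, L⁆⁆ μ := fun y μ => homAct_fix _ Y y μ
    let Ω : SubMulAction B' (↥⁅⁅L, L⁆, ⁅L, L⁆⁆ →* ℂˣ) :=
      { carrier := {μ | μ ≠ 1}
        smul_mem' := by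
          intro b μ hμ h1
          apply hμ
          have h2 : (b : Y) • μ = 1 := h1
          have h3 : μ = (b : Y)⁻¹ • (1 : ↥⁅⁅L, L⁆, ⁅L, L⁆⁆ →* ℂˣ) := by
            rw [← h2, inv_smul_smul]
          exact h3.trans (act1.smul_one (b : Y)⁻¹) }
    have h1 : Nat.card Ω = r ^ k' - 1 := by
      have h2 : Nat.card Ω = ({1}ᶜ : Set (↥⁅⁅L, L⁆, ⁅L, L⁆⁆ →* ℂˣ)).ncard := rfl
      rw [h2, Set.ncard_compl, Set.ncard_singleton, hW1c]
    rw [← h1]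
    apply dvd_card_of_stab (A := B') (Ω := Ω)
    intro μ
    rw [Subgroup.relIndex]
    apply Subgroup.index_dvd_of_le
    intro b hb
    rw [MulAction.mem_stabilizer_iff] at hb
    have h2 : (b : Y) • (μ : ↥⁅⁅L, L⁆, ⁅L, L⁆⁆ →* ℂˣ) = μ := congrArg Subtype.val hb
    rw [hfix1] at h2
    have h3 := c.toCore.central_of_fix ⁅⁅L, L⁆, ⁅L, L⁆⁆ (Subgroup.commutator_le_left _ _)
      (μ : ↥⁅⁅L, L⁆, ⁅L, L⁆⁆ →* ℂˣ) μ.2 ⟨b.2, (b : Y).2⟩ h2 y0 hy0Y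
    rw [Subgroup.mem_subgroupOf, hZ']
    refine ⟨b.2, ?_⟩
    have h4 : (b : Y) * Y0 * (b : Y)⁻¹ * Y0⁻¹ = 1 := by
      rw [mul_inv_eq_one, mul_inv_eq_iff_eq_mul]
      exact Subtype.ext h3.symm
    rw [h4]
    exact C'.one_mem
  have hfin := Cfsg.Agent.JY.S4781A.num hr2 hm1 hmk' hk'1 hcount hn
  rw [c.hV, hk']
  exact Nat.pow_le_pow_right (by omega) hfin

end Core2

end Cfsg.Agent.H53.D3
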